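import Mathlib
import Cfsg.Prelude.Def_LieExceptional

/-!
# CN-groups and maximal nilpotent subgroups (helper25)

Elementary facts on finite nilpotent groups (coprime-order elements commute, primary decomposition of
an element, central `q`-elements) and on maximal nilpotent subgroups of CN-groups.
-/

set_option autoImplicit false
set_option linter.style.haveILetI false
set_option linter.unusedVariables false

namespace Cfsg.Agent.Helper25

/-- In a nilpotent group, elements of coprime orders commute. -/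
theorem commute_of_coprime_orderOf_of_isNilpotent (K : Type*) [Group K] [Group.IsNilpotent K] :
    ∀ x u : K, (orderOf x).Coprime (orderOf u) → Commute x u := by
  refine Group.nilpotent_center_quotient_ind
    (P := fun K _ _ => ∀ x u : K, (orderOf x).Coprime (orderOf u) → Commute x u) K ?_ ?_
  · intro K _ _ x u _
    exact Subsingleton.elim _ _
  · intro K _ _ ih x u hcop
    have h1 : orderOf (QuotientGroup.mk x : K ⧸ Subgroup.center K) ∣ orderOf x :=
      orderOf_dvd_of_pow_eq_one (by rw [← QuotientGroup.mk_pow, pow_orderOf_eq_one]; rfl)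
    have h2 : orderOf (QuotientGroup.mk u : K ⧸ Subgroup.center K) ∣ orderOf u :=
      orderOf_dvd_of_pow_eq_one (by rw [← QuotientGroup.mk_pow, pow_orderOf_eq_one]; rfl)
    have hc := ih _ _ (Nat.Coprime.coprime_dvd_left h1 (Nat.Coprime.coprime_dvd_right h2 hcop))
    have hz : x * u * x⁻¹ * u⁻¹ ∈ Subgroup.center K := by
      rw [← QuotientGroup.eq_one_iff]
      simp only [QuotientGroup.mk_mul, QuotientGroup.mk_inv]
      rw [hc.eq]
      group
    set z := x * u * x⁻¹ * u⁻¹ with hzdef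
    have hzc : ∀ k : K, k * z = z * k := fun k => (Subgroup.mem_center_iff.mp hz k)
    have e1 : x * u * x⁻¹ = z * u := by rw [hzdef]; group
    have e2 : u * x⁻¹ * u⁻¹ = x⁻¹ * z := by rw [hzdef]; group
    have hzn : z ^ orderOf u = 1 := by
      have h : (z * u) ^ orderOf u = 1 := by
        rw [← e1, conj_pow, pow_orderOf_eq_one]; group
      have hcm : Commute z u := (hzc u).symm
      rwa [hcm.mul_pow, pow_orderOf_eq_one, mul_one] at h
    have hzm : z ^ orderOf x = 1 := by
      have h : (x⁻¹ * z) ^ orderOf x = 1 := by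
        rw [← e2, conj_pow, inv_pow, pow_orderOf_eq_one]; group
      have hcm : Commute x⁻¹ z := hzc x⁻¹
      rwa [hcm.mul_pow, inv_pow, pow_orderOf_eq_one, inv_one, one_mul] at h
    have hz1 : z = 1 := by
      have hd : orderOf z ∣ Nat.gcd (orderOf x) (orderOf u) :=
        Nat.dvd_gcd (orderOf_dvd_of_pow_eq_one hzm) (orderOf_dvd_of_pow_eq_one hzn)
      rw [Nat.Coprime] at hcop
      rw [hcop] at hd
      exact orderOf_eq_one_iff.mp (Nat.dvd_one.mp hd)
    have h3 : x * u * x⁻¹ = u := by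
      rw [hzdef] at hz1
      exact mul_inv_eq_one.mp hz1
    exact mul_inv_eq_iff_eq_mul.mp h3

/-- Coprime-order elements of a nilpotent subgroup commute. -/
theorem commute_of_coprime_of_mem_nilpotent {G : Type*} [Group G] (K : Subgroup G)
    (hK : Group.IsNilpotent K) {x u : G} (hx : x ∈ K) (hu : u ∈ K)
    (h : (orderOf x).Coprime (orderOf u)) : Commute x u := by
  haveI := hK
  have := commute_of_coprime_orderOf_of_isNilpotent K ⟨x, hx⟩ ⟨u, hu⟩
    (by rwa [Subgroup.orderOf_mk, Subgroup.orderOf_mk])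
  have h2 := congrArg (Subtype.val) this.eq
  exact h2

/-- Primary decomposition of an element of finite order: `h = a * b`, with `a` a `p`-element and `b`
of order prime to `p`, both powers of `h`. -/
theorem exists_primary_decomp {G : Type*} [Group G] (p : ℕ) (hp : p.Prime) (h : G)
    (hfin : orderOf h ≠ 0) :
    ∃ a b : G, h = a * b ∧ a ∈ Subgroup.zpowers h ∧ b ∈ Subgroup.zpowers h ∧
      (∃ k, orderOf a = p ^ k) ∧ (orderOf b).Coprime p := by
  obtain ⟨e, m, hm, hn⟩ := Nat.exists_eq_pow_mul_and_not_dvd hfin p hp.ne_one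
  have hcop : Nat.Coprime (p ^ e) m :=
    Nat.Coprime.pow_left e ((Nat.Prime.coprime_iff_not_dvd hp).mpr hm)
  have hbez : (1 : ℤ) = ((p ^ e : ℕ) : ℤ) * Nat.gcdA (p ^ e) m + (m : ℤ) * Nat.gcdB (p ^ e) m := by
    have := Nat.gcd_eq_gcd_ab (p ^ e) m
    rw [Nat.Coprime] at hcop
    rw [hcop] at this
    exact_mod_cast this
  refine ⟨h ^ ((m : ℤ) * Nat.gcdB (p ^ e) m), h ^ (((p ^ e : ℕ) : ℤ) * Nat.gcdA (p ^ e) m), ?_,
    ⟨_, rfl⟩, ⟨_, rfl⟩, ?_, ?_⟩
  · rw [← zpow_add, add_comm, ← hbez, zpow_one]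
  · have h1 : (h ^ ((m : ℤ) * Nat.gcdB (p ^ e) m)) ^ (p ^ e) = 1 := by
      rw [← zpow_natCast, ← zpow_mul]
      have : (m : ℤ) * Nat.gcdB (p ^ e) m * ((p ^ e : ℕ) : ℤ) = ((orderOf h : ℕ) : ℤ) * Nat.gcdB (p ^ e) m := by
        rw [hn]; push_cast; ring
      rw [this, zpow_mul, zpow_natCast, pow_orderOf_eq_one, one_zpow]
    obtain ⟨k, -, hk⟩ := (Nat.dvd_prime_pow hp).mp (orderOf_dvd_of_pow_eq_one h1)
    exact ⟨k, hk⟩
  · have h1 : (h ^ (((p ^ e : ℕ) : ℤ) * Nat.gcdA (p ^ e) m)) ^ m = 1 := by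
      rw [← zpow_natCast, ← zpow_mul]
      have : ((p ^ e : ℕ) : ℤ) * Nat.gcdA (p ^ e) m * (m : ℤ) = ((orderOf h : ℕ) : ℤ) * Nat.gcdA (p ^ e) m := by
        rw [hn]; push_cast; ring
      rw [this, zpow_mul, zpow_natCast, pow_orderOf_eq_one, one_zpow]
    exact Nat.Coprime.coprime_dvd_left (orderOf_dvd_of_pow_eq_one h1)
      ((Nat.Prime.coprime_iff_not_dvd hp).mpr hm).symm

/-- A subgroup `T` containing all elements of prime power order of `M` contains `M`. -/
theorem le_of_forall_primePow_mem {G : Type*} [Group G] [Finite G] (M T : Subgroup G)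
    (h : ∀ c ∈ M, ∀ q n : ℕ, q.Prime → orderOf c = q ^ n → c ∈ T) : M ≤ T := by
  have key : ∀ N : ℕ, ∀ c ∈ M, orderOf c = N → c ∈ T := by
    intro N
    induction N using Nat.strong_induction_on with
    | _ N ih =>
      intro c hc hN
      by_cases hc1 : c = 1
      · rw [hc1]; exact T.one_mem
      have hN1 : orderOf c ≠ 1 := fun h1 => hc1 (orderOf_eq_one_iff.mp h1)
      obtain ⟨q, hq, hqd⟩ := Nat.exists_prime_and_dvd hN1
      obtain ⟨a, b, hab, ha, hb, ⟨k, hk⟩, hbq⟩ := exists_primary_decomp q hq c (orderOf_pos c).ne'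
      have haM : a ∈ M := Subgroup.zpowers_le.mpr hc ha
      have hbM : b ∈ M := Subgroup.zpowers_le.mpr hc hb
      have hbd : orderOf b ∣ orderOf c := orderOf_dvd_of_mem_zpowers hb
      have hblt : orderOf b < N := by
        rw [← hN]
        refine lt_of_le_of_ne (Nat.le_of_dvd (orderOf_pos c) hbd) ?_
        intro heq
        rw [← heq] at hqd
        have := Nat.Coprime.eq_one_of_dvd hbq.symm hqd
        exact hq.ne_one this
      rw [hab]
      exact T.mul_mem (h a haM q k hq hk) (ih _ hblt b hbM rfl)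
  intro c hc
  exact key _ c hc rfl

/-- In a finite nilpotent subgroup, a `q`-element commuting with all `q`-elements is central. -/
theorem central_of_commute_pElts {G : Type*} [Group G] [Finite G] (K : Subgroup G)
    (hK : Group.IsNilpotent K) (q : ℕ) (hq : q.Prime) {w : G} (hw : w ∈ K)
    (hwq : ∃ n, orderOf w = q ^ n)
    (hc : ∀ k ∈ K, (∃ n, orderOf k = q ^ n) → Commute w k) : ∀ k ∈ K, Commute w k := by
  intro k hk
  obtain ⟨a, b, hab, ha, hb, hak, hbq⟩ := exists_primary_decomp q hq k (orderOf_pos k).ne'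
  have haK : a ∈ K := Subgroup.zpowers_le.mpr hk ha
  have hbK : b ∈ K := Subgroup.zpowers_le.mpr hk hb
  obtain ⟨n, hn⟩ := hwq
  have h1 : Commute w a := hc a haK hak
  have h2 : Commute w b := by
    apply commute_of_coprime_of_mem_nilpotent K hK hw hbK
    rw [hn]
    exact Nat.Coprime.pow_left n hbq.symm
  rw [hab]
  exact h1.mul_right h2

/-- The `q`-elements of a finite nilpotent subgroup form a `q`-subgroup. -/
theorem exists_pElts_subgroup {G : Type*} [Group G] [Finite G] (K : Subgroup G)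
    (hK : Group.IsNilpotent K) (q : ℕ) (hq : q.Prime) :
    ∃ Q : Subgroup G, IsPGroup q Q ∧ ∀ k : G, k ∈ Q ↔ (k ∈ K ∧ ∃ n, orderOf k = q ^ n) := by
  haveI := hK
  haveI : Fact q.Prime := ⟨hq⟩
  obtain ⟨P₀⟩ : Nonempty (Sylow q K) := inferInstance
  refine ⟨(P₀ : Subgroup K).map K.subtype, P₀.isPGroup'.map _, ?_⟩
  intro k
  constructor
  · rintro ⟨k', hk', rfl⟩
    refine ⟨k'.2, ?_⟩
    obtain ⟨n, hn⟩ := (IsPGroup.iff_orderOf.mp P₀.isPGroup') ⟨k', hk'⟩
    refine ⟨n, ?_⟩
    rw [← hn]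
    simp [Subgroup.orderOf_mk]
  · rintro ⟨hk, n, hn⟩
    have hz : IsPGroup q (Subgroup.zpowers (⟨k, hk⟩ : K)) := by
      apply IsPGroup.of_card (n := n)
      rw [Nat.card_zpowers, Subgroup.orderOf_mk, hn]
    obtain ⟨P', hP'⟩ := hz.exists_le_sylow
    obtain ⟨g, hg⟩ := MulAction.exists_smul_eq K P₀ P'
    rw [Sylow.smul_eq_of_normal] at hg
    rw [← hg] at hP'
    exact ⟨⟨k, hk⟩, hP' (Subgroup.mem_zpowers _), rfl⟩

/-- A finite nilpotent subgroup containing a nontrivial `q`-element contains a nontrivial central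
`q`-element. -/
theorem exists_central_pElt {G : Type*} [Group G] [Finite G] (K : Subgroup G)
    (hK : Group.IsNilpotent K) (q : ℕ) (hq : q.Prime) {k : G} (hk : k ∈ K) (hk1 : k ≠ 1)
    (hkq : ∃ n, orderOf k = q ^ n) :
    ∃ w ∈ K, w ≠ 1 ∧ (∃ n, orderOf w = q ^ n) ∧ ∀ h ∈ K, Commute w h := by
  haveI : Fact q.Prime := ⟨hq⟩
  obtain ⟨Q, hQ, hQmem⟩ := exists_pElts_subgroup K hK q hq
  have hkQ : k ∈ Q := (hQmem k).mpr ⟨hk, hkq⟩
  haveI : Nontrivial Q := ⟨⟨⟨k, hkQ⟩, 1, fun h => hk1 (congrArg Subtype.val h)⟩⟩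
  haveI := hQ.center_nontrivial
  obtain ⟨w, hw⟩ := exists_ne (1 : Subgroup.center Q)
  have hwQ : ((w : Q) : G) ∈ Q := (w : Q).2
  have hwK := ((hQmem _).mp hwQ)
  refine ⟨((w : Q) : G), hwK.1, ?_, hwK.2, ?_⟩
  · intro h
    apply hw
    ext
    exact h
  · apply central_of_commute_pElts K hK q hq hwK.1 hwK.2
    intro k' hk' hk'q
    have hk'Q : k' ∈ Q := (hQmem k').mpr ⟨hk', hk'q⟩
    have := Subgroup.mem_center_iff.mp w.2 ⟨k', hk'Q⟩
    have h2 := congrArg Subtype.val this
    exact h2.symm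

/-- A nilpotent subgroup contained in no larger nilpotent subgroup. -/
def IsMaxNilp {G : Type*} [Group G] (H : Subgroup G) : Prop :=
  Group.IsNilpotent H ∧ ∀ L : Subgroup G, Group.IsNilpotent L → H ≤ L → L = H

/-- In a CN-group, the centralizer of a nontrivial central element of a maximal nilpotent subgroup
`H` is `H`. -/
theorem centralizer_eq_of_central {G : Type*} [Group G] (hCN : Cfsg.IsCNGroup G) (H : Subgroup G)
    (hH : IsMaxNilp H) {y : G} (hy1 : y ≠ 1) (hy : ∀ h ∈ H, Commute y h) :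
    Subgroup.centralizer ({y} : Set G) = H := by
  apply hH.2 _ (hCN y hy1)
  intro h hh
  rw [Subgroup.mem_centralizer_iff]
  intro z hz
  rw [Set.mem_singleton_iff] at hz
  rw [hz]
  exact (hy h hh).eq

/-- Key lemma: a `q`-subgroup `R` of a CN-group containing all `q`-elements of a maximal nilpotent
subgroup `H` (which has a nontrivial `q`-element) lies in `H`; moreover `H` is the centralizer of every
nontrivial central element of `R`. -/
theorem centralizer_eq_of_mem_center_pGroup {G : Type*} [Group G] [Finite G] (hCN : Cfsg.IsCNGroup G)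
    (H : Subgroup G) (hH : IsMaxNilp H) (q : ℕ) (hq : q.Prime) (R : Subgroup G) (hR : IsPGroup q R)
    (hsub : ∀ k ∈ H, (∃ n, orderOf k = q ^ n) → k ∈ R)
    (hex : ∃ k ∈ H, k ≠ 1 ∧ ∃ n, orderOf k = q ^ n)
    {w : G} (hw : w ∈ R) (hw1 : w ≠ 1) (hwc : ∀ r ∈ R, Commute w r) :
    Subgroup.centralizer ({w} : Set G) = H := by
  haveI : Fact q.Prime := ⟨hq⟩
  obtain ⟨k, hk, hk1, hkq⟩ := hex
  obtain ⟨y, hyH, hy1, hyq, hyc⟩ := exists_central_pElt H hH.1 q hq hk hk1 hkq
  have hCy := centralizer_eq_of_central hCN H hH hy1 hyc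
  have hyR : y ∈ R := hsub y hyH hyq
  have hwH : w ∈ H := by
    rw [← hCy, Subgroup.mem_centralizer_iff]
    intro z hz
    rw [Set.mem_singleton_iff] at hz
    rw [hz]
    exact ((hwc y hyR).eq).symm
  have hwq : ∃ n, orderOf w = q ^ n := by
    obtain ⟨n, hn⟩ := (IsPGroup.iff_orderOf.mp hR) ⟨w, hw⟩
    exact ⟨n, by rw [← hn]; simp [Subgroup.orderOf_mk]⟩
  have hwZ : ∀ h ∈ H, Commute w h :=
    central_of_commute_pElts H hH.1 q hq hwH hwq (fun k' hk' hk'q => hwc k' (hsub k' hk' hk'q))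
  exact centralizer_eq_of_central hCN H hH hw1 hwZ

theorem le_of_isPGroup_of_pElts_le {G : Type*} [Group G] [Finite G] (hCN : Cfsg.IsCNGroup G)
    (H : Subgroup G) (hH : IsMaxNilp H) (q : ℕ) (hq : q.Prime) (R : Subgroup G) (hR : IsPGroup q R)
    (hsub : ∀ k ∈ H, (∃ n, orderOf k = q ^ n) → k ∈ R)
    (hex : ∃ k ∈ H, k ≠ 1 ∧ ∃ n, orderOf k = q ^ n) : R ≤ H := by
  haveI : Fact q.Prime := ⟨hq⟩
  obtain ⟨k, hk, hk1, hkq⟩ := hex
  have hkR : k ∈ R := hsub k hk hkq
  haveI : Nontrivial R := ⟨⟨⟨k, hkR⟩, 1, fun h => hk1 (congrArg Subtype.val h)⟩⟩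
  haveI := hR.center_nontrivial
  obtain ⟨w, hw⟩ := exists_ne (1 : Subgroup.center R)
  have hwc : ∀ r ∈ R, Commute ((w : R) : G) r := by
    intro r hr
    have := Subgroup.mem_center_iff.mp w.2 ⟨r, hr⟩
    exact (congrArg Subtype.val this).symm
  have hw1 : ((w : R) : G) ≠ 1 := by
    intro h
    apply hw
    ext
    exact h
  have hC := centralizer_eq_of_mem_center_pGroup hCN H hH q hq R hR hsub ⟨k, hk, hk1, hkq⟩
    (w : R).2 hw1 hwc
  intro r hr
  rw [← hC, Subgroup.mem_centralizer_iff]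
  intro z hz
  rw [Set.mem_singleton_iff] at hz
  rw [hz]
  exact (hwc r hr).eq

theorem mem_map_conj_iff' {G : Type*} [Group G] {H : Subgroup G} {g x : G} :
    x ∈ H.map (MulAut.conj g).toMonoidHom ↔ g⁻¹ * x * g ∈ H := by
  constructor
  · rintro ⟨h, hh, rfl⟩
    have : g⁻¹ * (MulAut.conj g).toMonoidHom h * g = h := by
      show g⁻¹ * (g * h * g⁻¹) * g = h
      group
    rw [this]
    exact hh
  · intro hx
    refine ⟨g⁻¹ * x * g, hx, ?_⟩
    simp [MulAut.conj_apply, mul_assoc]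

theorem conj_mem_map_conj' {G : Type*} [Group G] {H : Subgroup G} (g : G) {h : G} (hh : h ∈ H) :
    g * h * g⁻¹ ∈ H.map (MulAut.conj g).toMonoidHom := by
  rw [mem_map_conj_iff']
  have : g⁻¹ * (g * h * g⁻¹) * g = h := by group
  rw [this]
  exact hh

theorem orderOf_conj' {G : Type*} [Group G] (g h : G) : orderOf (g * h * g⁻¹) = orderOf h := by
  have := orderOf_injective (MulAut.conj g).toMonoidHom (MulAut.conj g).injective h
  simpa [MulAut.conj_apply] using this

theorem IsMaxNilp.conj {G : Type*} [Group G] {H : Subgroup G} (hH : IsMaxNilp H) (g : G) :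
    IsMaxNilp (H.map (MulAut.conj g).toMonoidHom) := by
  refine ⟨?_, ?_⟩
  · haveI := hH.1
    exact Group.nilpotent_of_mulEquiv (H.equivMapOfInjective _ (MulAut.conj g).injective)
  · intro L hL hle
    have hL' : Group.IsNilpotent (L.map (MulAut.conj g⁻¹).toMonoidHom) := by
      haveI := hL
      exact Group.nilpotent_of_mulEquiv (L.equivMapOfInjective _ (MulAut.conj g⁻¹).injective)
    have hle' : H ≤ L.map (MulAut.conj g⁻¹).toMonoidHom := by
      intro h hh
      rw [mem_map_conj_iff', inv_inv]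
      exact hle (conj_mem_map_conj' g hh)
    have heq := hH.2 _ hL' hle'
    ext x
    rw [mem_map_conj_iff', ← heq, mem_map_conj_iff', inv_inv]
    have : g * (g⁻¹ * x * g) * g⁻¹ = x := by group
    rw [this]

/-- centralizer of a conjugate -/
theorem mem_centralizer_conj_iff {G : Type*} [Group G] (g w c : G) :
    c ∈ Subgroup.centralizer ({g * w * g⁻¹} : Set G) ↔ g⁻¹ * c * g ∈ Subgroup.centralizer ({w} : Set G) := by
  simp only [Subgroup.mem_centralizer_iff, Set.mem_singleton_iff, forall_eq]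
  constructor
  · intro h
    have : w * (g⁻¹ * c * g) = g⁻¹ * (g * w * g⁻¹ * c) * g := by group
    rw [this, h]; group
  · intro h
    have : g * w * g⁻¹ * c = g * (w * (g⁻¹ * c * g)) * g⁻¹ := by group
    rw [this, h]; group

/-- Every nilpotent subgroup of a finite group lies in a maximal nilpotent subgroup. -/
theorem exists_isMaxNilp_ge {G : Type*} [Group G] [Finite G] (K : Subgroup G)
    (hK : Group.IsNilpotent K) : ∃ H : Subgroup G, K ≤ H ∧ IsMaxNilp H := by
  obtain ⟨H, hKH, hmax⟩ := Set.Finite.exists_le_maximal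
    (s := {L : Subgroup G | Group.IsNilpotent L}) (Set.toFinite _) (a := K) hK
  refine ⟨H, hKH, hmax.1, ?_⟩
  intro L hL hle
  exact le_antisymm (hmax.2 hL hle) hle

end Cfsg.Agent.Helper25
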