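import Cfsg.Agent.Helper25.Fpf
import Cfsg.Agent.S1477

/-!
# CN-groups without Frobenius-type sections are nilpotent (helper25)

`NoFrobSub E`: every element of prime order `r` normalizing a nontrivial `q`-subgroup (`q ≠ r`)
centralizes a nontrivial element of it.  A finite CN-group with this property is nilpotent
(self-normalizing TI maximal nilpotent subgroups + counting).
-/

set_option autoImplicit false
set_option linter.style.haveILetI false
set_option linter.unusedVariables false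

namespace Cfsg.Agent.Helper25

def NoFrobSub (E : Type*) [Group E] : Prop :=
  ∀ (q r : ℕ), q.Prime → r.Prime → q ≠ r → ∀ (b : E), orderOf b = r → ∀ R : Subgroup E,
    IsPGroup q R → R ≠ ⊥ → (∀ d ∈ R, b * d * b⁻¹ ∈ R) → ∃ d ∈ R, d ≠ 1 ∧ b * d = d * b

theorem card_map_conj' {E : Type*} [Group E] (M : Subgroup E) (g : E) :
    Nat.card (M.map (MulAut.conj g).toMonoidHom) = Nat.card M :=
  Subgroup.card_map_of_injective (MulAut.conj g).injective

/-- Normalizers grow in nilpotent subgroups. -/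
theorem exists_mem_normalizer_not_mem' {E : Type*} [Group E] (K D : Subgroup E)
    (hK : Group.IsNilpotent K) (hDK : D < K) :
    ∃ n ∈ K, n ∉ D ∧ n ∈ Subgroup.normalizer (D : Set E) := by
  haveI := hK
  have hlt : D.subgroupOf K < ⊤ := by
    rw [lt_top_iff_ne_top]
    intro h
    rw [Subgroup.subgroupOf_eq_top] at h
    exact (not_le_of_gt hDK) h
  have hnc := Group.normalizerCondition_of_isNilpotent (G := K) (D.subgroupOf K) hlt
  obtain ⟨n, hnN, hnD⟩ := SetLike.exists_of_lt hnc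
  refine ⟨n, n.2, fun h => hnD (Subgroup.mem_subgroupOf.mpr h), ?_⟩
  rw [Subgroup.mem_normalizer_iff]
  intro d
  have hiff := Subgroup.mem_normalizer_iff.mp hnN
  constructor
  · intro hd
    have hdK : d ∈ K := hDK.le hd
    have := (hiff ⟨d, hdK⟩).mp (Subgroup.mem_subgroupOf.mpr hd)
    exact Subgroup.mem_subgroupOf.mp this
  · intro hd
    have hdK : d ∈ K := by
      have h1 : (n : E) * d * (n : E)⁻¹ ∈ K := hDK.le hd
      have e : d = (n : E)⁻¹ * ((n : E) * d * (n : E)⁻¹) * (n : E) := by group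
      rw [e]
      exact K.mul_mem (K.mul_mem (K.inv_mem n.2) h1) n.2
    have := (hiff ⟨d, hdK⟩).mpr (Subgroup.mem_subgroupOf.mpr hd)
    exact Subgroup.mem_subgroupOf.mp this

/-- Maximal nilpotent subgroups are self-normalizing. -/
theorem IsMaxNilp.self_normalizing {E : Type*} [Group E] [Finite E] (hCN : Cfsg.IsCNGroup E)
    (hNF : NoFrobSub E) {M : Subgroup E} (hM : IsMaxNilp M) (hM1 : M ≠ ⊥)
    (hHall : (Nat.card M).Coprime M.index) :
    ∀ g : E, M.map (MulAut.conj g).toMonoidHom = M → g ∈ M := by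
  intro g hg
  by_contra hgM
  have hgN : g ∈ Subgroup.normalizer (M : Set E) := by
    rw [Subgroup.mem_normalizer_iff]
    intro h
    constructor
    · intro hh
      have := conj_mem_map_conj' g hh
      rw [hg] at this
      exact this
    · intro hh
      rw [← hg, mem_map_conj_iff'] at hh
      have e : g⁻¹ * (g * h * g⁻¹) * g = h := by group
      rw [e] at hh
      exact hh
  have hMN : M ≤ Subgroup.normalizer (M : Set E) := Subgroup.le_normalizer
  have hrel : M.relIndex (Subgroup.normalizer (M : Set E)) ≠ 1 := by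
    intro h
    rw [Subgroup.relIndex_eq_one] at h
    exact hgM (h hgN)
  obtain ⟨r, hr, hrd⟩ := Nat.exists_prime_and_dvd hrel
  haveI : Fact r.Prime := ⟨hr⟩
  have hrM : ¬ r ∣ Nat.card M := by
    intro h
    have h2 : r ∣ M.index := dvd_trans hrd (Subgroup.relIndex_dvd_index_of_le hMN)
    have h3 := Nat.dvd_gcd h h2
    rw [Nat.Coprime] at hHall
    rw [hHall] at h3
    exact hr.ne_one (Nat.dvd_one.mp h3)
  have hrN : r ∣ Nat.card (Subgroup.normalizer (M : Set E)) :=
    dvd_trans hrd (Subgroup.relIndex_dvd_card _ _)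
  obtain ⟨b', hb'⟩ := exists_prime_orderOf_dvd_card' (G := Subgroup.normalizer (M : Set E)) r hrN
  have hbo : orderOf (b' : E) = r := by rw [← hb']; simp
  have hbM : (b' : E) ∉ M := by
    intro h
    apply hrM
    rw [← hbo]
    exact Subgroup.orderOf_dvd_natCard _ h
  have hbnorm := Subgroup.mem_normalizer_iff.mp b'.2
  -- a central q-element
  obtain ⟨⟨x, hx⟩, hx1⟩ := Subgroup.ne_bot_iff_exists_ne_one.mp hM1
  have hx1' : x ≠ 1 := fun h => hx1 (Subtype.ext h)
  have ho1 : orderOf x ≠ 1 := fun h => hx1' (orderOf_eq_one_iff.mp h)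
  obtain ⟨q, hq, hqd⟩ := Nat.exists_prime_and_dvd ho1
  set x' := x ^ (orderOf x / q) with hx'def
  have hx'o : orderOf x' = q := orderOf_pow_orderOf_div (orderOf_pos x).ne' hqd
  have hx'M : x' ∈ M := M.pow_mem hx _
  have hx'1 : x' ≠ 1 := by
    intro h1
    rw [h1, orderOf_one] at hx'o
    exact hq.ne_one hx'o.symm
  obtain ⟨z₀, hz₀M, hz₀1, hz₀q, hz₀c⟩ := exists_central_pElt M hM.1 q hq hx'M hx'1
    ⟨1, by rw [hx'o, pow_one]⟩
  have hqr : q ≠ r := by
    intro h
    apply hrM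
    rw [← h, ← hx'o]
    exact Subgroup.orderOf_dvd_natCard _ hx'M
  obtain ⟨Q, hQ, hQmem⟩ := exists_pElts_subgroup M hM.1 q hq
  have hR : IsPGroup q (Q ⊓ Subgroup.centralizer (M : Set E) : Subgroup E) := hQ.to_le inf_le_left
  have hz₀R : z₀ ∈ Q ⊓ Subgroup.centralizer (M : Set E) := by
    refine Subgroup.mem_inf.mpr ⟨(hQmem z₀).mpr ⟨hz₀M, hz₀q⟩, ?_⟩
    rw [Subgroup.mem_centralizer_iff]
    intro h hh
    exact ((hz₀c h hh).eq).symm
  have hR1 : (Q ⊓ Subgroup.centralizer (M : Set E) : Subgroup E) ≠ ⊥ := by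
    intro h
    rw [h, Subgroup.mem_bot] at hz₀R
    exact hz₀1 hz₀R
  have hnormR : ∀ d ∈ (Q ⊓ Subgroup.centralizer (M : Set E) : Subgroup E),
      (b' : E) * d * (b' : E)⁻¹ ∈ (Q ⊓ Subgroup.centralizer (M : Set E) : Subgroup E) := by
    intro d hd
    obtain ⟨hdQ, hdC⟩ := Subgroup.mem_inf.mp hd
    have hdM := ((hQmem d).mp hdQ)
    refine Subgroup.mem_inf.mpr
      ⟨(hQmem _).mpr ⟨(hbnorm d).mp hdM.1, by rw [orderOf_conj']; exact hdM.2⟩, ?_⟩
    rw [Subgroup.mem_centralizer_iff] at hdC ⊢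
    intro h hh
    have hh' : (b' : E)⁻¹ * h * (b' : E) ∈ M := by
      rw [hbnorm]
      have e : (b' : E) * ((b' : E)⁻¹ * h * (b' : E)) * (b' : E)⁻¹ = h := by group
      rw [e]
      exact hh
    have hc := hdC _ hh'
    have e1 : h * ((b' : E) * d * (b' : E)⁻¹) = (b' : E) * (((b' : E)⁻¹ * h * (b' : E)) * d) * (b' : E)⁻¹ := by
      group
    rw [e1, hc]
    group
  obtain ⟨d, hdR, hd1, hbd⟩ := hNF q r hq hr hqr (b' : E) hbo _ hR hR1 hnormR
  have hdc : ∀ h ∈ M, Commute d h := by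
    intro h hh
    have := (Subgroup.mem_centralizer_iff.mp (Subgroup.mem_inf.mp hdR).2) h hh
    exact this.symm
  have hCd := centralizer_eq_of_central hCN M hM hd1 hdc
  apply hbM
  have hbC : (b' : E) ∈ Subgroup.centralizer ({d} : Set E) :=
    mem_centralizer_singleton_iff'.mpr hbd.symm
  rw [hCd] at hbC
  exact hbC

/-- Maximal nilpotent subgroups are TI. -/
theorem IsMaxNilp.ti {E : Type*} [Group E] [Finite E] (hCN : Cfsg.IsCNGroup E)
    (hNF : NoFrobSub E) {M : Subgroup E} (hM : IsMaxNilp M)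
    (hHall : (Nat.card M).Coprime M.index) :
    ∀ g : E, M.map (MulAut.conj g).toMonoidHom ≠ M →
      M ⊓ M.map (MulAut.conj g).toMonoidHom = ⊥ := by
  classical
  by_cases hpp : IsPrimePow (Nat.card M)
  swap
  · by_cases hc1 : Nat.card M = 1
    · intro g _
      rw [Subgroup.card_eq_one.mp hc1]
      exact bot_inf_eq _
    · exact (Cfsg.Agent.S1477.result hCN M hM.1 hM.2).2.1 hpp hc1
  obtain ⟨q, k, hq, hk, hqk⟩ := (isPrimePow_nat_iff _).mp hpp
  haveI : Fact q.Prime := ⟨hq⟩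
  have hMq : IsPGroup q M := IsPGroup.of_card hqk.symm
  by_contra hcon
  push Not at hcon
  obtain ⟨g₀, hg₀, hg₀ne⟩ := hcon
  -- choose g maximizing the intersection
  haveI : Nonempty {g : E // M.map (MulAut.conj g).toMonoidHom ≠ M} := ⟨⟨g₀, hg₀⟩⟩
  obtain ⟨⟨g, hg⟩, hmax⟩ := Finite.exists_max
    (fun g : {g : E // M.map (MulAut.conj g).toMonoidHom ≠ M} =>
      Nat.card (M ⊓ M.map (MulAut.conj (g : E)).toMonoidHom : Subgroup E))
  have hmax' : ∀ a : E, M.map (MulAut.conj a).toMonoidHom ≠ M →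
      Nat.card (M ⊓ M.map (MulAut.conj a).toMonoidHom : Subgroup E)
        ≤ Nat.card (M ⊓ M.map (MulAut.conj g).toMonoidHom : Subgroup E) :=
    fun a ha => hmax ⟨a, ha⟩
  set Mg := M.map (MulAut.conj g).toMonoidHom with hMg
  set D := M ⊓ Mg with hD
  have hD1 : D ≠ ⊥ := by
    intro h
    have h1 := hmax' g₀ hg₀
    rw [h, Subgroup.card_bot] at h1
    have h2 : Nat.card (M ⊓ M.map (MulAut.conj g₀).toMonoidHom : Subgroup E) = 1 :=
      le_antisymm h1 Nat.card_pos
    exact hg₀ne (Subgroup.card_eq_one.mp h2)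
  have hMgm : IsMaxNilp Mg := hM.conj g
  have hcardg : Nat.card Mg = Nat.card M := card_map_conj' M g
  have hDM : D < M := by
    refine lt_of_le_of_ne inf_le_left ?_
    intro h
    have hle : M ≤ Mg := by rw [← h]; exact inf_le_right
    exact hg (Subgroup.eq_of_le_of_card_ge hle hcardg.le).symm
  have hDMg : D < Mg := by
    refine lt_of_le_of_ne inf_le_right ?_
    intro h
    have hle : Mg ≤ M := by rw [← h]; exact inf_le_left
    exact hg (Subgroup.eq_of_le_of_card_ge hle hcardg.ge)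
  obtain ⟨n₁, hn₁M, hn₁D, hn₁N⟩ := exists_mem_normalizer_not_mem' M D hM.1 hDM
  obtain ⟨n₂, hn₂M, hn₂D, hn₂N⟩ := exists_mem_normalizer_not_mem' Mg D hMgm.1 hDMg
  have hDq : IsPGroup q D := hMq.to_le inf_le_left
  -- the normalizer of D is not a q-group
  have hNq : ¬ IsPGroup q (Subgroup.normalizer (D : Set E)) := by
    intro hNq
    have hidx : ¬ q ∣ M.index := by
      intro h
      have h1 : q ∣ Nat.card M := by rw [← hqk]; exact dvd_pow_self q hk.ne'
      have h3 := Nat.dvd_gcd h1 h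
      rw [Nat.Coprime] at hHall
      rw [hHall] at h3
      exact hq.ne_one (Nat.dvd_one.mp h3)
    obtain ⟨Q₃, hQ₃⟩ := hNq.exists_le_sylow
    obtain ⟨a, ha⟩ := MulAction.exists_smul_eq E (hMq.toSylow hidx) Q₃
    have hNa : ∀ x ∈ Subgroup.normalizer (D : Set E), x ∈ M.map (MulAut.conj a).toMonoidHom := by
      intro x hx
      have := hQ₃ hx
      rw [← ha, sylow_mem_smul_iff] at this
      rw [mem_map_conj_iff']
      exact (IsPGroup.mem_toSylow hMq hidx).mp this
    have hDN : D ≤ Subgroup.normalizer (D : Set E) := Subgroup.le_normalizer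
    have hlt : D < M ⊓ M.map (MulAut.conj a).toMonoidHom := by
      refine lt_of_le_of_ne (le_inf inf_le_left (fun x hx => hNa x (hDN hx))) ?_
      intro h
      apply hn₁D
      rw [h]
      exact ⟨hn₁M, hNa n₁ hn₁N⟩
    have hcardlt : Nat.card D < Nat.card (M ⊓ M.map (MulAut.conj a).toMonoidHom : Subgroup E) :=
      Set.Finite.card_lt_card (Set.toFinite _) (SetLike.coe_ssubset_coe.mpr hlt)
    have hMa : M.map (MulAut.conj a).toMonoidHom = M := by
      by_contra hne
      exact absurd (hmax' a hne) (not_le_of_gt hcardlt)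
    apply hn₂D
    refine ⟨?_, hn₂M⟩
    rw [← hMa]
    exact hNa n₂ hn₂N
  -- a prime r ≠ q dividing |N(D)|
  obtain ⟨r, hr, hrd, hrq⟩ : ∃ r : ℕ, r.Prime ∧ r ∣ Nat.card (Subgroup.normalizer (D : Set E)) ∧ r ≠ q := by
    by_contra hcon
    push Not at hcon
    have := Nat.eq_prime_pow_of_unique_prime_dvd (p := q) Nat.card_pos.ne'
      (fun {d} hd hdd => hcon d hd hdd)
    exact hNq (IsPGroup.of_card this)
  haveI : Fact r.Prime := ⟨hr⟩
  obtain ⟨b', hb'⟩ := exists_prime_orderOf_dvd_card' (G := Subgroup.normalizer (D : Set E)) r hrd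
  have hbo : orderOf (b' : E) = r := by rw [← hb']; simp
  have hbnorm := Subgroup.mem_normalizer_iff.mp b'.2
  obtain ⟨d, hdD, hd1, hbd⟩ := hNF q r hq hr (Ne.symm hrq) (b' : E) hbo D hDq hD1
    (fun d hd => (hbnorm d).mp hd)
  obtain ⟨M', hCM', hM'⟩ := exists_isMaxNilp_ge (Subgroup.centralizer ({d} : Set E)) (hCN d hd1)
  have hbM' : (b' : E) ∈ M' := hCM' (mem_centralizer_singleton_iff'.mpr hbd.symm)
  have hdM' : d ∈ M' := hCM' (mem_centralizer_singleton_iff'.mpr rfl)
  rcases isMaxNilp_conj_or_coprime hCN M M' hM hM' with ⟨h, hh⟩ | hcop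
  · have hcard : Nat.card M' = q ^ k := by rw [hh, card_map_conj', hqk]
    have h1 : r ∣ q ^ k := by
      rw [← hcard, ← hbo]
      exact Subgroup.orderOf_dvd_natCard _ hbM'
    exact hrq ((Nat.prime_dvd_prime_iff_eq hr hq).mp (hr.dvd_of_dvd_pow h1))
  · have h1 : orderOf d ∣ Nat.card M := Subgroup.orderOf_dvd_natCard _ hdD.1
    have h2 : orderOf d ∣ Nat.card M' := Subgroup.orderOf_dvd_natCard _ hdM'
    have h3 := Nat.dvd_gcd h1 h2
    rw [Nat.Coprime] at hcop
    rw [hcop] at h3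
    exact hd1 (orderOf_eq_one_iff.mp (Nat.dvd_one.mp h3))

/-- Counting: if `M` controls fusion of its nonidentity elements (a "Frobenius complement"-like
subgroup), then the nonidentity conjugates of elements of `M` fill at least half of the group. -/
theorem card_le_two_mul_card_conj {E : Type*} [Group E] [Finite E] (M : Subgroup E) (hM1 : M ≠ ⊥)
    (hfus : ∀ g : E, ∀ m ∈ M, m ≠ 1 → g * m * g⁻¹ ∈ M → g ∈ M) :
    Nat.card E ≤ 2 * Nat.card {x : E | ∃ g : E, ∃ m ∈ M, m ≠ 1 ∧ x = g * m * g⁻¹} := by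
  classical
  haveI : Fintype E := Fintype.ofFinite E
  set S : Set E := {x : E | ∃ g : E, ∃ m ∈ M, m ≠ 1 ∧ x = g * m * g⁻¹} with hS
  let tM : Finset E := Finset.univ.filter (· ∈ M)
  let tS : Finset E := Finset.univ.filter (· ∈ S)
  have hcardM : tM.card = Nat.card M := by
    rw [Nat.card_eq_fintype_card, Fintype.card_subtype]
  have hcardS : tS.card = Nat.card S := by
    rw [Nat.card_eq_fintype_card, Fintype.card_subtype]
  have hcardE : (Finset.univ : Finset E).card = Nat.card E := by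
    rw [Nat.card_eq_fintype_card, Finset.card_univ]
  let s : Finset (E × E) := (Finset.univ : Finset E) ×ˢ (tM.erase 1)
  let f : E × E → E := fun p => p.1 * p.2 * p.1⁻¹
  have h1M : (1 : E) ∈ tM := by simp [tM]
  have hcards : s.card = Nat.card E * (Nat.card M - 1) := by
    rw [Finset.card_product, Finset.card_erase_of_mem h1M, hcardE, hcardM]
  have hmaps : ∀ a ∈ s, f a ∈ tS := by
    rintro ⟨g, m⟩ ha
    rw [Finset.mem_product, Finset.mem_erase] at ha
    simp only [tS, Finset.mem_filter, Finset.mem_univ, true_and]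
    have hmM : m ∈ M := by simpa [tM] using ha.2.2
    exact ⟨g, m, hmM, ha.2.1, rfl⟩
  have hfib : ∀ x ∈ tS, (s.filter (fun a => f a = x)).card ≤ Nat.card M := by
    intro x hx
    rcases (s.filter (fun a => f a = x)).eq_empty_or_nonempty with hemp | ⟨⟨g₀, m₀⟩, h₀⟩
    · rw [hemp]; simp
    rw [Finset.mem_filter, Finset.mem_product, Finset.mem_erase] at h₀
    have hm₀M : m₀ ∈ M := by simpa [tM] using h₀.1.2.2
    have hx₀ : g₀ * m₀ * g₀⁻¹ = x := h₀.2
    rw [← hcardM]
    apply Finset.card_le_card_of_injOn (fun a : E × E => g₀⁻¹ * a.1)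
    · rintro ⟨g', m'⟩ ha
      have ha' := Finset.mem_filter.mp (Finset.mem_coe.mp ha)
      rw [Finset.mem_product, Finset.mem_erase] at ha'
      have hm'M : m' ∈ M := by simpa [tM] using ha'.1.2.2
      have hx' : g' * m' * g'⁻¹ = x := ha'.2
      have hconj : (g₀⁻¹ * g') * m' * (g₀⁻¹ * g')⁻¹ = m₀ := by
        have e : (g₀⁻¹ * g') * m' * (g₀⁻¹ * g')⁻¹ = g₀⁻¹ * (g' * m' * g'⁻¹) * g₀ := by group
        rw [e, hx', ← hx₀]
        group
      have := hfus (g₀⁻¹ * g') m' hm'M ha'.1.2.1 (by rw [hconj]; exact hm₀M)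
      simpa [tM] using this
    · rintro ⟨g', m'⟩ ha ⟨g'', m''⟩ hb hab
      have ha' := Finset.mem_filter.mp (Finset.mem_coe.mp ha)
      have hb' := Finset.mem_filter.mp (Finset.mem_coe.mp hb)
      have hg : g' = g'' := mul_left_cancel hab
      have hx' : g' * m' * g'⁻¹ = x := ha'.2
      have hx'' : g'' * m'' * g''⁻¹ = x := hb'.2
      subst hg
      have hm : m' = m'' := by
        have e1 : m' = g'⁻¹ * (g' * m' * g'⁻¹) * g' := by group
        have e2 : m'' = g'⁻¹ * (g' * m'' * g'⁻¹) * g' := by group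
        rw [e1, e2, hx', hx'']
      rw [hm]
  have hle := Finset.card_le_mul_card_image_of_maps_to hmaps (Nat.card M) hfib
  rw [hcards, hcardS] at hle
  have hM2 : 2 ≤ Nat.card M := by
    have h1 : Nat.card M ≠ 1 := fun h => hM1 (Subgroup.card_eq_one.mp h)
    have h0 : 0 < Nat.card M := Nat.card_pos
    omega
  -- arithmetic
  have key : Nat.card M * Nat.card E ≤ Nat.card M * (2 * Nat.card S) := by
    have h2 : Nat.card M ≤ 2 * (Nat.card M - 1) := by omega
    calc Nat.card M * Nat.card E = Nat.card E * Nat.card M := mul_comm _ _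
      _ ≤ Nat.card E * (2 * (Nat.card M - 1)) := Nat.mul_le_mul_left _ h2
      _ = 2 * (Nat.card E * (Nat.card M - 1)) := by ring
      _ ≤ 2 * (Nat.card M * Nat.card S) := Nat.mul_le_mul_left _ hle
      _ = Nat.card M * (2 * Nat.card S) := by ring
  exact Nat.le_of_mul_le_mul_left key (by omega)

/-- A finite CN-group with `NoFrobSub` is nilpotent. -/
theorem isNilpotent_of_CN_of_noFrobSub {E : Type*} [Group E] [Finite E] (hCN : Cfsg.IsCNGroup E)
    (hNF : NoFrobSub E) : Group.IsNilpotent E := by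
  classical
  by_contra hnil
  haveI : Nontrivial E := by
    by_contra h
    rw [not_nontrivial_iff_subsingleton] at h
    exact hnil inferInstance
  have hne_bot : ∀ M : Subgroup E, IsMaxNilp M → M ≠ ⊥ := by
    intro M hM hbot
    obtain ⟨x, hx⟩ := exists_ne (1 : E)
    have h1 := hM.2 _ (hCN x hx) (by rw [hbot]; exact bot_le)
    have h2 : x ∈ Subgroup.centralizer ({x} : Set E) := mem_centralizer_singleton_iff'.mpr rfl
    rw [h1, hbot, Subgroup.mem_bot] at h2
    exact hx h2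
  have hHall : ∀ M : Subgroup E, IsMaxNilp M → (Nat.card M).Coprime M.index :=
    fun M hM => (Cfsg.Agent.S1477.result hCN M hM.1 hM.2).1
  obtain ⟨M₀, -, hM₀⟩ := exists_isMaxNilp_ge (⊥ : Subgroup E) inferInstance
  have hM₀top : M₀ ≠ ⊤ := by
    intro h
    apply hnil
    have := hM₀.1
    rw [h] at this
    exact Group.isNilpotent_top.mp this
  have hidx : M₀.index ≠ 1 := fun h => hM₀top (Subgroup.index_eq_one.mp h)
  obtain ⟨q, hq, hqd⟩ := Nat.exists_prime_and_dvd hidx
  haveI : Fact q.Prime := ⟨hq⟩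
  have hqE : q ∣ Nat.card E := dvd_trans hqd (Subgroup.index_dvd_card M₀)
  obtain ⟨y, hy⟩ := exists_prime_orderOf_dvd_card' (G := E) q hqE
  have hy1 : y ≠ 1 := by
    intro h
    rw [h, orderOf_one] at hy
    exact hq.ne_one hy.symm
  obtain ⟨M₁, hC₁, hM₁⟩ := exists_isMaxNilp_ge (Subgroup.centralizer ({y} : Set E)) (hCN y hy1)
  have hyM₁ : y ∈ M₁ := hC₁ (mem_centralizer_singleton_iff'.mpr rfl)
  have hqM₁ : q ∣ Nat.card M₁ := by rw [← hy]; exact Subgroup.orderOf_dvd_natCard _ hyM₁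
  have hqM₀ : ¬ q ∣ Nat.card M₀ := by
    intro h
    have h3 := Nat.dvd_gcd h hqd
    have hc := hHall M₀ hM₀
    rw [Nat.Coprime] at hc
    rw [hc] at h3
    exact hq.ne_one (Nat.dvd_one.mp h3)
  have hcop : (Nat.card M₀).Coprime (Nat.card M₁) := by
    rcases isMaxNilp_conj_or_coprime hCN M₀ M₁ hM₀ hM₁ with ⟨g, hg⟩ | h
    · exfalso
      apply hqM₀
      rw [← card_map_conj' M₀ g, ← hg]
      exact hqM₁
    · exact h
  have hfus : ∀ M : Subgroup E, IsMaxNilp M → ∀ g : E, ∀ m ∈ M, m ≠ 1 → g * m * g⁻¹ ∈ M → g ∈ M := by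
    intro M hM g m hm hm1 hgm
    apply IsMaxNilp.self_normalizing hCN hNF hM (hne_bot M hM) (hHall M hM)
    by_contra hne
    have hti := IsMaxNilp.ti hCN hNF hM (hHall M hM) g hne
    have hmem : g * m * g⁻¹ ∈ M ⊓ M.map (MulAut.conj g).toMonoidHom :=
      Subgroup.mem_inf.mpr ⟨hgm, conj_mem_map_conj' g hm⟩
    rw [hti, Subgroup.mem_bot] at hmem
    apply hm1
    have e : m = g⁻¹ * (g * m * g⁻¹) * g := by group
    rw [e, hmem]
    group
  have h0 := card_le_two_mul_card_conj M₀ (hne_bot M₀ hM₀) (hfus M₀ hM₀)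
  have h1 := card_le_two_mul_card_conj M₁ (hne_bot M₁ hM₁) (hfus M₁ hM₁)
  set S₀ : Set E := {x : E | ∃ g : E, ∃ m ∈ M₀, m ≠ 1 ∧ x = g * m * g⁻¹} with hS₀
  set S₁ : Set E := {x : E | ∃ g : E, ∃ m ∈ M₁, m ≠ 1 ∧ x = g * m * g⁻¹} with hS₁
  have hdisj : Disjoint S₀ S₁ := by
    rw [Set.disjoint_left]
    rintro x ⟨g, m, hm, hm1, rfl⟩ ⟨g', m', hm', hm'1, h⟩
    have ho : orderOf m = orderOf m' := by rw [← orderOf_conj' g m, h, orderOf_conj']
    have d1 : orderOf m ∣ Nat.card M₀ := Subgroup.orderOf_dvd_natCard _ hm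
    have d2 : orderOf m ∣ Nat.card M₁ := by rw [ho]; exact Subgroup.orderOf_dvd_natCard _ hm'
    have h3 := Nat.dvd_gcd d1 d2
    rw [Nat.Coprime] at hcop
    rw [hcop] at h3
    exact hm1 (orderOf_eq_one_iff.mp (Nat.dvd_one.mp h3))
  have hsub : S₀ ∪ S₁ ⊆ (Set.univ : Set E) \ {1} := by
    rintro x (⟨g, m, hm, hm1, rfl⟩ | ⟨g, m, hm, hm1, rfl⟩)
    · refine ⟨Set.mem_univ _, ?_⟩
      intro h
      apply hm1
      have e : m = g⁻¹ * (g * m * g⁻¹) * g := by group
      rw [e, Set.mem_singleton_iff.mp h]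
      group
    · refine ⟨Set.mem_univ _, ?_⟩
      intro h
      apply hm1
      have e : m = g⁻¹ * (g * m * g⁻¹) * g := by group
      rw [e, Set.mem_singleton_iff.mp h]
      group
  have hcard := Set.ncard_le_ncard hsub (Set.toFinite _)
  rw [Set.ncard_union_eq hdisj (Set.toFinite _) (Set.toFinite _),
    Set.ncard_sdiff_singleton_of_mem (Set.mem_univ _), Set.ncard_univ] at hcard
  rw [Nat.card_coe_set_eq] at h0 h1
  have hpos : 0 < Nat.card E := Nat.card_pos
  omega

theorem mem_of_normal_sylow {G : Type*} [Group G] [Finite G] {p : ℕ} [Fact p.Prime] (P : Sylow p G)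
    (hPn : (P : Subgroup G).Normal) {k : G} (hk : ∃ n, orderOf k = p ^ n) :
    k ∈ (P : Subgroup G) := by
  have hz : IsPGroup p (Subgroup.zpowers k) := (isPElt_iff_isPGroup_zpowers p Fact.out k).mpr hk
  obtain ⟨Q, hQ⟩ := hz.exists_le_sylow
  obtain ⟨g, hg⟩ := MulAction.exists_smul_eq G P Q
  haveI := hPn
  rw [Sylow.smul_eq_of_normal] at hg
  rw [hg]
  exact hQ (Subgroup.mem_zpowers k)

theorem isCNGroup_subgroup {G : Type*} [Group G] (hCN : Cfsg.IsCNGroup G) (E : Subgroup G) :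
    Cfsg.IsCNGroup E := by
  intro e he
  have he' : (e : G) ≠ 1 := fun h => he (Subtype.ext h)
  have hmem : ∀ c : Subgroup.centralizer ({e} : Set E),
      ((c : E) : G) ∈ Subgroup.centralizer ({(e : G)} : Set G) := by
    intro c
    have hc := c.2
    rw [mem_centralizer_singleton_iff'] at hc ⊢
    exact congrArg Subtype.val hc
  let f : Subgroup.centralizer ({e} : Set E) →* Subgroup.centralizer ({(e : G)} : Set G) :=
    (E.subtype.comp (Subgroup.centralizer ({e} : Set E)).subtype).codRestrict _ hmem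
  have hf : Function.Injective f := by
    intro a b hab
    have := congrArg Subtype.val hab
    exact Subtype.ext (Subtype.ext this)
  exact isNilpotent_of_injective f hf (hCN _ he')

open scoped Pointwise in
theorem mem_conj_smul_iff {G : Type*} [Group G] (E : Subgroup G) (g x : G) :
    x ∈ MulAut.conj g • E ↔ g⁻¹ * x * g ∈ E := by
  rw [Subgroup.mem_pointwise_smul_iff_inv_smul_mem]
  simp [MulAut.smul_def]

end Cfsg.Agent.Helper25
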