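/-
CALL BG15 (helper25), piece AC: a normal Sylow subgroup of `M_σ` lies in `M_F`.
-/
import Cfsg.Agent.Helper22.BG10b
import Cfsg.Agent.S1403

set_option autoImplicit false

namespace Cfsg.Agent.Helper25

open Cfsg Subgroup

universe u

variable {G : Type u} [Group G] [Finite G]

/-- AC. A normal Sylow subgroup of `M_σ` (normal in `M`) lies in `M_F`. -/
theorem bg15_app_concl (hG : IsMinSimpleOddOrder G) (M : Subgroup G) (hM : IsCoatom M) {q : ℕ}
    (hq : q.Prime) (Q : Subgroup ↥M) (hQn : Q.Normal) (hQL : Q ≤ piCore (sigma M) ↥M)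
    (hQq : IsPGroup q Q) (hidx : ¬ q ∣ Q.relIndex (piCore (sigma M) ↥M)) :
    Q ≤ fittingHall ↥M := by
  classical
  haveI : Fact q.Prime := ⟨hq⟩
  have hU : Cfsg.Agent.Helper22.BGUniq G :=
    fun K hK h1 h2 => Cfsg.Agent.S1403.result hG K hK h1 h2
  obtain ⟨⟨-, hpi, hidxσ⟩, -, -⟩ := Cfsg.Agent.Helper22.bg10_sigma_hall hG hU hM
  apply le_sSup
  refine ⟨hQn, IsPGroup.isNilpotent hQq, ?_⟩
  obtain ⟨m, hm⟩ := (IsPGroup.iff_card).mp hQq
  by_cases hm0 : m = 0
  · rw [hm, hm0, pow_zero]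
    exact Nat.coprime_one_left _
  rw [hm]
  apply Nat.Coprime.pow_left
  rw [Nat.Prime.coprime_iff_not_dvd hq]
  intro hdvd
  have h1 : Q.relIndex (piCore (sigma M) ↥M) * (piCore (sigma M) ↥M).index = Q.index :=
    Subgroup.relIndex_mul_index hQL
  rw [← h1] at hdvd
  rcases (Nat.Prime.dvd_mul hq).mp hdvd with h | h
  · exact hidx h
  · have hqQ : q ∣ Nat.card Q := by
      rw [hm]
      exact dvd_pow_self q hm0
    have hqL : q ∣ Nat.card ↥(piCore (sigma M) ↥M) := hqQ.trans (Subgroup.card_dvd_of_le hQL)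
    have hcard : Nat.card ↥(sigmaCore M) = Nat.card ↥(piCore (sigma M) ↥M) :=
      Subgroup.card_map_of_injective M.subtype_injective
    have hqσ : q ∈ sigma M := hpi q hq (by rw [hcard]; exact hqL)
    have hrel : (sigmaCore M).relIndex M = (piCore (sigma M) ↥M).index := by
      rw [Subgroup.relIndex]
      congr 1
      exact Subgroup.comap_map_eq_self_of_injective M.subtype_injective (piCore (sigma M) ↥M)
    exact hidxσ q hq hqσ (by rw [hrel]; exact h)

end Cfsg.Agent.Helper25
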