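import Cfsg.Agent.Helper25.BG13iFrob

/-!
# S1351, part (A): Theorem (i) from its core

`bg13i_of_core`: if no `τ₃`-nonregular datum `(M, E, P, p)` admits a subgroup `R ≤ E` of prime
order `r ∈ τ₁(M)` centralizing neither `P` nor `K = C_{M_σ}(P)` (the "Frobenius pair" core),
then `K ≤ C_G(E)` for every `τ₃`-nonregular datum.
-/

set_option autoImplicit false

namespace Cfsg.Agent.Helper25

open Cfsg Subgroup

universe u

variable {G : Type u} [Group G] [Finite G]

/-- the statement of the core of Theorem (i): no Frobenius pair. -/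
def Bg13iCore (G : Type u) [Group G] : Prop :=
  ∀ (M E P R : Subgroup G) (p r : ℕ), Cfsg.Agent.Helper62.T3NR M E P p → r ∈ tau1 M → R ≤ E →
    Nat.card R = r → ¬ R ≤ centralizer (P : Set G) →
    ¬ sigmaCore M ⊓ centralizer (P : Set G) ≤ centralizer (R : Set G) → False

/-- every subgroup of prime order `r ∈ τ₁(M)` of `E` centralizes `K`, given the core. -/
theorem bg13i_main_of_core (hG : IsMinSimpleOddOrder G) (hcore : Bg13iCore G)
    {M E P R : Subgroup G} {p r : ℕ} (h : Cfsg.Agent.Helper62.T3NR M E P p) (hr : r ∈ tau1 M)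
    (hRE : R ≤ E) (hR : Nat.card R = r) :
    sigmaCore M ⊓ centralizer (P : Set G) ≤ centralizer (R : Set G) := by
  by_contra hmv
  obtain ⟨R', r', hr', hR'E, hR', hR'P, hmv'⟩ := bg13i_frob_exists hG h hr hRE hR hmv
  exact hcore M E P R' p r' h hr' hR'E hR' hR'P hmv'

/-- **S1351 (A)** from the core: `C_{M_σ}(P) ≤ C_G(E)`. -/
theorem bg13i_of_core (hG : IsMinSimpleOddOrder G) (hcore : Bg13iCore G)
    {M E P : Subgroup G} {p : ℕ} (h : Cfsg.Agent.Helper62.T3NR M E P p) :
    sigmaCore M ⊓ centralizer (P : Set G) ≤ centralizer (E : Set G) := by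
  obtain ⟨hEP, hPE', -, hKE', hHall, hcyc, h13, -⟩ := Cfsg.Agent.Helper62.bg51_base hG h
  have hM := h.hM
  have hE := h.hE
  have key : E ≤ centralizer ((sigmaCore M ⊓ centralizer (P : Set G) : Subgroup G) : Set G) := by
    apply Cfsg.Agent.Helper62.bg51_le_of_prime_pow
    intro x hx r k hr hxk
    by_cases hx1 : x = 1
    · rw [hx1]; exact Subgroup.one_mem _
    obtain ⟨j, hjk, hj⟩ := (Nat.dvd_prime_pow hr).mp (orderOf_dvd_of_pow_eq_one hxk)
    have hj0 : 0 < j := by
      rcases Nat.eq_zero_or_pos j with h0 | h0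
      · rw [h0, pow_zero] at hj; exact absurd (orderOf_eq_one_iff.mp hj) hx1
      · exact h0
    have hrE : r ∣ Nat.card E := by
      have h1 : orderOf x ∣ Nat.card E := Subgroup.orderOf_dvd_natCard E hx
      rw [hj] at h1
      exact (dvd_pow_self r hj0.ne').trans h1
    rw [mem_centralizer_iff]
    intro k' hk'
    rcases h13 r hr hrE with h1 | h3
    · -- `r ∈ τ₁(M)`
      have hyE : x ^ r ^ (j - 1) ∈ E := E.pow_mem hx _
      have hyo : orderOf (x ^ r ^ (j - 1)) = r := by
        rw [orderOf_pow' x (pow_ne_zero _ hr.ne_zero), hj]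
        rw [Nat.gcd_eq_right (pow_dvd_pow r (Nat.sub_le j 1))]
        have e1 : r ^ j = r ^ (j - 1) * r := by
          rw [← pow_succ, Nat.sub_add_cancel hj0]
        rw [e1, Nat.mul_div_cancel_left _ (pow_pos hr.pos _)]
      have h2 := bg13i_main_of_core hG hcore h h1 (zpowers_le.mpr hyE)
        (by rw [Nat.card_zpowers, hyo])
      have h3 : Commute k' (x ^ r ^ (j - 1)) :=
        (mem_centralizer_iff.mp (h2 hk') _ (mem_zpowers _)).symm
      exact (Cfsg.Agent.Helper1.bg139_pa_step1 hG hM hE h1 hx hj0 hj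
        (Subgroup.mem_inf.mp hk').1 h3).eq
    · -- `r ∈ τ₃(M)`
      have hQr : IsPGroup r (zpowers x) :=
        IsPGroup.of_card (n := j) (by rw [Nat.card_zpowers, hj])
      have hxE' := (Cfsg.Agent.Helper98.bg14_normal_in_compl hG hM hE h3 (zpowers_le.mpr hx)
        hQr).2.1 (mem_zpowers x)
      exact (mem_centralizer_iff.mp (hKE' hk') x hxE').symm
  intro k hk
  rw [mem_centralizer_iff]
  intro e he
  exact (mem_centralizer_iff.mp (key he) k hk).symm

end Cfsg.Agent.Helper25
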