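import Cfsg.Agent.Helper62.BG51B0
import Cfsg.Agent.Helper24.BG13V
import Cfsg.Agent.Helper24.BG13A1
import Cfsg.Agent.Helper1.BG139C3
import Cfsg.Agent.Helper23.BG14ZhatConj
import Cfsg.Agent.Helper23.BG139D1
import Cfsg.Agent.Helper31.BG139HALL
import Cfsg.Agent.Helper2.Transfer
import Cfsg.Agent.Helper20.BG13P4
import Cfsg.Agent.Helper98.BG14HM
import Cfsg.Agent.Helper22.BG12b
import Cfsg.Agent.S1403
import Cfsg.Agent.S1428

/-!
# S1351, part (A), front half: reduction to a Frobenius pair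

For a `τ₃`-nonregular datum `(M, E, P, p)` (`Helper62.T3NR`) with `K := C_{M_σ}(P)`, if some
subgroup `R ≤ E` of prime order `r ∈ τ₁(M)` does not centralize `K`, then there is such an `R'`
which moreover does not centralize `P`.
-/

set_option autoImplicit false

namespace Cfsg.Agent.Helper25

open Cfsg Subgroup

universe u

variable {G : Type u} [Group G] [Finite G]

/-- `E` does not centralize `P` (`P ≤ E' ∩ Z(E)` is impossible for the abelian Hall subgroup
`E'`, by transfer). -/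
theorem bg13i_E_not_cent (hG : IsMinSimpleOddOrder G) {M E P : Subgroup G} {p : ℕ}
    (h : Cfsg.Agent.Helper62.T3NR M E P p) : ¬ E ≤ centralizer (P : Set G) := by
  intro hc
  obtain ⟨-, hPE', -, -, hHall, hcyc, -, -⟩ := Cfsg.Agent.Helper62.bg51_base hG h
  obtain ⟨hM, hE, hp, hPE, hP, hne⟩ := h
  have hP1 : P ≠ ⊥ := by
    intro e
    rw [e, Subgroup.card_bot] at hP
    exact hp.1.one_lt.ne' hP.symm
  obtain ⟨⟨z, hzP⟩, hz1⟩ := (Subgroup.ne_bot_iff_exists_ne_one).mp hP1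
  have hz1' : z ≠ 1 := fun e => hz1 (Subtype.ext e)
  have hmap : (commutator ↥E).map E.subtype = ⁅E, E⁆ := Subgroup.map_subtype_commutator E
  have hsub : (⁅E, E⁆ : Subgroup G).subgroupOf E = commutator ↥E := by
    rw [← hmap]
    exact Subgroup.comap_map_eq_self_of_injective E.subtype_injective _
  have hcomm : IsMulCommutative ↥(commutator ↥E) := by
    rw [isMulCommutative_iff]
    intro a b
    have ha : (a : ↥E).1 ∈ (⁅E, E⁆ : Subgroup G) := by
      rw [← hmap]; exact Subgroup.mem_map_of_mem _ a.2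
    have hb : (b : ↥E).1 ∈ (⁅E, E⁆ : Subgroup G) := by
      rw [← hmap]; exact Subgroup.mem_map_of_mem _ b.2
    have h1 := (IsCyclic.isMulCommutative (α := ↥⁅E, E⁆)).is_comm.comm ⟨_, ha⟩ ⟨_, hb⟩
    have h2 : (a : ↥E).1 * (b : ↥E).1 = (b : ↥E).1 * (a : ↥E).1 := congrArg Subtype.val h1
    apply Subtype.ext
    apply Subtype.ext
    exact h2
  have hcop : Nat.Coprime (Nat.card ↥(commutator ↥E)) (commutator ↥E).index := by
    have h1 : Nat.card ↥(commutator ↥E) = Nat.card ↥⁅E, E⁆ := by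
      rw [← hmap, Subgroup.card_map_of_injective E.subtype_injective]
    have h2 : (commutator ↥E).index = (⁅E, E⁆ : Subgroup G).relIndex E := by
      rw [Subgroup.relIndex, hsub]
    rw [h1, h2]
    exact Nat.Coprime.symm (Nat.coprime_of_dvd (fun q hq hq1 hq2 =>
      hHall.2.2 q hq (hHall.2.1 q hq hq2) hq1)).symm.symm
  have hzE : z ∈ E := hPE hzP
  have hzc : (⟨z, hzE⟩ : ↥E) ∈ commutator ↥E := by
    have h1 : z ∈ (⁅E, E⁆ : Subgroup G) := hPE' hzP
    rw [← hmap] at h1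
    obtain ⟨n, hn, hnz⟩ := Subgroup.mem_map.mp h1
    have : n = ⟨z, hzE⟩ := Subtype.ext hnz
    rwa [this] at hn
  have hzZ : (⟨z, hzE⟩ : ↥E) ∈ Subgroup.center ↥E := by
    rw [Subgroup.mem_center_iff]
    intro g
    apply Subtype.ext
    have := mem_centralizer_iff.mp (hc g.2) z hzP
    simpa using this.symm
  have := Cfsg.Agent.Helper2.eq_one_of_mem_hall_of_mem_center_of_mem_commutator
    (commutator ↥E) hcop ⟨z, hzE⟩ hzc hzZ hzc
  exact hz1' (congrArg Subtype.val this)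

/-- some element of `E` of `τ₁(M)`-prime-power order does not centralize `P`. -/
theorem bg13i_exists_mover (hG : IsMinSimpleOddOrder G) {M E P : Subgroup G} {p : ℕ}
    (h : Cfsg.Agent.Helper62.T3NR M E P p) :
    ∃ (x : G) (r j : ℕ), x ∈ E ∧ r ∈ tau1 M ∧ 0 < j ∧ orderOf x = r ^ j ∧
      x ∉ centralizer (P : Set G) := by
  have hnc := bg13i_E_not_cent hG h
  obtain ⟨hEP, hPE', -, -, hHall, hcyc, h13, -⟩ := Cfsg.Agent.Helper62.bg51_base hG h
  obtain ⟨hM, hE, hp, hPE, hP, hne⟩ := h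
  by_contra hcon
  apply hnc
  apply Cfsg.Agent.Helper62.bg51_le_of_prime_pow
  intro x hx r k hr hxk
  by_contra hxc
  have hx1 : x ≠ 1 := fun e => hxc (e ▸ Subgroup.one_mem _)
  obtain ⟨j, hjk, hj⟩ := (Nat.dvd_prime_pow hr).mp (orderOf_dvd_of_pow_eq_one hxk)
  have hj0 : 0 < j := by
    rcases Nat.eq_zero_or_pos j with h0 | h0
    · rw [h0, pow_zero] at hj; exact absurd (orderOf_eq_one_iff.mp hj) hx1
    · exact h0
  have hrE : r ∣ Nat.card E := by
    have h1 : orderOf x ∣ Nat.card E := Subgroup.orderOf_dvd_natCard E hx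
    rw [hj] at h1
    exact (dvd_pow_self r hj0.ne').trans h1
  rcases h13 r hr hrE with h1 | h3
  · exact hcon ⟨x, r, j, hx, h1, hj0, hj, hxc⟩
  · have hQr : IsPGroup r (zpowers x) :=
      IsPGroup.of_card (n := j) (by rw [Nat.card_zpowers, hj])
    have hxE' := (Cfsg.Agent.Helper98.bg14_normal_in_compl hG hM hE h3 (zpowers_le.mpr hx)
      hQr).2.1 (mem_zpowers x)
    apply hxc
    rw [mem_centralizer_iff]
    intro z hz
    have hzE' := hPE' hz
    have h4 := (IsCyclic.isMulCommutative (α := ↥⁅E, E⁆)).is_comm.comm ⟨z, hzE'⟩ ⟨x, hxE'⟩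
    exact congrArg Subtype.val h4

/-- `K = C_{M_σ}(P)` is `E`-invariant. -/
theorem bg13i_K_inv (hG : IsMinSimpleOddOrder G) {M E P : Subgroup G} {p : ℕ}
    (h : Cfsg.Agent.Helper62.T3NR M E P p) {e k : G} (he : e ∈ E)
    (hk : k ∈ sigmaCore M ⊓ centralizer (P : Set G)) :
    e * k * e⁻¹ ∈ sigmaCore M ⊓ centralizer (P : Set G) := by
  obtain ⟨hEP, -⟩ := Cfsg.Agent.Helper62.bg51_base hG h
  have h1 : e ∈ normalizer (sigmaCore M : Set G) :=
    Cfsg.Agent.Helper23.le_normalizer_piCoreOf (sigma M) M (h.hE.1 he)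
  have h2 : e ∈ normalizer ((centralizer (P : Set G) : Subgroup G) : Set G) :=
    Cfsg.Agent.Helper62.bg51_normalizer_centralizer (hEP he)
  exact Subgroup.mem_inf.mpr ⟨(Subgroup.mem_normalizer_iff.mp h1 k).mp hk.1,
    (Subgroup.mem_normalizer_iff.mp h2 k).mp hk.2⟩

/-- prime action of the `τ₁`-elements of `E` on `K` (via `S1428` in a cyclic Hall
`τ₁(M)`-subgroup): if an element of prime order `r ∈ τ₁(M)` of `E` centralizes `K`, so does
every element of `E` of prime order in `τ₁(M)`. -/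
theorem bg13i_moves_all (hG : IsMinSimpleOddOrder G) {M E P : Subgroup G} {p : ℕ}
    (h : Cfsg.Agent.Helper62.T3NR M E P p) {y w : G} {r s : ℕ} (hr : r ∈ tau1 M)
    (hs : s ∈ tau1 M) (hy : y ∈ E) (hw : w ∈ E) (hyo : orderOf y = r) (hwo : orderOf w = s)
    (hc : ∀ k ∈ sigmaCore M ⊓ centralizer (P : Set G), Commute k y) :
    ∀ k ∈ sigmaCore M ⊓ centralizer (P : Set G), Commute k w := by
  have hM := h.hM
  have hE := h.hE
  have hEM : E ≤ M := hE.1
  have hEtop : E ≠ ⊤ := fun e => hM.1 (top_le_iff.mp (e ▸ hEM))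
  have hsolv : Group.IsSolvable ↥E := Cfsg.Agent.Helper23.uq_isSolvable hG hEtop
  have hU : Cfsg.Agent.Helper22.BGUniq G :=
    fun K hK h1 h2 => Cfsg.Agent.S1403.result hG K hK h1 h2
  obtain ⟨E₁, hE₁⟩ := Cfsg.Agent.Helper31.bg139_exists_hall hG hM hE (tau1 M)
  have hE₁c : IsCyclic E₁ := (Cfsg.Agent.Helper22.bg12_E_structure hG hU hM hE).2.1 E₁ hE₁
  have hcop : (Nat.card E₁).Coprime (E₁.relIndex E) :=
    Nat.coprime_of_dvd (fun q hq hq1 hq2 => hE₁.2.2 q hq (hE₁.2.1 q hq hq1) hq2)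
  have hdiv : ∀ {v : G} {t : ℕ}, t ∈ tau1 M → v ∈ E → orderOf v = t →
      orderOf v ∣ Nat.card E₁ := by
    intro v t ht hv hvo
    have htp : t.Prime := ht.1
    have h1 : t ∣ Nat.card E := hvo ▸ Subgroup.orderOf_dvd_natCard E hv
    have h2 := Cfsg.Agent.Helper23.bg139_hall_factorization hE₁ htp ht
    rw [hvo]
    have h3 : 0 < (Nat.card E).factorization t :=
      htp.factorization_pos_of_dvd Nat.card_pos.ne' h1
    rw [← h2] at h3
    exact Nat.dvd_of_factorization_pos h3.ne'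
  obtain ⟨l, hl, hly⟩ := Cfsg.Agent.Helper23.bg14_conj_into_hall hsolv hcop hy (hdiv hr hy hyo)
  obtain ⟨l', hl', hlw⟩ := Cfsg.Agent.Helper23.bg14_conj_into_hall hsolv hcop hw (hdiv hs hw hwo)
  intro k hk
  have hk' : l'⁻¹ * k * l' ∈ sigmaCore M ⊓ centralizer (P : Set G) := by
    have h1 := bg13i_K_inv hG h (E.inv_mem hl') hk
    simpa using h1
  have hk'y' : Commute (l'⁻¹ * k * l') (l⁻¹ * y * l) := by
    have h1 : l * (l'⁻¹ * k * l') * l⁻¹ ∈ sigmaCore M ⊓ centralizer (P : Set G) :=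
      bg13i_K_inv hG h hl hk'
    have h2 := hc _ h1
    have h3 := (Commute.conj_iff l⁻¹).mpr h2
    simpa [mul_assoc] using h3
  have hoy : orderOf (l⁻¹ * y * l) = r := by
    rw [← hyo]
    have : l⁻¹ * y * l = (MulAut.conj l⁻¹) y := by simp [MulAut.conj_apply]
    rw [this]
    exact orderOf_injective (MulAut.conj l⁻¹).toMonoidHom (MulAut.conj l⁻¹).injective y
  have how : orderOf (l'⁻¹ * w * l') = s := by
    rw [← hwo]
    have : l'⁻¹ * w * l' = (MulAut.conj l'⁻¹) w := by simp [MulAut.conj_apply]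
    rw [this]
    exact orderOf_injective (MulAut.conj l'⁻¹).toMonoidHom (MulAut.conj l'⁻¹).injective w
  have hcomm : ∀ a ∈ E₁, ∀ b ∈ E₁, a * b = b * a := by
    intro a ha b hb
    have h1 := (IsCyclic.isMulCommutative (α := ↥E₁)).is_comm.comm ⟨a, ha⟩ ⟨b, hb⟩
    exact congrArg Subtype.val h1
  have hwE : l'⁻¹ * w * l' ∈ E := E.mul_mem (E.mul_mem (E.inv_mem hl') hw) hl'
  have hyE : l⁻¹ * y * l ∈ E := E.mul_mem (E.mul_mem (E.inv_mem hl) hy) hl
  have hRE : zpowers (l'⁻¹ * w * l') ≤ E ⊓ centralizer ((zpowers (l⁻¹ * y * l) : Subgroup G) : Set G) := by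
    refine le_inf (zpowers_le.mpr hwE) ?_
    rw [zpowers_le]
    rw [mem_centralizer_iff]
    intro a ha
    exact hcomm a (zpowers_le.mpr hly ha) _ hlw
  have h28 := Cfsg.Agent.S1428.result hG M hM E hE r hr (zpowers (l⁻¹ * y * l))
    (zpowers_le.mpr hyE) (by rw [Nat.card_zpowers, hoy]) (zpowers (l'⁻¹ * w * l')) hRE
    (by rw [Nat.card_zpowers, how]; exact hs.1)
  have h4 : l'⁻¹ * k * l' ∈ sigmaCore M ⊓
      centralizer ((zpowers (l⁻¹ * y * l) : Subgroup G) : Set G) := by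
    refine Subgroup.mem_inf.mpr ⟨hk'.1, ?_⟩
    rw [mem_centralizer_iff]
    intro a ha
    obtain ⟨n, rfl⟩ := Subgroup.mem_zpowers_iff.mp ha
    exact ((hk'y'.zpow_right n).symm).eq
  have h5 := (Subgroup.mem_inf.mp (h28 h4)).2
  have h6 : Commute (l'⁻¹ * k * l') (l'⁻¹ * w * l') :=
    (mem_centralizer_iff.mp h5 _ (mem_zpowers _)).symm
  have h7 := (Commute.conj_iff l').mpr h6
  simpa [mul_assoc] using h7

/-- the `S1427`-for-`H` trick: if `x ∈ E` has order `r ^ j` (`r ∈ τ₁(M)`), does not centralize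
`P`, and `Ω₁⟨x⟩` does not centralize `K`, then `Ω₁⟨x⟩` does not centralize `P`. -/
theorem bg13i_omega_moves (hG : IsMinSimpleOddOrder G) {M E P : Subgroup G} {p : ℕ}
    (h : Cfsg.Agent.Helper62.T3NR M E P p) {x : G} {r j : ℕ} (hr : r ∈ tau1 M) (hx : x ∈ E)
    (hj : 0 < j) (hxo : orderOf x = r ^ j) (hxP : x ∉ centralizer (P : Set G))
    (hmv : ¬ ∀ k ∈ sigmaCore M ⊓ centralizer (P : Set G), Commute k (x ^ r ^ (j - 1))) :
    ¬ ∀ z ∈ P, Commute z (x ^ r ^ (j - 1)) := by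
  intro hcP
  have hU : Cfsg.Agent.Helper22.BGUniq G :=
    fun K hK h1 h2 => Cfsg.Agent.S1403.result hG K hK h1 h2
  obtain ⟨hEP, -⟩ := Cfsg.Agent.Helper62.bg51_base hG h
  have hM := h.hM
  have hE := h.hE
  have hp := h.hp
  have hPE := h.hPE
  have hP := h.hP
  have hne := h.hne
  have hEM : E ≤ M := hE.1
  have hpp : p.Prime := hp.1
  haveI := Fact.mk hpp
  have hrp : r.Prime := hr.1
  haveI := Fact.mk hrp
  have hpσ : p ∉ sigma M := hp.2.1
  have hp1 : PRankLE p 1 ↥M := hp.2.2.2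
  have hPM : P ≤ M := hPE.trans hEM
  obtain ⟨H, hH, hNH, hnc⟩ := Cfsg.Agent.Helper98.bg14_exists_coatom hG hM hpσ hp1 hP
  have hpH : p ∈ sigma H :=
    Cfsg.Agent.Helper24.bg13u_over_sigma hG hM hpp hpσ hp1 hPM hP hne hH hNH
  have hEH : E ≤ H := hEP.trans hNH
  have hKH : sigmaCore M ⊓ centralizer (P : Set G) ≤ H :=
    inf_le_right.trans ((Subgroup.centralizer_le_normalizer _).trans hNH)
  set y := x ^ r ^ (j - 1) with hy
  have hyE : y ∈ E := E.pow_mem hx _
  have hyr : y ^ r = 1 := by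
    rw [hy, ← pow_mul, ← pow_succ, Nat.sub_add_cancel hj, ← hxo]
    exact pow_orderOf_eq_one x
  -- `r ∈ τ₁(H)`
  have hrH : r ∈ tau1 H := by
    by_contra hrH
    apply hmv
    have hyN : y ∈ normalizer ((sigmaCore M ⊓ centralizer (P : Set G) : Subgroup G) : Set G) := by
      rw [Subgroup.mem_normalizer_iff]
      intro k
      refine ⟨fun hk => bg13i_K_inv hG h hyE hk, fun hk => ?_⟩
      have h1 := bg13i_K_inv hG h (E.inv_mem hyE) hk
      have e1 : y⁻¹ * (y * k * y⁻¹) * y⁻¹⁻¹ = k := by group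
      rwa [e1] at h1
    have h1 := Cfsg.Agent.Helper24.bg13_cent_of_not_tau1 hG hM hH hnc hr.2.1 hrH (hEH hyE) hyr
      (D := sigmaCore M ⊓ centralizer (P : Set G)) inf_le_left hKH hyN
    intro k hk
    exact (h1 k hk).symm
  -- `P ≤ H_σ`
  have hPp : IsPGroup p P := IsPGroup.of_card (n := 1) (by rw [hP, pow_one])
  have hPH : P ≤ H := (Subgroup.le_normalizer).trans hNH
  have hPσ : P ≤ sigmaCore H := Cfsg.Agent.Helper22.bg12_le_sigmaCore hG hU hH hpp hpH hPH hPp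
  -- a complement of `H_σ` containing `x`
  have hxH : x ∈ H := hEH hx
  have hcop : (Nat.card (zpowers x)).Coprime (Nat.card (sigmaCore H)) := by
    rw [Nat.card_zpowers, hxo]
    apply Nat.Coprime.pow_left
    rw [Nat.Prime.coprime_iff_not_dvd hrp]
    intro hd
    exact hrH.2.1 (Cfsg.Agent.Helper23.mem_of_dvd_card_piCoreOf (sigma H) H hrp hd)
  obtain ⟨EH, hEHc, hxEH⟩ := Cfsg.Agent.Helper20.bg13_exists_compl_ge hG hU hH
    (zpowers_le.mpr hxH) hcop
  apply hxP
  rw [mem_centralizer_iff]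
  intro z hz
  have h1 := Cfsg.Agent.Helper1.bg139_pa_step1 hG hH hEHc hrH (hxEH (mem_zpowers x)) hj hxo
    (hPσ hz) (hcP z hz)
  exact h1.eq

/-- **S1351 (A), front half.** Reduction to a Frobenius pair: if some `R ≤ E` of prime order
`r ∈ τ₁(M)` does not centralize `K = C_{M_σ}(P)`, then some `R' ≤ E` of prime order
`r' ∈ τ₁(M)` centralizes neither `P` nor `K`. -/
theorem bg13i_frob_exists (hG : IsMinSimpleOddOrder G) {M E P R : Subgroup G} {p r : ℕ}
    (h : Cfsg.Agent.Helper62.T3NR M E P p) (hr : r ∈ tau1 M) (hRE : R ≤ E)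
    (hR : Nat.card R = r)
    (hmv : ¬ sigmaCore M ⊓ centralizer (P : Set G) ≤ centralizer (R : Set G)) :
    ∃ (R' : Subgroup G) (r' : ℕ), r' ∈ tau1 M ∧ R' ≤ E ∧ Nat.card R' = r' ∧
      ¬ R' ≤ centralizer (P : Set G) ∧
      ¬ sigmaCore M ⊓ centralizer (P : Set G) ≤ centralizer (R' : Set G) := by
  have hrp : r.Prime := hr.1
  -- a generator of `R`
  have hR1 : R ≠ ⊥ := by
    intro e
    rw [e, Subgroup.card_bot] at hR
    exact hrp.one_lt.ne' hR.symm
  obtain ⟨⟨w, hwR⟩, hw1⟩ := (Subgroup.ne_bot_iff_exists_ne_one).mp hR1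
  have hw1' : w ≠ 1 := fun e => hw1 (Subtype.ext e)
  have hwo : orderOf w = r := by
    have h1 : orderOf w ∣ r := hR ▸ Subgroup.orderOf_dvd_natCard R hwR
    rcases (Nat.dvd_prime hrp).mp h1 with h2 | h2
    · exact absurd (orderOf_eq_one_iff.mp h2) hw1'
    · exact h2
  have hRz : zpowers w = R :=
    Subgroup.eq_of_le_of_card_ge (zpowers_le.mpr hwR) (by rw [Nat.card_zpowers, hwo, hR])
  obtain ⟨x, r', j, hx, hr', hj, hxo, hxP⟩ := bg13i_exists_mover hG h
  have hr'p : r'.Prime := hr'.1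
  set y := x ^ r' ^ (j - 1) with hy
  have hyE : y ∈ E := E.pow_mem hx _
  have hyo : orderOf y = r' := by
    rw [hy, orderOf_pow' x (pow_ne_zero _ hr'p.ne_zero), hxo]
    rw [Nat.gcd_eq_right (pow_dvd_pow r' (Nat.sub_le j 1))]
    have e1 : r' ^ j = r' ^ (j - 1) * r' := by
      rw [← pow_succ, Nat.sub_add_cancel hj]
    rw [e1, Nat.mul_div_cancel_left _ (pow_pos hr'p.pos _)]
  -- `y` moves `K`
  have hmvy : ¬ ∀ k ∈ sigmaCore M ⊓ centralizer (P : Set G), Commute k y := by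
    intro hc
    apply hmv
    have h1 := bg13i_moves_all hG h hr' hr hyE (hRE hwR) hyo hwo hc
    intro k hk
    rw [← hRz, mem_centralizer_iff]
    intro a ha
    obtain ⟨n, rfl⟩ := Subgroup.mem_zpowers_iff.mp ha
    exact (((h1 k hk).zpow_right n).symm).eq
  have hmvP := bg13i_omega_moves hG h hr' hx hj hxo hxP hmvy
  refine ⟨zpowers y, r', hr', zpowers_le.mpr hyE, by rw [Nat.card_zpowers, hyo], ?_, ?_⟩
  · intro hc
    apply hmvP
    intro z hz
    exact (mem_centralizer_iff.mp (hc (mem_zpowers y)) z hz)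
  · intro hc
    apply hmvy
    intro k hk
    exact (mem_centralizer_iff.mp (hc hk) y (mem_zpowers y)).symm

end Cfsg.Agent.Helper25
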