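import Cfsg.Agent.Helper49.BGCDefs2
import Cfsg.Agent.Helper25.BG13iFrob

/-!
# CALL S1351C, piece NN1 (`starc_noncomm`)
-/

set_option autoImplicit false

namespace Cfsg.Agent.Helper25

open Cfsg Subgroup

universe u

variable {G : Type u} [Group G] [Finite G]

/-- NN1. Inside `E`: a normal `p`-subgroup `Q ⊇ P`, and some `r`-subgroup `S` (`r ≠ p`) which
does not centralize it. -/
theorem starc_noncomm (hG : IsMinSimpleOddOrder G) {M E P : Subgroup G} {p : ℕ}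
    (c : Cfsg.Agent.Helper49.StarCtx M E P p) :
    ∃ (r : ℕ) (Q S R : Subgroup G), r.Prime ∧ r ≠ p ∧ Q ≤ E ∧ IsPGroup p Q ∧
      E ≤ normalizer (Q : Set G) ∧ S ≤ E ∧ IsPGroup r S ∧ ¬ S ≤ centralizer (Q : Set G) ∧
      R ≤ S ∧ Nat.card R = r ∧ P ≤ ⁅E, E⁆ := by
  have h : Cfsg.Agent.Helper62.T3NR M E P p :=
    ⟨c.coatom, c.compl, c.tau3, c.PE, c.cardP, c.nonreg⟩
  obtain ⟨hEP, hPE', -⟩ := Cfsg.Agent.Helper62.bg51_base hG h
  obtain ⟨x, r, j, hx, hr, hj, hxo, hxP⟩ := bg13i_exists_mover hG h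
  have hrp : r.Prime := hr.1
  have hpp : p.Prime := c.tau3.1
  have hne : r ≠ p := by
    intro e
    exact hr.2.2.2.1 (e ▸ c.tau3.2.2.1)
  have hPp : IsPGroup p P := IsPGroup.of_card (n := 1) (by rw [c.cardP, pow_one])
  have hSr : IsPGroup r (zpowers x) := IsPGroup.of_card (n := j) (by rw [Nat.card_zpowers, hxo])
  have hyo : orderOf (x ^ r ^ (j - 1)) = r := by
    rw [orderOf_pow' x (pow_ne_zero _ hrp.ne_zero), hxo]
    rw [Nat.gcd_eq_right (pow_dvd_pow r (Nat.sub_le j 1))]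
    have e1 : r ^ j = r ^ (j - 1) * r := by
      rw [← pow_succ, Nat.sub_add_cancel hj]
    rw [e1, Nat.mul_div_cancel_left _ (pow_pos hrp.pos _)]
  refine ⟨r, P, zpowers x, zpowers (x ^ r ^ (j - 1)), hrp, hne, c.PE, hPp, hEP,
    zpowers_le.mpr hx, hSr, fun hc => hxP (hc (mem_zpowers x)), ?_, ?_, hPE'⟩
  · exact zpowers_le.mpr (Subgroup.pow_mem _ (mem_zpowers x) _)
  · rw [Nat.card_zpowers, hyo]

end Cfsg.Agent.Helper25
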