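import Cfsg.Agent.Helper25.CN2

/-!
# CN-groups, part 3 (helper25): quotients of CN-groups by solvable normal subgroups are CN-groups
-/

set_option autoImplicit false
set_option linter.style.haveILetI false
set_option linter.unusedVariables false

universe u

namespace Cfsg.Agent.Helper25

theorem isNilpotent_of_injective {H K : Type*} [Group H] [Group K] (f : H →* K)
    (hf : Function.Injective f) (hK : Group.IsNilpotent K) : Group.IsNilpotent H := by
  haveI := hK
  exact Group.nilpotent_of_mulEquiv (MonoidHom.ofInjective hf).symm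

theorem isNilpotent_of_le {G : Type*} [Group G] {K M : Subgroup G} (h : K ≤ M)
    (hM : Group.IsNilpotent M) : Group.IsNilpotent K :=
  isNilpotent_of_injective (Subgroup.inclusion h) (Subgroup.inclusion_injective h) hM

/-- A nontrivial normal subgroup of a nilpotent group meets the center nontrivially. -/
theorem exists_mem_center_of_normal_of_isNilpotent {N : Type*} [Group N] [Group.IsNilpotent N]
    (H : Subgroup N) [hHn : H.Normal] (hH : H ≠ ⊥) : ∃ h ∈ H, h ≠ 1 ∧ h ∈ Subgroup.center N := by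
  classical
  obtain ⟨c, hc⟩ := Group.IsNilpotent.nilpotent N
  have hex : ∃ n, H ⊓ Subgroup.upperCentralSeries N n ≠ ⊥ := ⟨c, by rw [hc, inf_top_eq]; exact hH⟩
  have hn : H ⊓ Subgroup.upperCentralSeries N (Nat.find hex) ≠ ⊥ := Nat.find_spec hex
  have hn0 : Nat.find hex ≠ 0 := by
    intro h0
    rw [h0, Subgroup.upperCentralSeries_zero, inf_bot_eq] at hn
    exact hn rfl
  obtain ⟨m, hm⟩ := Nat.exists_eq_succ_of_ne_zero hn0
  have hmin : H ⊓ Subgroup.upperCentralSeries N m = ⊥ := by
    by_contra h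
    exact Nat.find_min hex (by omega : m < Nat.find hex) h
  obtain ⟨⟨h, hh⟩, hh1⟩ := Subgroup.ne_bot_iff_exists_ne_one.mp hn
  have hh1' : h ≠ 1 := fun h0 => hh1 (Subtype.ext h0)
  refine ⟨h, hh.1, hh1', ?_⟩
  rw [Subgroup.mem_center_iff]
  intro g
  have h1 : h * g * h⁻¹ * g⁻¹ ∈ Subgroup.upperCentralSeries N m := by
    have h0 : h ∈ Subgroup.upperCentralSeries N (m + 1) := by
      have := hh.2
      rw [hm] at this
      exact this
    rw [Subgroup.mem_upperCentralSeries_succ_iff] at h0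
    exact h0 g
  have h2 : h * g * h⁻¹ * g⁻¹ ∈ H := by
    have h3 : g * h⁻¹ * g⁻¹ ∈ H := hHn.conj_mem _ (H.inv_mem hh.1) g
    have e : h * g * h⁻¹ * g⁻¹ = h * (g * h⁻¹ * g⁻¹) := by group
    rw [e]
    exact H.mul_mem hh.1 h3
  have h3 : h * g * h⁻¹ * g⁻¹ = 1 := by
    have : h * g * h⁻¹ * g⁻¹ ∈ H ⊓ Subgroup.upperCentralSeries N m := ⟨h2, h1⟩
    rw [hmin] at this
    exact Subgroup.mem_bot.mp this
  have h4 : h * g * h⁻¹ = g := mul_inv_eq_one.mp h3
  have h5 : h * g = g * h := mul_inv_eq_iff_eq_mul.mp h4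
  exact h5.symm

/-- If `M` contains a Sylow `q`-subgroup of `K` for every prime `q`, then `K ≤ M`. -/
theorem le_of_sylow_le {G : Type*} [Group G] [Finite G] (K M : Subgroup G)
    (h : ∀ q : ℕ, q.Prime → ∃ P : Sylow q K, ∀ u : K, u ∈ P → (u : G) ∈ M) : K ≤ M := by
  rw [← Subgroup.subgroupOf_eq_top, ← Subgroup.index_eq_one, Nat.eq_one_iff_not_exists_prime_dvd]
  intro q hq hdvd
  haveI : Fact q.Prime := ⟨hq⟩
  obtain ⟨P, hP⟩ := h q hq
  have hle : (P : Subgroup K) ≤ M.subgroupOf K := fun u hu => Subgroup.mem_subgroupOf.mpr (hP u hu)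
  exact P.not_dvd_index (dvd_trans hdvd (Subgroup.index_dvd_of_le hle))

/-- A `q`-element acting by conjugation on a stable set of size prime to `q` has a fixed point. -/
theorem exists_fixed_conj {G : Type*} [Group G] [Finite G] (q : ℕ) (hq : q.Prime) (u : G) (n : ℕ)
    (hu : orderOf u = q ^ n) (Ω : Set G) (hΩ : ∀ y ∈ Ω, u * y * u⁻¹ ∈ Ω)
    (hcard : ¬ q ∣ Nat.card Ω) : ∃ y ∈ Ω, u * y * u⁻¹ = y := by
  haveI : Fact q.Prime := ⟨hq⟩
  have hpow : ∀ k : ℕ, ∀ y ∈ Ω, u ^ k * y * (u ^ k)⁻¹ ∈ Ω := by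
    intro k
    induction k with
    | zero => intro y hy; simpa using hy
    | succ k ih =>
      intro y hy
      have := hΩ _ (ih y hy)
      have e : u ^ (k + 1) * y * (u ^ (k + 1))⁻¹ = u * (u ^ k * y * (u ^ k)⁻¹) * u⁻¹ := by
        rw [pow_succ']; group
      rw [e]
      exact this
  have hz : ∀ v ∈ Subgroup.zpowers u, ∀ y ∈ Ω, v * y * v⁻¹ ∈ Ω := by
    intro v hv y hy
    obtain ⟨k, rfl⟩ := mem_powers_iff_mem_zpowers.mpr hv
    exact hpow k y hy
  letI : MulAction (Subgroup.zpowers u) Ω :=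
    { smul := fun v y => ⟨(v : G) * y * (v : G)⁻¹, hz v v.2 y y.2⟩
      one_smul := by
        intro y
        apply Subtype.ext
        show ((1 : Subgroup.zpowers u) : G) * (y : G) * ((1 : Subgroup.zpowers u) : G)⁻¹ = y
        simp
      mul_smul := by
        intro v w y
        apply Subtype.ext
        show ((v * w : Subgroup.zpowers u) : G) * (y : G) * ((v * w : Subgroup.zpowers u) : G)⁻¹
          = (v : G) * ((w : G) * (y : G) * (w : G)⁻¹) * (v : G)⁻¹
        simp [mul_assoc] }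
  have hU : IsPGroup q (Subgroup.zpowers u) :=
    IsPGroup.of_card (n := n) (by rw [Nat.card_zpowers, hu])
  obtain ⟨y, hy⟩ := hU.nonempty_fixed_point_of_prime_not_dvd_card Ω hcard
  refine ⟨y, y.2, ?_⟩
  have := hy ⟨u, Subgroup.mem_zpowers u⟩
  exact congrArg Subtype.val this

/-- The conjugation orbit of an element under a `p`-subgroup has `p`-power size. -/
theorem exists_card_conj_orbit {G : Type*} [Group G] [Finite G] (p : ℕ) [Fact p.Prime]
    (A : Subgroup G) (hA : IsPGroup p A) (x : G) :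
    ∃ n : ℕ, Nat.card {y : G | ∃ a ∈ A, y = a * x * a⁻¹} = p ^ n := by
  letI : MulAction A G := MulAction.compHom G ((MulAut.conj : G →* MulAut G).comp A.subtype)
  obtain ⟨n, hn⟩ := hA.card_orbit (α := G) x
  refine ⟨n, ?_⟩
  have hset : {y : G | ∃ a ∈ A, y = a * x * a⁻¹} = MulAction.orbit A x := by
    ext y
    constructor
    · rintro ⟨a, ha, rfl⟩
      exact ⟨⟨a, ha⟩, rfl⟩
    · rintro ⟨⟨a, ha⟩, rfl⟩
      exact ⟨a, ha, rfl⟩
  rw [hset]
  exact hn

theorem isCNGroup_of_mulEquiv {G G' : Type*} [Group G] [Group G'] (e : G ≃* G')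
    (h : Cfsg.IsCNGroup G) : Cfsg.IsCNGroup G' := by
  intro g' hg'
  have hg : e.symm g' ≠ 1 := by
    intro h0
    apply hg'
    have := congrArg e h0
    simpa using this
  have hmem : ∀ c : Subgroup.centralizer ({g'} : Set G'),
      e.symm (c : G') ∈ Subgroup.centralizer ({e.symm g'} : Set G) := by
    intro c
    have hc := c.2
    rw [Subgroup.mem_centralizer_iff] at hc ⊢
    intro z hz
    rw [Set.mem_singleton_iff] at hz
    rw [hz, ← map_mul, ← map_mul, hc g' rfl]
  let f : Subgroup.centralizer ({g'} : Set G') →* Subgroup.centralizer ({e.symm g'} : Set G) :=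
    (e.symm.toMonoidHom.comp (Subgroup.centralizer ({g'} : Set G')).subtype).codRestrict _ hmem
  have hf : Function.Injective f := by
    intro a b hab
    have := congrArg Subtype.val hab
    apply Subtype.ext
    exact e.symm.injective this
  exact isNilpotent_of_injective f hf (h _ hg)

theorem mem_centralizer_singleton_iff' {G : Type*} [Group G] {a c : G} :
    c ∈ Subgroup.centralizer ({a} : Set G) ↔ a * c = c * a := by
  rw [Subgroup.mem_centralizer_iff]
  simp

theorem orderOf_of_mem_isPGroup {G : Type*} [Group G] {p : ℕ} [Fact p.Prime] {A : Subgroup G}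
    (hA : IsPGroup p A) {a : G} (ha : a ∈ A) : ∃ n, orderOf a = p ^ n := by
  obtain ⟨n, hn⟩ := (IsPGroup.iff_orderOf.mp hA) ⟨a, ha⟩
  exact ⟨n, by rw [← hn]; simp⟩

/-- Case `r ≠ p` of the main lemma. -/
theorem cn_quot_abelian_coprime {G : Type*} [Group G] [Finite G] (hCN : Cfsg.IsCNGroup G) (p : ℕ)
    (hp : p.Prime) (A : Subgroup G) [hAn : A.Normal] (hAp : IsPGroup p A)
    (r : ℕ) (hr : r.Prime) (hrp : r ≠ p) (x : G) (hxo : orderOf x = r) :
    Group.IsNilpotent (Subgroup.centralizer ({(x : G ⧸ A)} : Set (G ⧸ A))) := by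
  haveI : Fact p.Prime := ⟨hp⟩
  have hx1 : x ≠ 1 := by
    intro h
    rw [h, orderOf_one] at hxo
    exact hr.ne_one hxo.symm
  have key : ∀ g : G, (g : G ⧸ A) ∈ Subgroup.centralizer ({(x : G ⧸ A)} : Set (G ⧸ A)) →
      ∃ a ∈ A, a * g ∈ Subgroup.centralizer ({x} : Set G) := by
    intro g hg
    rw [mem_centralizer_singleton_iff'] at hg
    have hcA : g * x * g⁻¹ * x⁻¹ ∈ A := by
      rw [← QuotientGroup.eq_one_iff]
      simp only [QuotientGroup.mk_mul, QuotientGroup.mk_inv]
      rw [← hg]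
      group
    set x₁ := g * x * g⁻¹ with hx₁
    have hx₁o : orderOf x₁ = r ^ 1 := by rw [hx₁, orderOf_conj', hxo, pow_one]
    have hΩ : ∀ y ∈ {y : G | ∃ a ∈ A, y = a * x * a⁻¹}, x₁ * y * x₁⁻¹ ∈ {y : G | ∃ a ∈ A, y = a * x * a⁻¹} := by
      rintro y ⟨a, ha, rfl⟩
      refine ⟨x₁ * x⁻¹ * (x * a * x⁻¹), A.mul_mem hcA (hAn.conj_mem a ha x), ?_⟩
      group
    have hcard : ¬ r ∣ Nat.card {y : G | ∃ a ∈ A, y = a * x * a⁻¹} := by
      obtain ⟨n, hn⟩ := exists_card_conj_orbit p A hAp x
      rw [hn]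
      intro hd
      exact hrp ((Nat.prime_dvd_prime_iff_eq hr hp).mp (hr.dvd_of_dvd_pow hd))
    obtain ⟨y, ⟨a, ha, rfl⟩, hfix⟩ := exists_fixed_conj r hr x₁ 1 hx₁o _ hΩ hcard
    -- d = x₁ * y⁻¹ ∈ A has order dividing r
    have hdA : x₁ * (a * x * a⁻¹)⁻¹ ∈ A := by
      have e : x₁ * (a * x * a⁻¹)⁻¹ = (x₁ * x⁻¹) * ((x * a * x⁻¹) * a⁻¹) := by group
      rw [e]
      exact A.mul_mem hcA (A.mul_mem (hAn.conj_mem a ha x) (A.inv_mem ha))
    have hcomm : Commute x₁ (a * x * a⁻¹)⁻¹ := by
      have h1 : x₁ * (a * x * a⁻¹) = (a * x * a⁻¹) * x₁ := by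
        have := hfix
        rw [mul_inv_eq_iff_eq_mul] at this
        exact this
      exact (Commute.inv_right h1)
    have hdr : (x₁ * (a * x * a⁻¹)⁻¹) ^ r = 1 := by
      have hxr : x ^ r = 1 := by rw [← hxo]; exact pow_orderOf_eq_one x
      rw [hcomm.mul_pow, inv_pow, conj_pow, conj_pow, hxr]
      group
    have hd1 : x₁ * (a * x * a⁻¹)⁻¹ = 1 := by
      obtain ⟨n, hn⟩ := orderOf_of_mem_isPGroup hAp hdA
      have hdvd : orderOf (x₁ * (a * x * a⁻¹)⁻¹) ∣ r := orderOf_dvd_of_pow_eq_one hdr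
      rw [hn] at hdvd
      rcases Nat.eq_zero_or_pos n with h0 | h0
      · rw [h0, pow_zero] at hn
        exact orderOf_eq_one_iff.mp hn
      · exfalso
        have : p ∣ r := dvd_trans (dvd_pow_self p h0.ne') hdvd
        exact hrp ((Nat.prime_dvd_prime_iff_eq hp hr).mp this).symm
    have heq : g * x * g⁻¹ = a * x * a⁻¹ := by
      have := mul_inv_eq_one.mp hd1
      rw [← hx₁]
      exact this
    refine ⟨a⁻¹, A.inv_mem ha, ?_⟩
    rw [mem_centralizer_singleton_iff']
    have e1 : a⁻¹ * g * x = a⁻¹ * (g * x * g⁻¹) * g := by group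
    rw [e1, heq]
    group
  have hmem : ∀ c : Subgroup.centralizer ({x} : Set G),
      ((c : G) : G ⧸ A) ∈ Subgroup.centralizer ({(x : G ⧸ A)} : Set (G ⧸ A)) := by
    intro c
    have hc := c.2
    rw [mem_centralizer_singleton_iff'] at hc ⊢
    rw [← QuotientGroup.mk_mul, ← QuotientGroup.mk_mul, hc]
  let f : Subgroup.centralizer ({x} : Set G) →* Subgroup.centralizer ({(x : G ⧸ A)} : Set (G ⧸ A)) :=
    ((QuotientGroup.mk' A).comp (Subgroup.centralizer ({x} : Set G)).subtype).codRestrict _ hmem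
  have hsurj : Function.Surjective f := by
    rintro ⟨c, hc⟩
    obtain ⟨g, rfl⟩ := QuotientGroup.mk_surjective c
    obtain ⟨a, ha, hag⟩ := key g hc
    refine ⟨⟨a * g, hag⟩, ?_⟩
    apply Subtype.ext
    show ((a * g : G) : G ⧸ A) = g
    rw [QuotientGroup.mk_mul, (QuotientGroup.eq_one_iff a).mpr ha, one_mul]
  haveI := hCN x hx1
  exact Group.nilpotent_of_surjective f hsurj

/-- Case `r = p` of the main lemma. -/
theorem cn_quot_abelian_same {G : Type*} [Group G] [Finite G] (hCN : Cfsg.IsCNGroup G) (p : ℕ)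
    (hp : p.Prime) (A : Subgroup G) [hAn : A.Normal] (hAp : IsPGroup p A)
    (hAab : ∀ a ∈ A, ∀ b ∈ A, a * b = b * a) (hA1 : A ≠ ⊥)
    (x : G) (hxA : x ∉ A) (hxp : x ^ p ∈ A) :
    Group.IsNilpotent (Subgroup.centralizer ({(x : G ⧸ A)} : Set (G ⧸ A))) := by
  haveI : Fact p.Prime := ⟨hp⟩
  set C := Subgroup.centralizer ({(x : G ⧸ A)} : Set (G ⧸ A)) with hC
  set K : Subgroup G := C.comap (QuotientGroup.mk' A) with hKdef
  have hK : ∀ g, g ∈ K ↔ g * x * g⁻¹ * x⁻¹ ∈ A := by
    intro g
    rw [hKdef, Subgroup.mem_comap, hC, mem_centralizer_singleton_iff', ← QuotientGroup.eq_one_iff]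
    simp only [QuotientGroup.mk'_apply, QuotientGroup.mk_mul, QuotientGroup.mk_inv]
    constructor
    · intro h
      rw [← h]; group
    · intro h
      have h2 : (g : G ⧸ A) * (x : G ⧸ A) * (g : G ⧸ A)⁻¹ = x := mul_inv_eq_one.mp h
      have h3 := mul_inv_eq_iff_eq_mul.mp h2
      exact h3.symm
  have hAK : A ≤ K := by
    intro a ha
    rw [hK]
    have e : a * x * a⁻¹ * x⁻¹ = a * (x * a⁻¹ * x⁻¹) := by group
    rw [e]
    exact A.mul_mem ha (hAn.conj_mem _ (A.inv_mem ha) x)
  have hxK : x ∈ K := by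
    rw [hK]
    have e : x * x * x⁻¹ * x⁻¹ = 1 := by group
    rw [e]
    exact A.one_mem
  -- B = C_A(x)
  have hBnorm : ∀ g ∈ K, ∀ b ∈ A, x * b = b * x → x * (g * b * g⁻¹) = (g * b * g⁻¹) * x := by
    intro g hg b hb hbx
    have hcA := (hK g).mp hg
    have hb'A : g * b * g⁻¹ ∈ A := hAn.conj_mem b hb g
    have h1 : g * x * g⁻¹ * (g * b * g⁻¹) = g * b * g⁻¹ * (g * x * g⁻¹) := by
      have : g * x * g⁻¹ * (g * b * g⁻¹) = g * (x * b) * g⁻¹ := by group
      rw [this, hbx]; group
    have hc := hAab _ hcA _ hb'A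
    have e : g * x * g⁻¹ = g * x * g⁻¹ * x⁻¹ * x := by group
    rw [e] at h1
    have h2 : g * x * g⁻¹ * x⁻¹ * (x * (g * b * g⁻¹)) = g * x * g⁻¹ * x⁻¹ * ((g * b * g⁻¹) * x) := by
      rw [← mul_assoc, h1, ← mul_assoc, ← hc, mul_assoc]
    exact mul_left_cancel h2
  -- S = ⟨x⟩A
  have hxz : IsPGroup p (Subgroup.zpowers x) := by
    rw [isPElt_iff_isPGroup_zpowers p hp]
    obtain ⟨k, hk⟩ := hAp ⟨x ^ p, hxp⟩
    have hk' : (x ^ p) ^ p ^ k = 1 := by
      have := congrArg Subtype.val hk
      simpa using this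
    rw [← pow_mul, ← pow_succ'] at hk'
    obtain ⟨j, -, hj⟩ := (Nat.dvd_prime_pow hp).mp (orderOf_dvd_of_pow_eq_one hk')
    exact ⟨j, hj⟩
  set S : Subgroup G := Subgroup.zpowers x ⊔ A with hSdef
  have hS : IsPGroup p S := hxz.to_sup_of_normal_right hAp
  have hAS : A ≤ S := le_sup_right
  have hxS : x ∈ S := (le_sup_left : Subgroup.zpowers x ≤ S) (Subgroup.mem_zpowers x)
  have hSK : S ≤ K := sup_le (Subgroup.zpowers_le.mpr hxK) hAK
  -- a nontrivial element of B
  obtain ⟨b₁, hb₁A, hb₁1, hb₁x⟩ : ∃ b ∈ A, b ≠ 1 ∧ x * b = b * x := by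
    haveI : Group.IsNilpotent S := hS.isNilpotent
    have hne : A.subgroupOf S ≠ ⊥ := by
      obtain ⟨⟨a, ha⟩, ha1⟩ := Subgroup.ne_bot_iff_exists_ne_one.mp hA1
      rw [Subgroup.ne_bot_iff_exists_ne_one]
      refine ⟨⟨⟨a, hAS ha⟩, Subgroup.mem_subgroupOf.mpr ha⟩, ?_⟩
      intro h
      apply ha1
      have := congrArg (fun t : A.subgroupOf S => ((t : S) : G)) h
      exact Subtype.ext this
    obtain ⟨h, hhA, hh1, hhc⟩ := exists_mem_center_of_normal_of_isNilpotent (A.subgroupOf S) hne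
    refine ⟨(h : G), Subgroup.mem_subgroupOf.mp hhA, ?_, ?_⟩
    · intro h0
      exact hh1 (Subtype.ext h0)
    · have := Subgroup.mem_center_iff.mp hhc ⟨x, hxS⟩
      exact congrArg Subtype.val this
  -- a Sylow p-subgroup of K containing S
  obtain ⟨P₁, hP₁⟩ := (hS.comap_subtype (K := K)).exists_le_sylow
  have hSP : ∀ s ∈ S, ∀ hs : s ∈ K, (⟨s, hs⟩ : K) ∈ P₁ := by
    intro s hs hsK
    exact hP₁ (Subgroup.mem_comap.mpr hs)
  -- B'' inside P₁
  obtain ⟨b₀, hb₀A, hb₀1, hb₀x, hb₀c⟩ : ∃ b ∈ A, b ≠ 1 ∧ x * b = b * x ∧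
      ∀ u : K, u ∈ P₁ → (u : G) * b = b * (u : G) := by
    haveI : Group.IsNilpotent (P₁ : Subgroup K) := P₁.isPGroup'.isNilpotent
    let B'' : Subgroup (P₁ : Subgroup K) :=
      { carrier := {t | ((t : K) : G) ∈ A ∧ x * ((t : K) : G) = ((t : K) : G) * x}
        one_mem' := ⟨A.one_mem, by simp⟩
        mul_mem' := by
          rintro s t ⟨hs, hsx⟩ ⟨ht, htx⟩
          refine ⟨A.mul_mem hs ht, ?_⟩
          show x * (((s : K) : G) * ((t : K) : G)) = ((s : K) : G) * ((t : K) : G) * x
          rw [← mul_assoc, hsx, mul_assoc, htx, mul_assoc]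
        inv_mem' := by
          rintro s ⟨hs, hsx⟩
          refine ⟨A.inv_mem hs, ?_⟩
          show x * (((s : K) : G))⁻¹ = (((s : K) : G))⁻¹ * x
          rw [eq_inv_mul_iff_mul_eq, ← mul_assoc, ← hsx, mul_assoc, mul_inv_cancel, mul_one] }
    haveI : B''.Normal := by
      constructor
      rintro t ⟨ht, htx⟩ g
      refine ⟨hAn.conj_mem _ ht _, ?_⟩
      exact hBnorm ((g : K) : G) (g : K).2 _ ht htx
    have hne : B'' ≠ ⊥ := by
      rw [Subgroup.ne_bot_iff_exists_ne_one]
      have hb₁K : b₁ ∈ K := hAK hb₁A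
      refine ⟨⟨⟨⟨b₁, hb₁K⟩, hSP b₁ (hAS hb₁A) hb₁K⟩, hb₁A, hb₁x⟩, ?_⟩
      intro h
      apply hb₁1
      have := congrArg (fun t : B'' => (((t : (P₁ : Subgroup K)) : K) : G)) h
      exact this
    obtain ⟨h, ⟨hhA, hhx⟩, hh1, hhc⟩ := exists_mem_center_of_normal_of_isNilpotent B'' hne
    refine ⟨((h : K) : G), hhA, ?_, hhx, ?_⟩
    · intro h0
      apply hh1
      apply Subtype.ext
      apply Subtype.ext
      exact h0
    · intro u hu
      have := Subgroup.mem_center_iff.mp hhc ⟨u, hu⟩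
      have h2 := congrArg (fun t : (P₁ : Subgroup K) => ((t : K) : G)) this
      exact h2
  -- K ≤ C_G(b₀)
  have hKM : K ≤ Subgroup.centralizer ({b₀} : Set G) := by
    apply le_of_sylow_le
    intro q hq
    by_cases hqp : q = p
    · subst hqp
      refine ⟨P₁, fun u hu => ?_⟩
      rw [mem_centralizer_singleton_iff']
      exact (hb₀c u hu).symm
    · haveI : Fact q.Prime := ⟨hq⟩
      obtain ⟨P⟩ : Nonempty (Sylow q K) := inferInstance
      refine ⟨P, fun u hu => ?_⟩
      obtain ⟨n, hn⟩ := (IsPGroup.iff_orderOf.mp P.isPGroup') ⟨u, hu⟩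
      have hun : orderOf (u : G) = q ^ n := by
        rw [← hn]; simp
      have hucA := (hK (u : G)).mp u.2
      have hΩ : ∀ y ∈ {y : G | ∃ a ∈ A, y = x * a}, (u : G) * y * (u : G)⁻¹ ∈ {y : G | ∃ a ∈ A, y = x * a} := by
        rintro y ⟨a, ha, rfl⟩
        refine ⟨x⁻¹ * ((u : G) * x * (u : G)⁻¹ * x⁻¹) * x * ((u : G) * a * (u : G)⁻¹), ?_, ?_⟩
        · apply A.mul_mem _ (hAn.conj_mem a ha _)
          have := hAn.conj_mem _ hucA x⁻¹
          simpa using this
        · group
      have hcard : ¬ q ∣ Nat.card {y : G | ∃ a ∈ A, y = x * a} := by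
        have hset : {y : G | ∃ a ∈ A, y = x * a} = (fun a => x * a) '' (A : Set G) := by
          ext y
          constructor
          · rintro ⟨a, ha, rfl⟩
            exact ⟨a, ha, rfl⟩
          · rintro ⟨a, ha, rfl⟩
            exact ⟨a, ha, rfl⟩
        rw [hset, Nat.card_image_of_injective (mul_right_injective x)]
        obtain ⟨k, hk⟩ := hAp.exists_card_eq
        have hk' : Nat.card (A : Set G) = p ^ k := hk
        rw [hk']
        intro hd
        exact hqp ((Nat.prime_dvd_prime_iff_eq hq hp).mp (hq.dvd_of_dvd_pow hd))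
      obtain ⟨y, ⟨a, ha, rfl⟩, hfix⟩ := exists_fixed_conj q hq (u : G) n hun _ hΩ hcard
      have hy1 : x * a ≠ 1 := by
        intro h
        apply hxA
        have : x = a⁻¹ := mul_eq_one_iff_eq_inv.mp h
        rw [this]
        exact A.inv_mem ha
      have huy : (u : G) ∈ Subgroup.centralizer ({x * a} : Set G) := by
        rw [mem_centralizer_singleton_iff']
        have := mul_inv_eq_iff_eq_mul.mp hfix
        exact this.symm
      have hby : b₀ ∈ Subgroup.centralizer ({x * a} : Set G) := by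
        rw [mem_centralizer_singleton_iff']
        rw [mul_assoc, hAab a ha b₀ hb₀A, ← mul_assoc, hb₀x, mul_assoc]
      obtain ⟨m, hm⟩ := orderOf_of_mem_isPGroup hAp hb₀A
      have hcomm : Commute (u : G) b₀ := by
        apply commute_of_coprime_of_mem_nilpotent _ (hCN _ hy1) huy hby
        rw [hun, hm]
        exact Nat.Coprime.pow _ _ ((Nat.coprime_primes hq hp).mpr hqp)
      rw [mem_centralizer_singleton_iff']
      exact hcomm.eq.symm
  have hKn : Group.IsNilpotent K := isNilpotent_of_le hKM (hCN b₀ hb₀1)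
  let f : K →* C := ((QuotientGroup.mk' A).comp K.subtype).codRestrict C (fun k => k.2)
  have hsurj : Function.Surjective f := by
    rintro ⟨c, hc⟩
    obtain ⟨g, rfl⟩ := QuotientGroup.mk_surjective c
    exact ⟨⟨g, hc⟩, rfl⟩
  haveI := hKn
  exact Group.nilpotent_of_surjective f hsurj

/-- Main lemma: the quotient of a finite CN-group by a nontrivial abelian normal `p`-subgroup is a
CN-group. -/
theorem cn_quot_abelian {G : Type*} [Group G] [Finite G] (hCN : Cfsg.IsCNGroup G) (p : ℕ)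
    (hp : p.Prime) (A : Subgroup G) [hAn : A.Normal] (hAp : IsPGroup p A)
    (hAab : ∀ a ∈ A, ∀ b ∈ A, a * b = b * a) (hA1 : A ≠ ⊥) : Cfsg.IsCNGroup (G ⧸ A) := by
  haveI : Fact p.Prime := ⟨hp⟩
  intro xb hxb
  have ho1 : orderOf xb ≠ 1 := fun h => hxb (orderOf_eq_one_iff.mp h)
  obtain ⟨r, hr, hrd⟩ := Nat.exists_prime_and_dvd ho1
  set yb := xb ^ (orderOf xb / r) with hyb
  have hybo : orderOf yb = r := orderOf_pow_orderOf_div (orderOf_pos xb).ne' hrd
  have hle1 : Subgroup.centralizer ({xb} : Set (G ⧸ A)) ≤ Subgroup.centralizer ({yb} : Set (G ⧸ A)) := by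
    intro c hc
    rw [mem_centralizer_singleton_iff'] at hc ⊢
    have hcm : Commute xb c := hc
    exact (hcm.pow_left _).eq
  obtain ⟨y₀, hy₀⟩ := QuotientGroup.mk_surjective yb
  by_cases hrp : r = p
  · have hy₀A : y₀ ∉ A := by
      intro h
      have h1 : yb = 1 := by rw [← hy₀]; exact (QuotientGroup.eq_one_iff y₀).mpr h
      rw [h1, orderOf_one] at hybo
      exact hr.ne_one hybo.symm
    have hy₀p : y₀ ^ p ∈ A := by
      rw [← QuotientGroup.eq_one_iff, QuotientGroup.mk_pow, hy₀, ← hrp, ← hybo]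
      exact pow_orderOf_eq_one yb
    have := cn_quot_abelian_same hCN p hp A hAp hAab hA1 y₀ hy₀A hy₀p
    rw [hy₀] at this
    exact isNilpotent_of_le hle1 this
  · -- r ≠ p
    obtain ⟨k, hk⟩ := hAp.exists_card_eq
    set N := Nat.card A with hN
    have hNr : Nat.Coprime r N := by
      rw [hk]
      exact Nat.Coprime.pow_right k ((Nat.coprime_primes hr hp).mpr hrp)
    set y := y₀ ^ N with hy
    have hyr : y ^ r = 1 := by
      have h1 : y₀ ^ r ∈ A := by
        rw [← QuotientGroup.eq_one_iff, QuotientGroup.mk_pow, hy₀, ← hybo]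
        exact pow_orderOf_eq_one yb
      have h2 : (⟨y₀ ^ r, h1⟩ : A) ^ N = 1 := pow_card_eq_one'
      have h3 := congrArg Subtype.val h2
      rw [hy, ← pow_mul, mul_comm, pow_mul]
      simpa using h3
    have hmk : ((y : G) : G ⧸ A) = yb ^ N := by rw [hy, QuotientGroup.mk_pow, hy₀]
    have hybN : orderOf (yb ^ N) = r := by
      rw [← hybo]
      apply Nat.Coprime.orderOf_pow
      rw [hybo]; exact hNr
    have hy1 : y ≠ 1 := by
      intro h
      have : yb ^ N = 1 := by rw [← hmk, h]; rfl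
      rw [this, orderOf_one] at hybN
      exact hr.ne_one hybN.symm
    haveI : Fact r.Prime := ⟨hr⟩
    have hyo : orderOf y = r := orderOf_eq_prime hyr hy1
    have := cn_quot_abelian_coprime hCN p hp A hAp r hr hrp y hyo
    rw [hmk] at this
    have hle2 : Subgroup.centralizer ({yb} : Set (G ⧸ A)) ≤ Subgroup.centralizer ({yb ^ N} : Set (G ⧸ A)) := by
      intro c hc
      rw [mem_centralizer_singleton_iff'] at hc ⊢
      have hcm : Commute yb c := hc
      exact (hcm.pow_left _).eq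
    exact isNilpotent_of_le (hle1.trans hle2) this

theorem cn_quot_aux : ∀ n : ℕ, ∀ (G : Type u) [Group G] [Finite G], Cfsg.IsCNGroup G →
    ∀ (H : Subgroup G) [H.Normal], Group.IsSolvable H → Nat.card H = n → Cfsg.IsCNGroup (G ⧸ H) := by
  intro n
  induction n using Nat.strong_induction_on with
  | _ n ih =>
    intro G _ _ hCN H hHn hH hn
    classical
    by_cases hex : ∃ N : Subgroup G, N.Normal ∧ N ≠ ⊥ ∧ N < H
    · obtain ⟨N, hNn, hN1, hNH⟩ := hex
      haveI := hNn
      have hNsol : Group.IsSolvable N := by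
        haveI := hH
        exact Group.isSolvable_of_isSolvable_injective (Subgroup.inclusion_injective hNH.le)
      have hcardN : Nat.card N < n := by
        rw [← hn]
        exact Set.Finite.card_lt_card (Set.toFinite _) (SetLike.coe_ssubset_coe.mpr hNH)
      have h1 : Cfsg.IsCNGroup (G ⧸ N) := ih _ hcardN G hCN N hNsol rfl
      haveI : (H.map (QuotientGroup.mk' N)).Normal :=
        Subgroup.Normal.map hHn _ (QuotientGroup.mk'_surjective N)
      have hsol2 : Group.IsSolvable (H.map (QuotientGroup.mk' N)) := by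
        haveI := hH
        exact Group.isSolvable_of_surjective ((QuotientGroup.mk' N).subgroupMap_surjective H)
      have hcard2 : Nat.card (H.map (QuotientGroup.mk' N)) < n := by
        rw [← hn]
        haveI : Fintype H := Fintype.ofFinite _
        haveI : Fintype (H.map (QuotientGroup.mk' N)) := Fintype.ofFinite _
        rw [Nat.card_eq_fintype_card, Nat.card_eq_fintype_card]
        apply Fintype.card_lt_of_surjective_not_injective _ ((QuotientGroup.mk' N).subgroupMap_surjective H)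
        intro hinj
        obtain ⟨⟨a, ha⟩, ha1⟩ := Subgroup.ne_bot_iff_exists_ne_one.mp hN1
        have : (⟨a, hNH.le ha⟩ : H) = 1 := by
          apply hinj
          apply Subtype.ext
          show ((a : G) : G ⧸ N) = 1
          exact (QuotientGroup.eq_one_iff a).mpr ha
        apply ha1
        apply Subtype.ext
        have h0 : a = 1 := congrArg Subtype.val this
        exact h0
      have h2 := ih _ hcard2 (G ⧸ N) h1 (H.map (QuotientGroup.mk' N)) hsol2 rfl
      exact isCNGroup_of_mulEquiv (QuotientGroup.quotientQuotientEquivQuotient N H hNH.le) h2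
    · by_cases hH1 : H = ⊥
      · subst hH1
        exact isCNGroup_of_mulEquiv (QuotientGroup.quotientBot).symm hCN
      push Not at hex
      -- H abelian
      have hD : ⁅H, H⁆ = ⊥ := by
        by_contra hne
        have hlt : ⁅H, H⁆ < H := by
          haveI := hH
          haveI : Nontrivial H := (Subgroup.nontrivial_iff_ne_bot H).mpr hH1
          have h1 := Group.IsSolvable.commutator_lt_top_of_nontrivial H
          rw [← Subgroup.map_subtype_commutator]
          have h2 : (commutator H).map H.subtype < (⊤ : Subgroup H).map H.subtype :=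
            (Subgroup.map_lt_map_iff_of_injective H.subtype_injective).mpr h1
          rw [← MonoidHom.range_eq_map, Subgroup.range_subtype] at h2
          exact h2
        exact hex ⁅H, H⁆ inferInstance hne hlt
      have hab : ∀ a ∈ H, ∀ b ∈ H, a * b = b * a := by
        intro a ha b hb
        have := Subgroup.commutator_eq_bot_iff_le_centralizer.mp hD ha
        rw [Subgroup.mem_centralizer_iff] at this
        exact (this b hb).symm
      have hc1 : Nat.card H ≠ 1 := fun h => hH1 (Subgroup.card_eq_one.mp h)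
      obtain ⟨p, hp, hpd⟩ := Nat.exists_prime_and_dvd hc1
      haveI : Fact p.Prime := ⟨hp⟩
      let A : Subgroup G :=
        { carrier := {h | h ∈ H ∧ h ^ p = 1}
          one_mem' := ⟨H.one_mem, one_pow _⟩
          mul_mem' := by
            rintro a b ⟨ha, hap⟩ ⟨hb, hbp⟩
            refine ⟨H.mul_mem ha hb, ?_⟩
            have hcm : Commute a b := hab a ha b hb
            rw [hcm.mul_pow, hap, hbp, one_mul]
          inv_mem' := by
            rintro a ⟨ha, hap⟩
            exact ⟨H.inv_mem ha, by rw [inv_pow, hap, inv_one]⟩ }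
      have hAn : A.Normal := by
        constructor
        rintro a ⟨ha, hap⟩ g
        exact ⟨hHn.conj_mem a ha g, by rw [conj_pow, hap]; group⟩
      have hA1 : A ≠ ⊥ := by
        obtain ⟨k, hk⟩ := exists_prime_orderOf_dvd_card' (G := H) p hpd
        rw [Subgroup.ne_bot_iff_exists_ne_one]
        have hkG : orderOf (k : G) = p := by rw [← hk]; simp
        refine ⟨⟨(k : G), k.2, by rw [← hkG]; exact pow_orderOf_eq_one _⟩, ?_⟩
        intro h
        have h0 : (k : G) = 1 := congrArg Subtype.val h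
        rw [h0, orderOf_one] at hkG
        exact hp.ne_one hkG.symm
      have hAH : A ≤ H := fun a ha => ha.1
      have hAeq : A = H := by
        by_contra hne
        exact hex A hAn hA1 (lt_of_le_of_ne hAH hne)
      have hHp : IsPGroup p H := by
        rintro ⟨h, hh⟩
        refine ⟨1, ?_⟩
        have : h ∈ A := by rw [hAeq]; exact hh
        apply Subtype.ext
        simpa using this.2
      exact cn_quot_abelian hCN p hp H hHp hab hH1

/-- A quotient of a finite CN-group by a solvable normal subgroup is a CN-group. -/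
theorem isCNGroup_quotient_of_isSolvable {G : Type u} [Group G] [Finite G]
    (hCN : Cfsg.IsCNGroup G) (H : Subgroup G) [H.Normal] (hH : Group.IsSolvable H) :
    Cfsg.IsCNGroup (G ⧸ H) :=
  cn_quot_aux _ G hCN H hH rfl

end Cfsg.Agent.Helper25
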