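/-
CALL BG16 (helper25), piece HM: `M_σ` and `M_F` are Hall subgroups of `M`.
-/
import Cfsg.Agent.Helper22.BG10b
import Cfsg.Agent.Helper23.FittingHall
import Cfsg.Agent.S1403

set_option autoImplicit false

namespace Cfsg.Agent.Helper25

open Cfsg Subgroup

universe u

variable {G : Type u} [Group G] [Finite G]

/-- HM. `M_σ` and `M_F` are Hall subgroups of `M`. -/
theorem bg16_hall_facts (hG : IsMinSimpleOddOrder G) (M : Subgroup G) (hM : IsCoatom M) :
    (Nat.card (sigmaCore M)).Coprime ((sigmaCore M).relIndex M) ∧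
      (Nat.card (fittingHallOf M)).Coprime ((fittingHallOf M).relIndex M) := by
  classical
  have hU : Cfsg.Agent.Helper22.BGUniq G :=
    fun K hK h1 h2 => Cfsg.Agent.S1403.result hG K hK h1 h2
  obtain ⟨⟨-, hpi, hidx⟩, -, -⟩ := Cfsg.Agent.Helper22.bg10_sigma_hall hG hU hM
  constructor
  · apply Nat.coprime_of_dvd
    intro q hq hq1 hq2
    exact hidx q hq (hpi q hq hq1) hq2
  · have h1 := Cfsg.Agent.Helper23.fittingHall_coprime ↥M
    have hcard : Nat.card ↥(fittingHallOf M) = Nat.card ↥(fittingHall ↥M) :=
      Subgroup.card_map_of_injective M.subtype_injective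
    have hrel : (fittingHallOf M).relIndex M = (fittingHall ↥M).index := by
      rw [Subgroup.relIndex]
      congr 1
      exact Subgroup.comap_map_eq_self_of_injective M.subtype_injective (fittingHall ↥M)
    rw [hcard, hrel]
    exact h1

end Cfsg.Agent.Helper25
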