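/-
CALL S1376 / C9 (helper1), piece SN (helper25).
-/
import Cfsg.Agent.Helper1.C9Defs
import Cfsg.Agent.Helper1.BG15C1
import Cfsg.Agent.Helper23.FittingHall
import Cfsg.Agent.Helper23.Trans
import Cfsg.Agent.Helper25.BG16HM

set_option autoImplicit false

namespace Cfsg.Agent.Helper25

open Cfsg Subgroup
open Cfsg.Agent.Helper1 (C9)

universe u

variable {G : Type u} [Group G] [Finite G]

/-- SN. `M ≤ N_G(M_σ)`, `|M ⊓ L|` is prime to `|M_σ|`, `M_σ ≤ M'`. -/
theorem c9_sigma_facts (hG : IsMinSimpleOddOrder G) {M N K U L : Subgroup G} {x : G}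
    (h : C9 M N K U L x) :
    M ≤ normalizer (sigmaCore M : Set G) ∧
      (Nat.card ↥(M ⊓ L)).Coprime (Nat.card ↥(sigmaCore M)) ∧ sigmaCore M ≤ ⁅M, M⁆ := by
  refine ⟨Cfsg.Agent.Helper23.le_normalizer_piCoreOf (sigma M) M, ?_,
    Cfsg.Agent.Helper1.bg15_sigma_le_comm hG M h.hM⟩
  have hcard : Nat.card M = Nat.card ↥(M ⊓ L) * Nat.card ↥(sigmaCore M) :=
    Cfsg.Agent.Helper23.card_of_isComplIn _ _ M h.hE
  have hσM : sigmaCore M ≤ M := h.hE.2.1
  have hmul : Nat.card (sigmaCore M) * (sigmaCore M).relIndex M = Nat.card M := by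
    have := Subgroup.relIndex_mul_relIndex (⊥ : Subgroup G) (sigmaCore M) M bot_le hσM
    rwa [Subgroup.relIndex_bot_left, Subgroup.relIndex_bot_left] at this
  have hidx : (sigmaCore M).relIndex M = Nat.card ↥(M ⊓ L) := by
    apply Nat.eq_of_mul_eq_mul_left (Nat.card_pos (α := ↥(sigmaCore M)))
    rw [hmul, hcard, mul_comm]
  have hcop := (Cfsg.Agent.Helper25.bg16_hall_facts hG M h.hM).1
  rw [hidx] at hcop
  exact hcop.symm

end Cfsg.Agent.Helper25
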