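/-
CALL S1376 / C9 (helper1), piece TI (helper25).
-/
import Cfsg.Agent.Helper1.C9Defs
import Cfsg.Agent.Helper31.BGCFHb
import Cfsg.Agent.Helper1.BGUniqE
import Cfsg.Agent.Helper1.BG152Main

set_option autoImplicit false

namespace Cfsg.Agent.Helper25

open Cfsg Subgroup
open Cfsg.Agent.Helper1 (C9)

universe u

variable {G : Type u} [Group G] [Finite G]

/-- TI. `M_F` is not a TI-subset. -/
theorem c9_notTI (hG : IsMinSimpleOddOrder G) {M N K U L : Subgroup G} {x : G}
    (h : C9 M N K U L x) (hnil : Group.IsNilpotent ↥(sigmaCore M)) :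
    ¬ IsTISubset (fittingHallOf M : Set G) := by
  intro hTI
  have hM := h.hM
  have hσF := Cfsg.Agent.Helper31.bgc_sigmaCore_le_fittingHall hG hM hnil
  have hxF : x ∈ fittingHallOf M := hσF h.hx
  obtain ⟨g, hgC, hgM⟩ := SetLike.not_le_iff_exists.mp h.hxM
  have hgx : g * x * g⁻¹ = x := by
    have := Subgroup.mem_centralizer_singleton_iff.mp hgC
    rw [this, mul_inv_cancel_right]
  have := hG.2.1
  have hF1 : fittingHallOf M ≠ ⊥ := by
    intro e
    rw [e] at hxF
    exact h.hx1 (Subgroup.mem_bot.mp hxF)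
  have hFM : fittingHallOf M ≤ M := by
    unfold fittingHallOf
    exact Subgroup.map_subtype_le _
  have hN : normalizer (fittingHallOf M : Set G) = M :=
    Cfsg.Agent.Helper1.bgu_coatom_normalizer_eq hM hF1 hFM
      (Cfsg.Agent.Helper1.bg152_le_normalizer_fittingHallOf M)
  have hgN : g ∉ normalizer (fittingHallOf M : Set G) := by
    rw [hN]
    exact hgM
  exact h.hx1 (hTI g hgN x hxF (by rw [hgx]; exact hxF))

end Cfsg.Agent.Helper25
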