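import Mathlib

/-!
# Feit–Higman for rank 2 (B,N)-pairs (S1142): definitions for the linear-algebra part

`alt X Y k` is the alternating product `X * Y * X * ⋯` with `k` letters.
`fhPi` is the Casimir averaging map of the dihedral Hecke algebra, `fhC` the Schur element of a
two-dimensional representation, `fhA2`, `fhB2` the explicit two-dimensional representation with
`trace (A' * B') = fhT q1 q2 θ = 2 √(q1 q2) cos θ`, and `fhCE` the closed form of the Schur element.
-/

set_option autoImplicit false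

namespace Cfsg.Agent.Helper25.FH

/-- alternating product `X * Y * X * ⋯` with `k` letters -/
def alt {M : Type*} [Monoid M] : M → M → ℕ → M
  | _, _, 0 => 1
  | X, Y, k + 1 => X * alt Y X k

section basic

variable {M : Type*} [Monoid M]

@[simp] theorem alt_zero (X Y : M) : alt X Y 0 = 1 := rfl

theorem alt_succ (X Y : M) (k : ℕ) : alt X Y (k + 1) = X * alt Y X k := rfl

@[simp] theorem alt_one (X Y : M) : alt X Y 1 = X := by
  rw [alt_succ, alt_zero, mul_one]

theorem alt_add_two (X Y : M) (k : ℕ) : alt X Y (k + 2) = X * Y * alt X Y k := by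
  rw [alt_succ, alt_succ, mul_assoc]

theorem alt_two_mul (X Y : M) (k : ℕ) : alt X Y (2 * k) = (X * Y) ^ k := by
  induction k with
  | zero => simp
  | succ k ih =>
    rw [show 2 * (k + 1) = 2 * k + 2 by ring, alt_add_two, ih, pow_succ']

theorem alt_two_mul_add_one (X Y : M) (k : ℕ) : alt X Y (2 * k + 1) = (X * Y) ^ k * X := by
  induction k with
  | zero => simp
  | succ k ih =>
    rw [show 2 * (k + 1) + 1 = (2 * k + 1) + 2 by ring, alt_add_two, ih, pow_succ']
    simp only [mul_assoc]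

/-- appending a letter on the right, even length -/
theorem alt_two_mul_add_one' (X Y : M) (k : ℕ) : alt X Y (2 * k + 1) = alt X Y (2 * k) * X := by
  rw [alt_two_mul_add_one, alt_two_mul]

/-- appending a letter on the right, odd length -/
theorem alt_two_mul_add_two' (X Y : M) (k : ℕ) :
    alt X Y (2 * k + 2) = alt X Y (2 * k + 1) * Y := by
  rw [alt_two_mul_add_one, show 2 * k + 2 = 2 * (k + 1) by ring, alt_two_mul, pow_succ, mul_assoc]

theorem alt_map {M' : Type*} [Monoid M'] (f : M →* M') (X Y : M) (k : ℕ) :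
    f (alt X Y k) = alt (f X) (f Y) k := by
  induction k generalizing X Y with
  | zero => simp
  | succ k ih => rw [alt_succ, alt_succ, map_mul, ih]

end basic

/-- in a commutative monoid the two alternating products of even length agree -/
theorem alt_comm_even {M : Type*} [CommMonoid M] (x y : M) (k : ℕ) :
    alt x y (2 * k) = alt y x (2 * k) := by
  rw [alt_two_mul, alt_two_mul, mul_comm]

section matrices

variable {κ : Type*} [Fintype κ] [DecidableEq κ]

/-- transpose of an alternating product of symmetric matrices: the reversed word -/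
theorem alt_transpose (X Y : Matrix κ κ ℝ) (hX : X.transpose = X) (hY : Y.transpose = Y)
    (k : ℕ) :
    (alt X Y (2 * k)).transpose = alt Y X (2 * k) ∧
    (alt X Y (2 * k + 1)).transpose = alt X Y (2 * k + 1) := by
  induction k with
  | zero => simp [hX]
  | succ k ih =>
    obtain ⟨ih1, ih2⟩ := ih
    have h1 : (alt X Y (2 * (k + 1))).transpose = alt Y X (2 * (k + 1)) := by
      rw [show 2 * (k + 1) = 2 * k + 2 by ring, alt_two_mul_add_two', Matrix.transpose_mul, ih2,
        hY, ← alt_succ]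
    refine ⟨h1, ?_⟩
    rw [alt_two_mul_add_one', Matrix.transpose_mul, h1, hX, ← alt_succ, alt_two_mul_add_one']

end matrices

section casimir

variable {Ω κ : Type*} [Fintype Ω] [Fintype κ] [DecidableEq Ω] [DecidableEq κ]

/-- The Casimir averaging map `Ψ ↦ ∑_w q_w⁻¹ • A_w * Ψ * (A'_w)ᵀ`, the sum over the `2 n` reduced
alternating words `w`: `alt A B k` (`k < n`) and `alt B A (k+1)` (`k < n`). -/
noncomputable def fhPi (A B : Matrix Ω Ω ℝ) (A' B' : Matrix κ κ ℝ) (q1 q2 : ℝ) (n : ℕ)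
    (Ψ : Matrix Ω κ ℝ) : Matrix Ω κ ℝ :=
  ∑ k ∈ Finset.range n, (alt q1 q2 k)⁻¹ • (alt A B k * Ψ * (alt A' B' k).transpose)
    + ∑ k ∈ Finset.range n,
        (alt q2 q1 (k + 1))⁻¹ • (alt B A (k + 1) * Ψ * (alt B' A' (k + 1)).transpose)

end casimir

/-- The Schur element `∑_w q_w⁻¹ χ(w)²` of a two-dimensional representation. -/
noncomputable def fhC (A' B' : Matrix (Fin 2) (Fin 2) ℝ) (q1 q2 : ℝ) (n : ℕ) : ℝ :=
  ∑ k ∈ Finset.range n, (alt q1 q2 k)⁻¹ * (alt A' B' k).trace ^ 2
    + ∑ k ∈ Finset.range n, (alt q2 q1 (k + 1))⁻¹ * (alt B' A' (k + 1)).trace ^ 2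

/-- `t = 2 √(q1 q2) cos θ`, the trace of `A' * B'` -/
noncomputable def fhT (q1 q2 θ : ℝ) : ℝ := 2 * Real.sqrt (q1 * q2) * Real.cos θ

/-- `cos² φ`, `φ` the angle between the `q`-eigenlines of `A'` and `B'` -/
noncomputable def fhCc (q1 q2 θ : ℝ) : ℝ := (fhT q1 q2 θ + q1 + q2) / ((q1 + 1) * (q2 + 1))

/-- `A' = diag(q1, -1)` -/
noncomputable def fhA2 (q1 : ℝ) : Matrix (Fin 2) (Fin 2) ℝ := !![q1, 0; 0, -1]

/-- `B' = (q2 + 1) F - 1`, `F` the orthogonal projection on the line at angle `φ` -/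
noncomputable def fhB2 (q1 q2 θ : ℝ) : Matrix (Fin 2) (Fin 2) ℝ :=
  !![(q2 + 1) * fhCc q1 q2 θ - 1, (q2 + 1) * Real.sqrt (fhCc q1 q2 θ * (1 - fhCc q1 q2 θ));
     (q2 + 1) * Real.sqrt (fhCc q1 q2 θ * (1 - fhCc q1 q2 θ)), q2 - (q2 + 1) * fhCc q1 q2 θ]

/-- closed form of the Schur element (`n` even, or `q1 = q2`) as a function of `t` -/
noncomputable def fhCE (q1 q2 n t : ℝ) : ℝ :=
  2 * n + (n / (4 * q1)) * ((q1 - 1) ^ 2
      + (2 * q1 * (q2 - 1) + (q1 - 1) * t) ^ 2 / (4 * q1 * q2 - t ^ 2))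
    + (n / (4 * q2)) * ((q2 - 1) ^ 2
      + (2 * q2 * (q1 - 1) + (q2 - 1) * t) ^ 2 / (4 * q1 * q2 - t ^ 2))

end Cfsg.Agent.Helper25.FH
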