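/-
CALL BG17 (helper25): Type II ⟺ K ≠ 1 and U ≠ 1 — assembly of the pieces.
-/
import Cfsg.Agent.Helper10.BG17MF
import Cfsg.Agent.Helper2.BG17FE2
import Cfsg.Agent.Helper2.BG17FL2
import Cfsg.Agent.Helper2.BG17SN2
import Cfsg.Agent.Helper31.BG17UC
import Cfsg.Agent.Helper37.BG17D2
import Cfsg.Agent.Helper4.BG17TF2
import Cfsg.Agent.Helper42.BG17EXA
import Cfsg.Agent.Helper42.BG17TP1
import Cfsg.Agent.Helper46.BG17FL1
import Cfsg.Agent.Helper46.BG17SN13
import Cfsg.Agent.Helper46.BG17TP2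
import Cfsg.Agent.Helper47.BG17FH2
import Cfsg.Agent.Helper47.BG17WC
import Cfsg.Agent.Helper52.BG17TF1
import Cfsg.Agent.Helper54.BG17EXC
import Cfsg.Agent.Helper70.BG17TFX
import Cfsg.Agent.Helper72.BG17EXB
import Cfsg.Agent.Helper74.BG17KH
import Cfsg.Agent.Helper78.BG17CFP
import Cfsg.Agent.Helper78.BG17EXD
import Cfsg.Agent.Helper78.BG17EXU
import Cfsg.Agent.Helper80.BG17FE1
import Cfsg.Agent.Helper91.BG17WZ
import Cfsg.Agent.S1363
import Cfsg.Agent.S1364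
import Cfsg.Agent.S1365
import Cfsg.Agent.S1372
import Cfsg.Agent.Helper23.FittingHall
import Cfsg.Agent.Helper25.BG16HM
import Cfsg.Agent.Helper25.BG17EXR
import Cfsg.Agent.Helper20.BG16KAP
import Cfsg.Agent.Helper53.BG16SN

set_option autoImplicit false
set_option linter.style.haveILetI false

namespace Cfsg.Agent.Helper25

open Cfsg Subgroup

universe u

variable {G : Type u} [Group G] [Finite G]

omit [Finite G] in
theorem bg17_nilpotent_of_comm (U : Subgroup G) (h : ∀ a ∈ U, ∀ b ∈ U, a * b = b * a) :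
    Group.IsNilpotent ↥U := by
  letI : CommGroup ↥U :=
    { (inferInstance : Group ↥U) with
      mul_comm := fun a b => Subtype.ext (h a a.2 b b.2) }
  exact CommGroup.isNilpotent

/-- EXR: per prime `r ∣ |U|`, an element of full `r`-exponent with a good power of order `r`. -/
theorem bg17_exists_good' (hG : IsMinSimpleOddOrder G) {M K U : Subgroup G} (hM : IsCoatom M)
    (hKU : IsSigmaDecomposition M K U) (hK1 : K ≠ ⊥) (r : ℕ) (hr : r.Prime)
    (hrU : r ∣ Nat.card U) :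
    ∃ v : ↥U, orderOf v = r ^ (Monoid.exponent ↥U).factorization r ∧
      ∀ x ∈ sigmaCore M,
        ((v ^ r ^ ((Monoid.exponent ↥U).factorization r - 1) : ↥U) : G) * x =
          x * ((v ^ r ^ ((Monoid.exponent ↥U).factorization r - 1) : ↥U) : G) → x = 1 := by
  have h63 := Cfsg.Agent.S1363.result hG M hM K U hKU hK1
  have hUc : ∀ a ∈ U, ∀ b ∈ U, a * b = b * a := by
    intro a ha b hb
    have := isMulCommutative_iff.mp h63.1 (⟨a, ha⟩ : ↥U) ⟨b, hb⟩
    simpa using congrArg Subtype.val this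
  refine bg17_exists_good_of U (sigmaCore M) hUc r hr hrU ?_
    (fun A W hWA hA a haA ha haW => Cfsg.Agent.Helper78.bg17_W_cyclic hr A W hWA hA haA ha haW)
    (fun w hw hw1 hN => Cfsg.Agent.Helper72.bg17_char_fpf hG hM hKU hK1 hw hw1 hN)
  by_cases hτ : r ∈ tau2 M
  · right
    exact Cfsg.Agent.Helper54.bg17_tau2_data hG hM hKU hK1 hτ hrU
  · left
    intro w hw hord x hx hc
    by_contra hx1
    have hw1 : w ≠ 1 := by
      rintro rfl
      rw [orderOf_one] at hord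
      exact hr.one_lt.ne hord
    exact hτ ((Cfsg.Agent.Helper42.bg17_fix_tau2 hG hM hKU hw hw1 hx hx1 hc).1 r hr (hord ▸ dvd_rfl))

/-- The type-P data of `M = K U M_σ` with `K ≠ 1`, `U ≠ 1`. -/
theorem bg17_typeP (hG : IsMinSimpleOddOrder G) {M K U : Subgroup G} (hM : IsCoatom M)
    (hKU : IsSigmaDecomposition M K U) (hK1 : K ≠ ⊥) (hU1 : U ≠ ⊥) :
    IsTypePWith M K U (sigmaCore M ⊓ centralizer (K : Set G)) := by
  have hMF := Cfsg.Agent.Helper10.bg17_MF_eq hG hM hKU hK1 hU1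
  have h63 := Cfsg.Agent.S1363.result hG M hM K U hKU hK1
  have h64 := Cfsg.Agent.S1364.result hG M hM K U hKU hK1
  have h65 := Cfsg.Agent.S1365.result hG M hM K U hKU hK1
  have h72 := Cfsg.Agent.S1372.result hG M hM K U hKU hK1 hU1
  obtain ⟨hs1, hs2, hs3, hs4, hs5⟩ := Cfsg.Agent.Helper46.bg17_snc_basic hG hM hKU hK1
  have hFE : sigmaCore M ⊔ (M ⊓ centralizer (sigmaCore M : Set G)) = fittingOf M := by
    apply le_antisymm
    · exact sup_le h72.2.2 (Cfsg.Agent.Helper2.bg17_cent_le_fitting hG hM)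
    · exact Cfsg.Agent.Helper80.bg17_fitting_le_sup M (sigmaCore M) h72.2.2
        (Cfsg.Agent.Helper23.le_normalizer_piCoreOf (sigma M) M) (bg16_hall_facts hG M hM).1
  have hUc : ∀ a ∈ U, ∀ b ∈ U, a * b = b * a := by
    intro a ha b hb
    have := isMulCommutative_iff.mp h63.1 (⟨a, ha⟩ : ↥U) ⟨b, hb⟩
    simpa using congrArg Subtype.val this
  refine
    { W₁_ne := hK1
      W₁_cyclic := hKU.cyclic
      W₁_hall := Cfsg.Agent.Helper74.bg17_K_hall hKU.hall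
      W₁_compl := Cfsg.Agent.Helper47.bg17_W1_compl hG hM hKU hK1
      U_nilpotent := bg17_nilpotent_of_comm U hUc
      U_normal := hKU.normal
      U_compl := ?_
      H_not_cyclic := h64.2.2.2
      derived_two_le := ?_
      fitting_eq := ?_
      fitting_le := Cfsg.Agent.Helper2.bg17_fitting_le_comm hG hM hKU hK1
        (fun k hk hk1 => Cfsg.Agent.Helper46.bg17_K_not_cent hG hM hKU.cyclic hKU.hall hk hk1)
      W₂_le := le_inf h64.2.2.1 h65.2
      W₂_centralizer := Cfsg.Agent.Helper91.bg17_W2_cent hG hM hKU hK1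
      selfNormalizing := ?_ }
  · rw [hMF]; exact Cfsg.Agent.Helper31.bg17_U_compl hG hM hKU hK1
  · rw [hMF]; exact (Cfsg.Agent.Helper37.bg17_derived_two hG hM hKU hK1).trans le_sup_left
  · rw [hMF]; exact hFE
  · refine ⟨hK1, hs1, hs2, hs3, hs4, ?_⟩
    intro X hX hne
    exact le_antisymm (Cfsg.Agent.Helper2.bg17_norm_le hG hM hKU hK1 X hX hne) (hs5 X (fun x hx => (hX hx).1))

/-- `K ≠ 1`, `U ≠ 1` ⟹ Type II. -/
theorem bg17_typeII_of (hG : IsMinSimpleOddOrder G) {M K U : Subgroup G} (hM : IsCoatom M)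
    (hKU : IsSigmaDecomposition M K U) (hK1 : K ≠ ⊥) (hU1 : U ≠ ⊥) : IsOfTypeII M := by
  have hP := bg17_typeP hG hM hKU hK1 hU1
  have hMF := Cfsg.Agent.Helper10.bg17_MF_eq hG hM hKU hK1 hU1
  have h63 := Cfsg.Agent.S1363.result hG M hM K U hKU hK1
  have h72 := Cfsg.Agent.S1372.result hG M hM K U hKU hK1 hU1
  have hFH2 := Cfsg.Agent.Helper47.bg17_fittingHall_comm hG hM hKU hK1
  have hFH : fittingHallOf ⁅M, M⁆ = sigmaCore M := hFH2.trans hMF
  refine ⟨K, U, sigmaCore M ⊓ centralizer (K : Set G), hP, hU1, h72.1, h72.2.1, h63.1, h63.2,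
    ?_, hFH2⟩
  obtain ⟨t1, t2, t3, t4, t5⟩ := Cfsg.Agent.Helper52.bg17_typeF_basic hG hM hKU hK1 hU1 hFH
  have hUc := Cfsg.Agent.Helper31.bg17_U_compl hG hM hKU hK1
  have hUL : U ≤ ⁅M, M⁆ := hUc.2.1
  have hcomp := Cfsg.Agent.Helper4.bg17_isComplement' hUc
  have hcU : ∀ a b : ↥U, a * b = b * a := by
    intro a b
    exact isMulCommutative_iff.mp h63.1 a b
  obtain ⟨u, hu, hgood⟩ := Cfsg.Agent.Helper78.bg17_exists_cyclic_good (A := ↥U) hcU
    (fun w => ∀ x ∈ sigmaCore M, (w : G) * x = x * (w : G) → x = 1)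
    (by
      intro w m hw hcop x hx hxc
      obtain ⟨j, hj⟩ := exists_pow_eq_self_of_coprime (x := w) hcop.symm
      apply hw x hx
      have h1 : ((w ^ m : ↥U) : G) ^ j = (w : G) := by
        rw [← Subgroup.coe_pow, hj]
      rw [← h1]
      exact (Commute.pow_left (show Commute ((w ^ m : ↥U) : G) x from hxc) j).eq)
    (fun r hr hrU => bg17_exists_good' hG hM hKU hK1 r hr hrU)
  have hfpf : ∀ c ∈ zpowers (u : G), c ≠ 1 → ∀ x ∈ sigmaCore M, c * x = x * c → x = 1 := by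
    apply Cfsg.Agent.Helper78.bg17_cyclic_fpf (u : G) (sigmaCore M)
    intro r hr hrd x hx hxc
    rw [Subgroup.orderOf_coe] at hrd hxc
    have := hgood r hr hrd x hx
    rw [Subgroup.coe_pow] at this
    exact this hxc
  obtain ⟨U₀, hU₀le, hU₀exp, hU₀fpf⟩ := Cfsg.Agent.Helper70.bg17_typeF_U0 hUL u hu hfpf
  refine ⟨t1, t2, t3, t4, U.subgroupOf ⁅M, M⁆, ?_, ?_,
    ⟨U.subgroupOf ⁅M, M⁆, le_rfl, le_normalizer, ?_, fun x _ _ => inf_le_left⟩,
    ⟨U₀, hU₀le, hU₀exp, ?_⟩⟩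
  · intro hbot
    apply hU1
    rw [Subgroup.subgroupOf_eq_bot] at hbot
    exact eq_bot_iff.mpr (fun x hx => by
      have : x ∈ U ⊓ ⁅M, M⁆ := ⟨hx, hUL hx⟩
      rw [hbot.eq_bot] at this
      exact this)
  · rw [t5]; exact hcomp
  · refine ⟨⟨fun a b => ?_⟩⟩
    have := hcU ⟨(a : ↥⁅M, M⁆), a.2⟩ ⟨(b : ↥⁅M, M⁆), b.2⟩
    apply Subtype.ext
    apply Subtype.ext
    simpa using congrArg Subtype.val this
  · intro c hc hc1 x hx hcx
    rw [t5] at hx
    exact hU₀fpf c hc hc1 x hx hcx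

/-- Type II ⟹ `K ≠ 1`, `U ≠ 1`. -/
theorem bg17_of_typeII (hG : IsMinSimpleOddOrder G) {M K U : Subgroup G} (hM : IsCoatom M)
    (hKU : IsSigmaDecomposition M K U) (h : IsOfTypeII M) : K ≠ ⊥ ∧ U ≠ ⊥ := by
  obtain ⟨W₁, U', W₂, hP, hU'1, hW₁p, -, -, hN, -, -⟩ := h
  have hκ := Cfsg.Agent.Helper20.bg16_mem_kappa hG M hM W₁ U' W₂ hP hW₁p
  have hK1 : K ≠ ⊥ := by
    intro hbot
    have h1 : ¬ Nat.card W₁ ∣ K.relIndex M := hKU.hall.2.2 _ hκ.1 hκ
    rw [hbot, Subgroup.relIndex_bot_left] at h1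
    exact h1 hκ.2.1
  refine ⟨hK1, ?_⟩
  intro hU
  apply hN
  have h65 := (Cfsg.Agent.S1365.result hG M hM K U hKU hK1).1
  have hcomm : ⁅M, M⁆ = sigmaCore M := by rw [h65, hU, bot_sup_eq]
  have hc : IsComplIn (fittingHallOf M) U' (sigmaCore M) := hcomm ▸ hP.U_compl
  have hHall := Cfsg.Agent.Helper46.bg17_compl_hall hG hM U' hc
  have hU'σ : U' ≤ sigmaCore M := hc.2.1
  have hcard : Nat.card ↥U' ≠ 1 := fun h1 => hU'1 (Subgroup.card_eq_one.mp h1)
  obtain ⟨r, hr, hrd⟩ := Nat.exists_prime_and_dvd hcard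
  haveI : Fact r.Prime := ⟨hr⟩
  obtain ⟨P⟩ : Nonempty (Sylow r ↥U') := inferInstance
  have hP1 : (P : Subgroup ↥U') ≠ ⊥ := Sylow.ne_bot_of_dvd_card P hrd
  exact (Cfsg.Agent.Helper42.bg17_norm_le_sylow U' hP.U_nilpotent r P).trans
    (Cfsg.Agent.Helper53.bg16_sylow_norm hG M hM U' hU'σ hHall r hr P hP1)

end Cfsg.Agent.Helper25
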