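import Cfsg.Agent.Helper25.BG13iFrob

/-!
# CALL S1351A, piece PA (`bg13i_transfer`): prime action of the `τ₁`-part of `E`
-/

set_option autoImplicit false

namespace Cfsg.Agent.Helper25

open Cfsg Subgroup

universe u

variable {G : Type u} [Group G] [Finite G]

omit [Finite G] in
/-- a subgroup of prime order is generated by an element of that order. -/
theorem bg13i_exists_gen {R : Subgroup G} {r : ℕ} (hr : r.Prime) (hR : Nat.card R = r) :
    ∃ w ∈ R, orderOf w = r ∧ zpowers w = R := by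
  haveI : Finite ↥R := Nat.finite_of_card_ne_zero (by rw [hR]; exact hr.ne_zero)
  have hR1 : R ≠ ⊥ := by
    intro e
    rw [e, Subgroup.card_bot] at hR
    exact hr.one_lt.ne' hR.symm
  obtain ⟨⟨w, hwR⟩, hw1⟩ := (Subgroup.ne_bot_iff_exists_ne_one).mp hR1
  have hw1' : w ≠ 1 := fun e => hw1 (Subtype.ext e)
  have hwo : orderOf w = r := by
    have h1 : orderOf w ∣ r := hR ▸ Subgroup.orderOf_dvd_natCard R hwR
    rcases (Nat.dvd_prime hr).mp h1 with h2 | h2
    · exact absurd (orderOf_eq_one_iff.mp h2) hw1'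
    · exact h2
  exact ⟨w, hwR, hwo,
    Subgroup.eq_of_le_of_card_ge (zpowers_le.mpr hwR) (by rw [Nat.card_zpowers, hwo, hR])⟩

/-- elementwise form of PA for an `E`-invariant `K ≤ M_σ`. -/
theorem bg13i_moves_all_gen (hG : IsMinSimpleOddOrder G) {M E K : Subgroup G} (hM : IsCoatom M)
    (hE : IsComplIn E (sigmaCore M) M) (hKσ : K ≤ sigmaCore M)
    (hEK : E ≤ normalizer (K : Set G)) {y w : G} {r s : ℕ} (hr : r ∈ tau1 M)
    (hs : s ∈ tau1 M) (hy : y ∈ E) (hw : w ∈ E) (hyo : orderOf y = r) (hwo : orderOf w = s)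
    (hc : ∀ k ∈ K, Commute k y) : ∀ k ∈ K, Commute k w := by
  have hinv : ∀ {e k : G}, e ∈ E → k ∈ K → e * k * e⁻¹ ∈ K :=
    fun {e k} he hk => (Subgroup.mem_normalizer_iff.mp (hEK he) k).mp hk
  have hEM : E ≤ M := hE.1
  have hEtop : E ≠ ⊤ := fun e => hM.1 (top_le_iff.mp (e ▸ hEM))
  have hsolv : Group.IsSolvable ↥E := Cfsg.Agent.Helper23.uq_isSolvable hG hEtop
  have hU : Cfsg.Agent.Helper22.BGUniq G :=
    fun K hK h1 h2 => Cfsg.Agent.S1403.result hG K hK h1 h2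
  obtain ⟨E₁, hE₁⟩ := Cfsg.Agent.Helper31.bg139_exists_hall hG hM hE (tau1 M)
  have hE₁c : IsCyclic E₁ := (Cfsg.Agent.Helper22.bg12_E_structure hG hU hM hE).2.1 E₁ hE₁
  have hcop : (Nat.card E₁).Coprime (E₁.relIndex E) :=
    Nat.coprime_of_dvd (fun q hq hq1 hq2 => hE₁.2.2 q hq (hE₁.2.1 q hq hq1) hq2)
  have hdiv : ∀ {v : G} {t : ℕ}, t ∈ tau1 M → v ∈ E → orderOf v = t →
      orderOf v ∣ Nat.card E₁ := by
    intro v t ht hv hvo
    have htp : t.Prime := ht.1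
    have h1 : t ∣ Nat.card E := hvo ▸ Subgroup.orderOf_dvd_natCard E hv
    have h2 := Cfsg.Agent.Helper23.bg139_hall_factorization hE₁ htp ht
    rw [hvo]
    have h3 : 0 < (Nat.card E).factorization t :=
      htp.factorization_pos_of_dvd Nat.card_pos.ne' h1
    rw [← h2] at h3
    exact Nat.dvd_of_factorization_pos h3.ne'
  obtain ⟨l, hl, hly⟩ := Cfsg.Agent.Helper23.bg14_conj_into_hall hsolv hcop hy (hdiv hr hy hyo)
  obtain ⟨l', hl', hlw⟩ := Cfsg.Agent.Helper23.bg14_conj_into_hall hsolv hcop hw (hdiv hs hw hwo)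
  intro k hk
  have hk' : l'⁻¹ * k * l' ∈ K := by
    have h1 := hinv (E.inv_mem hl') hk
    simpa using h1
  have hk'y' : Commute (l'⁻¹ * k * l') (l⁻¹ * y * l) := by
    have h1 : l * (l'⁻¹ * k * l') * l⁻¹ ∈ K := hinv hl hk'
    have h2 := hc _ h1
    have h3 := (Commute.conj_iff l⁻¹).mpr h2
    simpa [mul_assoc] using h3
  have hoy : orderOf (l⁻¹ * y * l) = r := by
    rw [← hyo]
    have : l⁻¹ * y * l = (MulAut.conj l⁻¹) y := by simp
    rw [this]
    exact orderOf_injective (MulAut.conj l⁻¹).toMonoidHom (MulAut.conj l⁻¹).injective y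
  have how : orderOf (l'⁻¹ * w * l') = s := by
    rw [← hwo]
    have : l'⁻¹ * w * l' = (MulAut.conj l'⁻¹) w := by simp
    rw [this]
    exact orderOf_injective (MulAut.conj l'⁻¹).toMonoidHom (MulAut.conj l'⁻¹).injective w
  have hcomm : ∀ a ∈ E₁, ∀ b ∈ E₁, a * b = b * a := by
    intro a ha b hb
    have h1 := (IsCyclic.isMulCommutative (α := ↥E₁)).is_comm.comm ⟨a, ha⟩ ⟨b, hb⟩
    exact congrArg Subtype.val h1
  have hwE : l'⁻¹ * w * l' ∈ E := E.mul_mem (E.mul_mem (E.inv_mem hl') hw) hl'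
  have hyE : l⁻¹ * y * l ∈ E := E.mul_mem (E.mul_mem (E.inv_mem hl) hy) hl
  have hRE : zpowers (l'⁻¹ * w * l') ≤
      E ⊓ centralizer ((zpowers (l⁻¹ * y * l) : Subgroup G) : Set G) := by
    refine le_inf (zpowers_le.mpr hwE) ?_
    rw [zpowers_le]
    rw [mem_centralizer_iff]
    intro a ha
    exact hcomm a (zpowers_le.mpr hly ha) _ hlw
  have h28 := Cfsg.Agent.S1428.result hG M hM E hE r hr (zpowers (l⁻¹ * y * l))
    (zpowers_le.mpr hyE) (by rw [Nat.card_zpowers, hoy]) (zpowers (l'⁻¹ * w * l')) hRE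
    (by rw [Nat.card_zpowers, how]; exact hs.1)
  have h4 : l'⁻¹ * k * l' ∈ sigmaCore M ⊓
      centralizer ((zpowers (l⁻¹ * y * l) : Subgroup G) : Set G) := by
    refine Subgroup.mem_inf.mpr ⟨hKσ hk', ?_⟩
    rw [mem_centralizer_iff]
    intro a ha
    obtain ⟨n, rfl⟩ := Subgroup.mem_zpowers_iff.mp ha
    exact ((hk'y'.zpow_right n).symm).eq
  have h5 := (Subgroup.mem_inf.mp (h28 h4)).2
  have h6 : Commute (l'⁻¹ * k * l') (l'⁻¹ * w * l') :=
    (mem_centralizer_iff.mp h5 _ (mem_zpowers _)).symm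
  have h7 := (Commute.conj_iff l').mpr h6
  simpa [mul_assoc] using h7

/-- PIECE PA (prime action of the `τ₁`-part, S1415 + S1428). `K ≤ M_σ` normalized by `E`; if one
subgroup `R ≤ E` of prime order `r ∈ τ₁(M)` centralizes `K`, so does every such subgroup `R₀`. -/
theorem bg13i_transfer (hG : IsMinSimpleOddOrder G) {M E K R₀ R : Subgroup G} (hM : IsCoatom M)
    (hE : IsComplIn E (sigmaCore M) M) (hKσ : K ≤ sigmaCore M)
    (hEK : E ≤ normalizer (K : Set G)) {r₀ r : ℕ} (hr₀ : r₀ ∈ tau1 M) (hr : r ∈ tau1 M)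
    (hR₀E : R₀ ≤ E) (hRE : R ≤ E) (hR₀c : Nat.card R₀ = r₀) (hRc : Nat.card R = r)
    (h : K ≤ centralizer (R : Set G)) : K ≤ centralizer (R₀ : Set G) := by
  obtain ⟨y, hyR, hyo, hyz⟩ := bg13i_exists_gen hr.1 hRc
  obtain ⟨w, hwR, hwo, hwz⟩ := bg13i_exists_gen hr₀.1 hR₀c
  have hc : ∀ k ∈ K, Commute k y :=
    fun k hk => (mem_centralizer_iff.mp (h hk) y hyR).symm
  have h1 := bg13i_moves_all_gen hG hM hE hKσ hEK hr hr₀ (hRE hyR) (hR₀E hwR) hyo hwo hc
  intro k hk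
  rw [← hwz, mem_centralizer_iff]
  intro a ha
  obtain ⟨n, rfl⟩ := Subgroup.mem_zpowers_iff.mp ha
  exact (((h1 k hk).zpow_right n).symm).eq

end Cfsg.Agent.Helper25
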