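import Cfsg.Agent.Helper25.BG13iPA
import Cfsg.Agent.Helper22.BG13iDefs

/-!
# CALL S1351A, piece RED (`bg13i_reduce`): reduction to the configuration `BG13iCfg`
-/

set_option autoImplicit false

namespace Cfsg.Agent.Helper25

open Cfsg Subgroup

universe u

variable {G : Type u} [Group G] [Finite G]

/-- PIECE RED. From a `τ₁`-subgroup `R₀` of `E` not centralizing `K := C_{M_σ}(P)` to the
configuration. -/
theorem bg13i_reduce (hG : IsMinSimpleOddOrder G) {M E P R₀ : Subgroup G} {p r₀ : ℕ}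
    (hM : IsCoatom M) (hE : IsComplIn E (sigmaCore M) M) (hp : p ∈ tau3 M) (hPE : P ≤ E)
    (hP : Nat.card P = p) (hr₀ : r₀ ∈ tau1 M) (hR₀E : R₀ ≤ E) (hR₀ : Nat.card R₀ = r₀)
    (hne : ¬ sigmaCore M ⊓ centralizer (P : Set G) ≤ centralizer (R₀ : Set G)) :
    ∃ (H R : Subgroup G) (r : ℕ), Cfsg.Agent.Helper22.BG13iCfg M H E P R p r := by
  have hK1 : sigmaCore M ⊓ centralizer (P : Set G) ≠ ⊥ := fun e => hne (e ▸ bot_le)
  have h : Cfsg.Agent.Helper62.T3NR M E P p := ⟨hM, hE, hp, hPE, hP, hK1⟩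
  obtain ⟨R, r, hr, hRE, hR, hRP, hmv⟩ := bg13i_frob_exists hG h hr₀ hR₀E hR₀ hne
  obtain ⟨hEP, -⟩ := Cfsg.Agent.Helper62.bg51_base hG h
  have hEM : E ≤ M := hE.1
  have hpp : p.Prime := hp.1
  haveI := Fact.mk hpp
  have hrp : r.Prime := hr.1
  haveI := Fact.mk hrp
  have hpσ : p ∉ sigma M := hp.2.1
  have hp1 : PRankLE p 1 ↥M := hp.2.2.2
  have hPM : P ≤ M := hPE.trans hEM
  obtain ⟨H, hH, hNH, hnc⟩ := Cfsg.Agent.Helper98.bg14_exists_coatom hG hM hpσ hp1 hP
  have hpH : p ∈ sigma H :=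
    Cfsg.Agent.Helper24.bg13u_over_sigma hG hM hpp hpσ hp1 hPM hP hK1 hH hNH
  have hEH : E ≤ H := hEP.trans hNH
  have hKH : sigmaCore M ⊓ centralizer (P : Set G) ≤ H :=
    inf_le_right.trans ((Subgroup.centralizer_le_normalizer _).trans hNH)
  obtain ⟨y, hyR, hyo, hyz⟩ := bg13i_exists_gen hrp hR
  have hyE : y ∈ E := hRE hyR
  have hyr : y ^ r = 1 := by rw [← hyo]; exact pow_orderOf_eq_one y
  have hrH : r ∈ tau1 H := by
    by_contra hrH
    apply hmv
    have hyN : y ∈ normalizer ((sigmaCore M ⊓ centralizer (P : Set G) : Subgroup G) : Set G) := by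
      rw [Subgroup.mem_normalizer_iff]
      intro k
      refine ⟨fun hk => bg13i_K_inv hG h hyE hk, fun hk => ?_⟩
      have h1 := bg13i_K_inv hG h (E.inv_mem hyE) hk
      have e1 : y⁻¹ * (y * k * y⁻¹) * y⁻¹⁻¹ = k := by group
      rwa [e1] at h1
    have h1 := Cfsg.Agent.Helper24.bg13_cent_of_not_tau1 hG hM hH hnc hr.2.1 hrH (hEH hyE) hyr
      (D := sigmaCore M ⊓ centralizer (P : Set G)) inf_le_left hKH hyN
    intro k hk
    rw [← hyz, mem_centralizer_iff]
    intro a ha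
    obtain ⟨n, rfl⟩ := Subgroup.mem_zpowers_iff.mp ha
    exact ((Commute.zpow_right (show Commute k y from (h1 k hk).symm) n).symm).eq
  have hfix : P ⊓ centralizer (R : Set G) = ⊥ := by
    by_contra hne'
    apply hRP
    have h1 : Nat.card ↥(P ⊓ centralizer (R : Set G)) ∣ p :=
      hP ▸ Subgroup.card_dvd_of_le inf_le_left
    have h2 : Nat.card ↥(P ⊓ centralizer (R : Set G)) = p := by
      rcases (Nat.dvd_prime hpp).mp h1 with h3 | h3
      · exact absurd (Subgroup.card_eq_one.mp h3) hne'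
      · exact h3
    have h3 : P ⊓ centralizer (R : Set G) = P :=
      Subgroup.eq_of_le_of_card_ge inf_le_left (by rw [h2, hP])
    have h4 : P ≤ centralizer (R : Set G) := h3 ▸ inf_le_right
    intro a ha
    rw [mem_centralizer_iff]
    intro b hb
    exact (mem_centralizer_iff.mp (h4 hb) a ha).symm
  exact ⟨H, R, r, ⟨hM, hH, hnc, hE, hp, hPE, hP, hNH, hr, hRE, hR, hrH, hpH, hfix, hmv⟩⟩

end Cfsg.Agent.Helper25
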