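/-
CALL BG17 (helper25), piece EXB (double): if `N_G(U)` normalizes `<w>`, `w ∈ U#`, then `w` has no
fixed point `≠ 1` on `M_σ`.
-/
import Cfsg.Agent.Helper23.Trans
import Cfsg.Agent.Helper23.Uniq
import Cfsg.Agent.Helper23.Uniq4
import Cfsg.Agent.Helper42.BG17EXA
import Cfsg.Agent.S1363

set_option autoImplicit false

namespace Cfsg.Agent.Helper25

open Cfsg Subgroup

universe u

variable {G : Type u} [Group G] [Finite G]

/-- EXB. -/
theorem bg17_char_fpf (hG : IsMinSimpleOddOrder G) {M K U : Subgroup G} (hM : IsCoatom M)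
    (hKU : IsSigmaDecomposition M K U) (hK1 : K ≠ ⊥) {w : G} (hw : w ∈ U) (hw1 : w ≠ 1)
    (hN : normalizer (U : Set G) ≤ normalizer ((zpowers w : Subgroup G) : Set G)) :
    ∀ x ∈ sigmaCore M, w * x = x * w → x = 1 := by
  intro x hx hc
  by_contra hx1
  obtain ⟨-, -, huniq⟩ := Cfsg.Agent.Helper42.bg17_fix_tau2 hG hM hKU hw hw1 hx hx1 hc
  have h63 := (Cfsg.Agent.S1363.result hG M hM K U hKU hK1).2
  have := hG.2.1
  have hZ1 : (zpowers w : Subgroup G) ≠ ⊥ := by
    intro h
    exact hw1 (Subgroup.zpowers_eq_bot.mp h)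
  have hZcomm : IsMulCommutative ↥(zpowers w : Subgroup G) :=
    ⟨⟨fun a b => (IsCyclic.commGroup (α := ↥(zpowers w : Subgroup G))).mul_comm a b⟩⟩
  have hZtop : (zpowers w : Subgroup G) ≠ ⊤ := Cfsg.Agent.Helper23.uq_abelian_ne_top hG hZcomm
  obtain ⟨L, hL, hNL⟩ := Cfsg.Agent.Helper23.uq_exists_coatom_ge
    (Cfsg.Agent.Helper23.normalizer_ne_top_of_simple hZ1 hZtop)
  have hCN : centralizer ({w} : Set G) ≤ normalizer ((zpowers w : Subgroup G) : Set G) := by
    intro g hg
    have hgw : g * w = w * g := (Subgroup.mem_centralizer_singleton_iff.mp hg)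
    have hcomm : ∀ z ∈ (zpowers w : Subgroup G), g * z * g⁻¹ = z := by
      intro z hz
      obtain ⟨k, rfl⟩ := Subgroup.mem_zpowers_iff.mp hz
      have : Commute g (w ^ k) := (show Commute g w from hgw).zpow_right k
      rw [this.eq, mul_inv_cancel_right]
    rw [Subgroup.mem_normalizer_iff]
    intro z
    constructor
    · intro hz
      rw [hcomm z hz]; exact hz
    · intro hz
      have h2 := hcomm _ hz
      have h3 : g * z * g⁻¹ = z := by
        have h4 : g * (g * z * g⁻¹) * g⁻¹ = g * z * g⁻¹ := h2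
        have h5 : g * (g * z * g⁻¹) * g⁻¹ = g * (z) * g⁻¹ → g * z * g⁻¹ = z := by
          intro h
          have := mul_left_cancel (mul_right_cancel h)
          exact this
        exact h5 h4
      rw [← h3]; exact hz
  have hLM : L = M := huniq L hL (hCN.trans hNL)
  exact h63 (hN.trans (hLM ▸ hNL))

end Cfsg.Agent.Helper25
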