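/-
CALL BG17 (helper25), piece FH2 (double): `(M')_F = M_F` for `M = K U M_σ`, `K ≠ 1`.
-/
import Cfsg.Agent.Helper23.FittingHall
import Cfsg.Agent.Helper54.BG14T2
import Cfsg.Agent.Helper1.BG15C1
import Cfsg.Agent.Helper1.BG152Main
import Cfsg.Agent.Helper4.BG17FH2a
import Cfsg.Agent.Helper47.BG17WC
import Cfsg.Agent.Helper74.BG17KH

set_option autoImplicit false

namespace Cfsg.Agent.Helper25

open Cfsg Subgroup

universe u

variable {G : Type u} [Group G] [Finite G]

/-- FH2. `(M')_F = M_F`. -/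
theorem bg17_fittingHall_comm (hG : IsMinSimpleOddOrder G) {M K U : Subgroup G}
    (hM : IsCoatom M) (hKU : IsSigmaDecomposition M K U) (hK1 : K ≠ ⊥) :
    fittingHallOf ⁅M, M⁆ = fittingHallOf M := by
  classical
  have hLM : ⁅M, M⁆ ≤ M := Subgroup.commutator_le_self M
  have hWC := Cfsg.Agent.Helper47.bg17_W1_compl hG hM hKU hK1
  have hKH := Cfsg.Agent.Helper74.bg17_K_hall hKU.hall
  have hcardM : Nat.card M = Nat.card ↥⁅M, M⁆ * Nat.card K :=
    Cfsg.Agent.Helper23.card_of_isComplIn _ K M hWC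
  have hKM : K ≤ M := hKU.hall.1
  have h1 : K.relIndex M * Nat.card K = Nat.card M := by
    have := Subgroup.relIndex_mul_relIndex (⊥ : Subgroup G) K M bot_le hKM
    rw [Subgroup.relIndex_bot_left, Subgroup.relIndex_bot_left] at this
    rw [mul_comm]; exact this
  have hKidx : K.relIndex M = Nat.card ↥⁅M, M⁆ :=
    Nat.eq_of_mul_eq_mul_right Nat.card_pos (h1.trans hcardM)
  have hcop : (Nat.card ↥⁅M, M⁆).Coprime (Nat.card K) := by
    rw [← hKidx]; exact hKH.symm
  have h2 : Nat.card ↥⁅M, M⁆ * (⁅M, M⁆ : Subgroup G).relIndex M = Nat.card M := by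
    have := Subgroup.relIndex_mul_relIndex (⊥ : Subgroup G) ⁅M, M⁆ M bot_le hLM
    rw [Subgroup.relIndex_bot_left, Subgroup.relIndex_bot_left] at this
    exact this
  have hLidx : (⁅M, M⁆ : Subgroup G).relIndex M = Nat.card K :=
    Nat.eq_of_mul_eq_mul_left Nat.card_pos (h2.trans hcardM)
  have hMnL : M ≤ normalizer ((⁅M, M⁆ : Subgroup G) : Set G) :=
    Subgroup.le_normalizer_iff_commutator_le_right.mpr (Subgroup.commutator_mono le_rfl hLM)
  apply le_antisymm
  · have hTL : fittingHallOf ⁅M, M⁆ ≤ ⁅M, M⁆ := by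
      unfold fittingHallOf; exact Subgroup.map_subtype_le _
    apply Cfsg.Agent.Helper23.le_fittingHallOf M _ (hTL.trans hLM)
      (Cfsg.Agent.Helper4.bg17_fittingHall_char _ M hMnL)
    · have e : ↥(fittingHall ↥⁅M, M⁆) ≃* ↥(fittingHallOf ⁅M, M⁆) :=
        Subgroup.equivMapOfInjective _ _ (Subgroup.subtype_injective _)
      have := Cfsg.Agent.Helper1.cnodd_fittingHall_isNilpotent ↥⁅M, M⁆
      exact Group.nilpotent_of_mulEquiv e
    · rw [← Subgroup.relIndex_mul_relIndex _ _ _ hTL hLM, hLidx]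
      apply Nat.Coprime.mul_right
      · exact Cfsg.Agent.Helper1.bg152_fittingHallOf_hall ⁅M, M⁆
      · exact Nat.Coprime.coprime_dvd_left (Subgroup.card_dvd_of_le hTL) hcop
  · have hFσ := Cfsg.Agent.Helper54.bg14t_fittingHall_le hG hM
    have hσL := Cfsg.Agent.Helper1.bg15_sigma_le_comm hG M hM
    have hFL : fittingHallOf M ≤ ⁅M, M⁆ := hFσ.trans hσL
    apply Cfsg.Agent.Helper23.le_fittingHallOf ⁅M, M⁆ _ hFL
      (hLM.trans (Cfsg.Agent.Helper1.bg152_le_normalizer_fittingHallOf M))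
    · have e : ↥(fittingHall ↥M) ≃* ↥(fittingHallOf M) :=
        Subgroup.equivMapOfInjective _ _ (Subgroup.subtype_injective _)
      have := Cfsg.Agent.Helper1.cnodd_fittingHall_isNilpotent ↥M
      exact Group.nilpotent_of_mulEquiv e
    · have h3 := Cfsg.Agent.Helper1.bg152_fittingHallOf_hall M
      rw [← Subgroup.relIndex_mul_relIndex _ _ _ hFL hLM] at h3
      exact Nat.Coprime.coprime_dvd_right (Dvd.intro _ rfl) h3

end Cfsg.Agent.Helper25
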