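/-
CALL BG18 (helper25), piece AA.
-/
import Cfsg.Agent.Helper23.FittingHall
import Cfsg.Agent.Helper47.BG17WC
import Cfsg.Agent.S1432

set_option autoImplicit false

namespace Cfsg.Agent.Helper25

open Cfsg Subgroup

universe u

variable {G : Type u} [Group G] [Finite G]

/-- AA. `K ≠ 1`: a `σ(M)'`-element `a ≠ 1` of `M'` centralising some `x ∈ M_σ#` has
`C_G(a) ≤ M` and `M` is the only maximal subgroup containing `C_G(a)`. -/
theorem bg18_unique_max (hG : IsMinSimpleOddOrder G) {M K U : Subgroup G} (hM : IsCoatom M)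
    (hKU : IsSigmaDecomposition M K U) (hK1 : K ≠ ⊥) {a x : G} (ha : a ∈ ⁅M, M⁆) (ha1 : a ≠ 1)
    (hσ : ∀ p : ℕ, p.Prime → p ∣ orderOf a → p ∉ sigma M) (hx : x ∈ sigmaCore M) (hx1 : x ≠ 1)
    (hax : a * x = x * a) :
    centralizer ({a} : Set G) ≤ M ∧
      ∀ L : Subgroup G, IsCoatom L → centralizer ({a} : Set G) ≤ L → L = M := by
  have hLM : ⁅M, M⁆ ≤ M := Subgroup.commutator_le_self M
  have haM : a ∈ M := hLM ha
  have hac : a ∈ M ⊓ centralizer ({x} : Set G) :=
    ⟨haM, Subgroup.mem_centralizer_singleton_iff.mpr hax⟩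
  rcases Cfsg.Agent.S1432.result hG M hM x hx hx1 a hac ha1 hσ with ⟨hκ, -⟩ | ⟨-, -, h3⟩
  · exfalso
    obtain ⟨p, hp, hpd⟩ := Nat.exists_prime_and_dvd
      (show orderOf a ≠ 1 from fun h => ha1 (orderOf_eq_one_iff.mp h))
    have hpκ := hκ p hp hpd
    have hpL : p ∣ Nat.card ↥⁅M, M⁆ := by
      have h0 := orderOf_dvd_natCard (⟨a, ha⟩ : ↥⁅M, M⁆)
      rw [← Subgroup.orderOf_coe] at h0
      exact hpd.trans h0
    have hWC := Cfsg.Agent.Helper47.bg17_W1_compl hG hM hKU hK1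
    have hcardM : Nat.card M = Nat.card ↥⁅M, M⁆ * Nat.card K :=
      Cfsg.Agent.Helper23.card_of_isComplIn _ K M hWC
    have hKM : K ≤ M := hKU.hall.1
    have h1 : K.relIndex M * Nat.card K = Nat.card M := by
      have := Subgroup.relIndex_mul_relIndex (⊥ : Subgroup G) K M bot_le hKM
      rw [Subgroup.relIndex_bot_left, Subgroup.relIndex_bot_left] at this
      rw [mul_comm]; exact this
    have hKidx : K.relIndex M = Nat.card ↥⁅M, M⁆ :=
      Nat.eq_of_mul_eq_mul_right Nat.card_pos (h1.trans hcardM)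
    exact hKU.hall.2.2 p hp hpκ (hKidx ▸ hpL)
  · exact h3

end Cfsg.Agent.Helper25
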