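/-
CALL BG18 (helper25), piece MINV (double).
-/
import Cfsg.Agent.Helper1.BG152Main

set_option autoImplicit false

namespace Cfsg.Agent.Helper25

open Cfsg Subgroup

universe u

variable {G : Type u} [Group G]

/-- MINV (pure, definitions only). `M` normalises the sets `A₁(M)`, `A(M)`, `A₀(M)`. -/
theorem bg18_norm_sets (M : Subgroup G) :
    M ≤ normalizer (typeA1 M) ∧ M ≤ normalizer (typeA M) ∧ M ≤ normalizer (typeA0 M) := by
  classical
  have hLM : ⁅M, M⁆ ≤ M := Subgroup.commutator_le_self M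
  have hnL : M ≤ normalizer ((⁅M, M⁆ : Subgroup G) : Set G) :=
    Subgroup.le_normalizer_iff_commutator_le_right.mpr (Subgroup.commutator_mono le_rfl hLM)
  have hnF : M ≤ normalizer (fittingHallOf M : Set G) :=
    Cfsg.Agent.Helper1.bg152_le_normalizer_fittingHallOf M
  have conjL : ∀ m ∈ M, ∀ x ∈ ⁅M, M⁆, m * x * m⁻¹ ∈ ⁅M, M⁆ :=
    fun m hm x hx => (Subgroup.le_normalizer_iff.mp hnL) m hm x hx
  have conjF : ∀ m ∈ M, ∀ x ∈ fittingHallOf M, m * x * m⁻¹ ∈ fittingHallOf M :=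
    fun m hm x hx => (Subgroup.le_normalizer_iff.mp hnF) m hm x hx
  have conjT : ∀ m ∈ M, ∀ x ∈ typeCore M, m * x * m⁻¹ ∈ typeCore M := by
    intro m hm x hx
    unfold typeCore at hx ⊢
    by_cases h : IsOfTypeIII M ∨ IsOfTypeIV M
    · rw [if_pos h] at hx ⊢
      exact conjL m hm x hx
    · rw [if_neg h] at hx ⊢
      exact conjF m hm x hx
  have conj1 : ∀ m x : G, x ≠ 1 → m * x * m⁻¹ ≠ 1 := by
    intro m x hx h
    apply hx
    have e : x = m⁻¹ * (m * x * m⁻¹) * m := by group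
    rw [e, h]
    group
  have conjc : ∀ m a x : G, a * x = x * a →
      (m * a * m⁻¹) * (m * x * m⁻¹) = (m * x * m⁻¹) * (m * a * m⁻¹) := by
    intro m a x h
    have e1 : m * a * m⁻¹ * (m * x * m⁻¹) = m * (a * x) * m⁻¹ := by group
    have e2 : m * x * m⁻¹ * (m * a * m⁻¹) = m * (x * a) * m⁻¹ := by group
    rw [e1, e2, h]
  have hA : ∀ m ∈ M, ∀ a ∈ typeA M, m * a * m⁻¹ ∈ typeA M := by
    intro m hm a ha
    unfold typeA at ha ⊢
    by_cases hI : IsOfTypeI M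
    · rw [if_pos hI] at ha ⊢
      obtain ⟨haM, ha1, x, hx, hx1, hax⟩ := ha
      exact ⟨M.mul_mem (M.mul_mem hm haM) (M.inv_mem hm), conj1 m a ha1, m * x * m⁻¹,
        conjF m hm x hx, conj1 m x hx1, conjc m a x hax⟩
    · rw [if_neg hI] at ha ⊢
      obtain ⟨haL, ha1, x, hx, hx1, hax⟩ := ha
      exact ⟨conjL m hm a haL, conj1 m a ha1, m * x * m⁻¹, conjT m hm x hx, conj1 m x hx1,
        conjc m a x hax⟩
  refine ⟨?_, ?_, ?_⟩
  · rw [Subgroup.le_set_normalizer_iff]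
    intro m hm x hx
    unfold typeA1 at hx ⊢
    exact ⟨conjT m hm x hx.1, conj1 m x hx.2⟩
  · rw [Subgroup.le_set_normalizer_iff]
    exact hA
  · rw [Subgroup.le_set_normalizer_iff]
    intro m hm v hv
    unfold typeA0 at hv ⊢
    rcases hv with hv | ⟨hI, W₁, U, W₂, hP, m', hm', w, hw, hw1, hw2, rfl⟩
    · exact Or.inl (hA m hm v hv)
    · exact Or.inr ⟨hI, W₁, U, W₂, hP, m * m', M.mul_mem hm hm', w, hw, hw1, hw2, by group⟩

end Cfsg.Agent.Helper25
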