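/-
CALL BG18 (helper25), piece NT1 (double): `K ≠ 1` ⟹ `M` is not of Type I.
-/
import Cfsg.Agent.Helper22.BG10b
import Cfsg.Agent.Helper23.FittingHall
import Cfsg.Agent.Helper54.BG14T2
import Cfsg.Agent.Helper83.TI1
import Cfsg.Agent.S1364
import Cfsg.Agent.S1403

set_option autoImplicit false

namespace Cfsg.Agent.Helper25

open Cfsg Subgroup

universe u

variable {G : Type u} [Group G] [Finite G]

/-- NT1. `K ≠ 1`: `M` is not of Type I. -/
theorem bg18_not_I (hG : IsMinSimpleOddOrder G) {M K U : Subgroup G} (hM : IsCoatom M)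
    (hKU : IsSigmaDecomposition M K U) (hK1 : K ≠ ⊥) : ¬ IsOfTypeI M := by
  classical
  rintro ⟨hF, -⟩
  obtain ⟨-, -, -, -, U', -, hcompl, -, U₀, hU₀le, hexp, hfpf⟩ := hF
  have hKcard : Nat.card K ≠ 1 := fun h => hK1 (Subgroup.card_eq_one.mp h)
  obtain ⟨p, hp, hpK⟩ := Nat.exists_prime_and_dvd hKcard
  have : Fact p.Prime := ⟨hp⟩
  obtain ⟨-, hpM, hpσ, hSyl⟩ := hKU.hall.2.1 p hp hpK
  have hFσ := Cfsg.Agent.Helper54.bg14t_fittingHall_le hG hM
  have hU : Cfsg.Agent.Helper22.BGUniq G :=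
    fun K hK h1 h2 => Cfsg.Agent.S1403.result hG K hK h1 h2
  obtain ⟨⟨hσM, hpi, hidx⟩, -, -⟩ := Cfsg.Agent.Helper22.bg10_sigma_hall hG hU hM
  have hpF : ¬ p ∣ Nat.card (fittingHall ↥M) := by
    intro h
    rw [← Cfsg.Agent.Helper23.card_fittingHallOf] at h
    exact hpσ (hpi p hp (h.trans (Subgroup.card_dvd_of_le hFσ)))
  have hcard : Nat.card (fittingHall ↥M) * Nat.card U' = Nat.card ↥M := hcompl.card_mul_card
  have hpU' : p ∣ Nat.card U' := by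
    have h1 : p ∣ Nat.card (fittingHall ↥M) * Nat.card U' := by rw [hcard]; exact hpM
    exact (hp.dvd_mul.mp h1).resolve_left hpF
  have hpU₀ : p ∣ Nat.card U₀ := by
    obtain ⟨y, hy⟩ := exists_prime_orderOf_dvd_card' (G := ↥U') p hpU'
    have h1 : p ∣ Monoid.exponent ↥U' := hy ▸ Monoid.order_dvd_exponent y
    rw [← hexp] at h1
    exact h1.trans Group.exponent_dvd_nat_card
  obtain ⟨u, hu⟩ := exists_prime_orderOf_dvd_card' (G := ↥U₀) p hpU₀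
  have huM : orderOf (u : ↥M) = p := by rw [Subgroup.orderOf_coe]; exact hu
  obtain ⟨k, hk⟩ := exists_prime_orderOf_dvd_card' (G := ↥K) p hpK
  have hkM : (k : G) ∈ M := hKU.hall.1 k.2
  have hk'ord : orderOf (⟨(k : G), hkM⟩ : ↥M) = p := by
    rw [← Subgroup.orderOf_coe]
    show orderOf (k : G) = p
    rw [Subgroup.orderOf_coe]; exact hk
  -- Sylow subgroups
  have hpg_u : IsPGroup p (zpowers (u : ↥M)) :=
    IsPGroup.of_card (n := 1) (by rw [Nat.card_zpowers, huM, pow_one])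
  obtain ⟨P, hP⟩ := hpg_u.exists_le_sylow
  have hpg_k : IsPGroup p (zpowers (⟨(k : G), hkM⟩ : ↥M)) :=
    IsPGroup.of_card (n := 1) (by rw [Nat.card_zpowers, hk'ord, pow_one])
  obtain ⟨P', hP'⟩ := hpg_k.exists_le_sylow
  obtain ⟨m, hm⟩ := MulAction.exists_smul_eq ↥M P' P
  have hkP : m * ⟨(k : G), hkM⟩ * m⁻¹ ∈ (P : Subgroup ↥M) := by
    have h1 := Subgroup.smul_mem_pointwise_smul _ (MulAut.conj m) (P' : Subgroup ↥M)
      (hP' (Subgroup.mem_zpowers _))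
    rw [← Sylow.coe_subgroup_smul, hm] at h1
    simpa [MulAut.smul_def, MulAut.conj_apply] using h1
  have huP : (u : ↥M) ∈ (P : Subgroup ↥M) := hP (Subgroup.mem_zpowers _)
  have : IsCyclic ↥(P : Subgroup ↥M) := (hSyl P).1
  -- in the cyclic group `P`, `u` is a power of the conjugate of `k`
  have hord1 : orderOf (⟨(u : ↥M), huP⟩ : ↥(P : Subgroup ↥M)) = p := by
    rw [← Subgroup.orderOf_coe]; exact huM
  have hord2 : orderOf (⟨m * ⟨(k : G), hkM⟩ * m⁻¹, hkP⟩ : ↥(P : Subgroup ↥M)) = p := by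
    rw [← Subgroup.orderOf_coe]
    show orderOf (m * ⟨(k : G), hkM⟩ * m⁻¹) = p
    have h0 := MulEquiv.orderOf_eq (MulAut.conj m) (⟨(k : G), hkM⟩ : ↥M)
    rw [MulAut.conj_apply] at h0
    rw [h0]
    exact hk'ord
  have hmem := Cfsg.Agent.Helper83.mem_zpowers_of_orderOf_eq
    (a := (⟨m * ⟨(k : G), hkM⟩ * m⁻¹, hkP⟩ : ↥(P : Subgroup ↥M)))
    (b := (⟨(u : ↥M), huP⟩ : ↥(P : Subgroup ↥M))) (hord1.trans hord2.symm)
  obtain ⟨j, hj⟩ := Subgroup.mem_zpowers_iff.mp hmem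
  have hj' : (m * ⟨(k : G), hkM⟩ * m⁻¹) ^ j = (u : ↥M) := by
    have := congrArg Subtype.val hj
    simpa using this
  -- a fixed point of `k` in `M_F`
  obtain ⟨-, hKs1, hKsF, -⟩ := Cfsg.Agent.S1364.result hG M hM K U hKU hK1
  obtain ⟨y, hy, hy1⟩ : ∃ y ∈ sigmaCore M ⊓ centralizer (K : Set G), y ≠ 1 := by
    by_contra hcon
    push Not at hcon
    exact hKs1 (eq_bot_iff.mpr (fun x hx => by rw [Subgroup.mem_bot]; exact hcon x hx))
  have hyF : y ∈ fittingHallOf M := hKsF hy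
  obtain ⟨y', hy'F, hy'⟩ : ∃ y' ∈ fittingHall ↥M, (y' : G) = y := by
    obtain ⟨y', hy', h⟩ := hyF
    exact ⟨y', hy', h⟩
  have hky : (k : G) * y = y * (k : G) :=
    ((Subgroup.mem_centralizer_iff.mp hy.2) (k : G) k.2)
  -- conjugate the fixed point by `m`
  have hcomm0 : (⟨(k : G), hkM⟩ : ↥M) * y' = y' * ⟨(k : G), hkM⟩ := by
    apply Subtype.ext
    simp only [Subgroup.coe_mul]
    rw [hy']; exact hky
  have hcomm1 : (m * ⟨(k : G), hkM⟩ * m⁻¹) * (m * y' * m⁻¹) =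
      (m * y' * m⁻¹) * (m * ⟨(k : G), hkM⟩ * m⁻¹) := by
    have e1 : m * ⟨(k : G), hkM⟩ * m⁻¹ * (m * y' * m⁻¹) = m * (⟨(k : G), hkM⟩ * y') * m⁻¹ := by
      group
    have e2 : m * y' * m⁻¹ * (m * ⟨(k : G), hkM⟩ * m⁻¹) = m * (y' * ⟨(k : G), hkM⟩) * m⁻¹ := by
      group
    rw [e1, e2, hcomm0]
  have hcomm2 : (u : ↥M) * (m * y' * m⁻¹) = (m * y' * m⁻¹) * (u : ↥M) := by
    rw [← hj']
    exact (Commute.zpow_left (show Commute (m * ⟨(k : G), hkM⟩ * m⁻¹) (m * y' * m⁻¹) from hcomm1) j).eq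
  have hu1 : (u : ↥M) ≠ 1 := by
    intro h
    rw [h, orderOf_one] at huM
    exact hp.one_lt.ne huM
  have hyc : m * y' * m⁻¹ ∈ fittingHall ↥M :=
    (fittingHall_normal ↥M).conj_mem y' hy'F m
  have := hfpf (u : ↥M) u.2 hu1 _ hyc hcomm2
  have hy'1 : y' = 1 := by
    have e : y' = m⁻¹ * (m * y' * m⁻¹) * m := by group
    rw [e, this]; group
  apply hy1
  rw [← hy', hy'1]; rfl

end Cfsg.Agent.Helper25
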