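/-
CALL BG18 (helper25), piece TIG (double).
-/
import Mathlib
import Cfsg.Prelude.Def_OddOrderLocal

set_option autoImplicit false

namespace Cfsg.Agent.Helper25

open Cfsg Subgroup

universe u

variable {G : Type u} [Group G]

/-- TIG (pure). A nonempty set `X` normalised by `M` such that `x, g x g⁻¹ ∈ X` forces `g ∈ M`
is a TI-subset with set normaliser `M`. -/
theorem bg18_ti_of_forall (X : Set G) (M : Subgroup G) (hMN : M ≤ normalizer X)
    (hne : X.Nonempty) (h : ∀ g : G, ∀ x ∈ X, g * x * g⁻¹ ∈ X → g ∈ M) :
    IsTISubset X ∧ normalizer X = M := by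
  constructor
  · intro g hg x hx hgx
    exact absurd (hMN (h g x hx hgx)) hg
  · apply le_antisymm
    · intro g hg
      obtain ⟨x, hx⟩ := hne
      exact h g x hx ((Subgroup.mem_set_normalizer_iff.mp hg x).mp hx)
    · exact hMN

end Cfsg.Agent.Helper25
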