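/-
CALL BG18 (helper25): for a maximal subgroup `M` of Type II, each of `A₀(M)`, `A(M)`, `A₁(M)` is a
TI-subset of `G` with set normaliser `M` — assembly of the pieces.
-/
import Cfsg.Agent.Helper11.BG18NORM
import Cfsg.Agent.Helper11.BG18SIG
import Cfsg.Agent.Helper19.BG18A1
import Cfsg.Agent.Helper19.BG18CONJ
import Cfsg.Agent.Helper19.BG18NT34
import Cfsg.Agent.Helper25.BG18NT1
import Cfsg.Agent.Helper25.BG18TIG
import Cfsg.Agent.Helper25.BG18AA
import Cfsg.Agent.Helper25.BG18ZH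
import Cfsg.Agent.Helper25.BG18MINV
import Cfsg.Agent.Helper25.BG17Main
import Cfsg.Agent.Helper47.Syl
import Cfsg.Agent.Helper24.BG11b
import Cfsg.Agent.Helper1.BG15C1
import Cfsg.Agent.S1351
import Cfsg.Agent.S1352
import Cfsg.Agent.S1403

set_option autoImplicit false

namespace Cfsg.Agent.Helper25

open Cfsg Subgroup

universe u

variable {G : Type u} [Group G] [Finite G]

theorem bg18_main (hG : IsMinSimpleOddOrder G) (M : Subgroup G) (hM : IsCoatom M)
    (hII : IsOfTypeII M) :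
    (IsTISubset (typeA0 M) ∧ normalizer (typeA0 M) = M) ∧
      (IsTISubset (typeA M) ∧ normalizer (typeA M) = M) ∧
      (IsTISubset (typeA1 M) ∧ normalizer (typeA1 M) = M) := by
  classical
  obtain ⟨⟨K, hK⟩, hcyc⟩ := Cfsg.Agent.S1351.result hG M hM
  obtain ⟨⟨U, hKU⟩, -⟩ := Cfsg.Agent.S1352.result hG M hM K (hcyc K hK) hK
  obtain ⟨hK1, hU1⟩ := bg17_of_typeII hG hM hKU hII
  have hn34 := Cfsg.Agent.Helper19.bg18_not_III_IV hG hM hKU hK1 hU1
  have hn1 := bg18_not_I hG hM hKU hK1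
  have hMF := Cfsg.Agent.Helper10.bg17_MF_eq hG hM hKU hK1 hU1
  have hTC : typeCore M = sigmaCore M := by
    unfold typeCore
    rw [if_neg hn34]
    exact hMF
  have hA1 : typeA1 M = (↑(sigmaCore M) : Set G) \ {1} := by
    unfold typeA1
    rw [hTC]
  have hA : typeA M = {a | a ∈ ⁅M, M⁆ ∧ a ≠ 1 ∧ ∃ x ∈ sigmaCore M, x ≠ 1 ∧ a * x = x * a} := by
    unfold typeA
    rw [if_neg hn1, hTC]
  have hσL := Cfsg.Agent.Helper1.bg15_sigma_le_comm hG M hM
  have hLM : ⁅M, M⁆ ≤ M := Subgroup.commutator_le_self M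
  have hU' : Cfsg.Agent.Helper22.BGUniq G :=
    fun K hK h1 h2 => Cfsg.Agent.S1403.result hG K hK h1 h2
  have hσ1 : sigmaCore M ≠ ⊥ := Cfsg.Agent.Helper24.bg11b_sigmaCore_ne_bot hG hU' hM
  obtain ⟨x₀, hx₀, hx₀1⟩ : ∃ x ∈ sigmaCore M, x ≠ 1 := by
    by_contra hcon
    push Not at hcon
    exact hσ1 (eq_bot_iff.mpr (fun x hx => by rw [Subgroup.mem_bot]; exact hcon x hx))
  obtain ⟨n1, n2, n3⟩ := bg18_norm_sets M
  -- `A₁`
  have key1 : ∀ g : G, ∀ x ∈ typeA1 M, g * x * g⁻¹ ∈ typeA1 M → g ∈ M := by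
    intro g x hx hgx
    rw [hA1] at hx hgx
    exact Cfsg.Agent.Helper19.bg18_sigma_conj_mem hG hM hKU hK1 hU1 hx.1 (by simpa using hx.2) hgx.1
  have hA1A : typeA1 M ⊆ typeA M := by
    intro a ha
    rw [hA1] at ha
    rw [hA]
    have ha1 : a ≠ 1 := by simpa using ha.2
    exact ⟨hσL ha.1, ha1, a, ha.1, ha1, rfl⟩
  -- `A`
  have keyA : ∀ g : G, ∀ a ∈ typeA M, g * a * g⁻¹ ∈ typeA M → g ∈ M := by
    intro g a ha hga
    rw [hA] at ha hga
    obtain ⟨haL, ha1, x, hx, hx1, hax⟩ := ha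
    obtain ⟨hbL, hb1, y, hy, hy1, hby⟩ := hga
    have hb'eq : (g * a * g⁻¹) ^ Nat.card (sigmaCore M) = g * a ^ Nat.card (sigmaCore M) * g⁻¹ :=
      conj_pow
    by_cases haσ : a ∈ sigmaCore M
    · have hbσ : g * a * g⁻¹ ∈ sigmaCore M := by
        apply (Cfsg.Agent.Helper11.bg18_sigma_pow hG hM (hLM hbL)).1
        rw [hb'eq]
        have h1 : a ^ Nat.card (sigmaCore M) = 1 := by
          have h2 := congrArg Subtype.val (pow_card_eq_one' (G := ↥(sigmaCore M)) (x := ⟨a, haσ⟩))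
          rwa [Subgroup.coe_pow, Subgroup.coe_one] at h2
        rw [h1, mul_one, mul_inv_cancel]
      exact Cfsg.Agent.Helper19.bg18_sigma_conj_mem hG hM hKU hK1 hU1 haσ ha1 hbσ
    · have ha'1 : a ^ Nat.card (sigmaCore M) ≠ 1 :=
        fun h => haσ ((Cfsg.Agent.Helper11.bg18_sigma_pow hG hM (hLM haL)).1 h)
      have hσa := (Cfsg.Agent.Helper11.bg18_sigma_pow hG hM (hLM haL)).2
      have hb'1 : (g * a * g⁻¹) ^ Nat.card (sigmaCore M) ≠ 1 := by
        rw [hb'eq]
        intro h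
        apply ha'1
        have h2 : a ^ Nat.card (sigmaCore M) = g⁻¹ * (g * a ^ Nat.card (sigmaCore M) * g⁻¹) * g := by
          group
        rw [h2, h, mul_one, inv_mul_cancel]
      have hσb := (Cfsg.Agent.Helper11.bg18_sigma_pow hG hM (hLM hbL)).2
      have hax' : a ^ Nat.card (sigmaCore M) * x = x * a ^ Nat.card (sigmaCore M) :=
        (Commute.pow_left (show Commute a x from hax) _).eq
      have hby' : (g * a * g⁻¹) ^ Nat.card (sigmaCore M) * y =
          y * (g * a * g⁻¹) ^ Nat.card (sigmaCore M) :=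
        (Commute.pow_left (show Commute (g * a * g⁻¹) y from hby) _).eq
      have ua := bg18_unique_max hG hM hKU hK1 (pow_mem haL _) ha'1 hσa hx hx1 hax'
      have ub := bg18_unique_max hG hM hKU hK1 (pow_mem hbL _) hb'1 hσb hy hy1 hby'
      have hLco : IsCoatom (M.map (MulAut.conj g⁻¹).toMonoidHom) :=
        Cfsg.Agent.Helper47.isCoatom_map_conj hM g⁻¹
      have hle : centralizer ({a ^ Nat.card (sigmaCore M)} : Set G) ≤
          M.map (MulAut.conj g⁻¹).toMonoidHom := by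
        intro c hc
        have hc' : c * a ^ Nat.card (sigmaCore M) = a ^ Nat.card (sigmaCore M) * c := by
          have := Subgroup.mem_centralizer_iff.mp hc (a ^ Nat.card (sigmaCore M)) (Set.mem_singleton _)
          exact this.symm
        have hcb : g * c * g⁻¹ ∈ centralizer ({(g * a * g⁻¹) ^ Nat.card (sigmaCore M)} : Set G) := by
          rw [Subgroup.mem_centralizer_iff]
          intro t ht
          rw [Set.mem_singleton_iff] at ht
          rw [ht, hb'eq]
          have e1 : g * a ^ Nat.card (sigmaCore M) * g⁻¹ * (g * c * g⁻¹) =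
              g * (a ^ Nat.card (sigmaCore M) * c) * g⁻¹ := by group
          have e2 : g * c * g⁻¹ * (g * a ^ Nat.card (sigmaCore M) * g⁻¹) =
              g * (c * a ^ Nat.card (sigmaCore M)) * g⁻¹ := by group
          rw [e1, e2, hc']
        have hcM : g * c * g⁻¹ ∈ M := ub.1 hcb
        refine ⟨g * c * g⁻¹, hcM, ?_⟩
        simp [mul_assoc]
      have hMg : M.map (MulAut.conj g⁻¹).toMonoidHom = M := ua.2 _ hLco hle
      have := Cfsg.Agent.Helper11.bg18_mem_of_conj_eq hG hM hMg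
      simpa using inv_mem this
  -- the elements of `A₀ \ A`
  have keyB : ∀ v ∈ typeA0 M, v ∉ typeA M → ∀ h : G,
      v ∈ M.map (MulAut.conj h).toMonoidHom → h ∈ M := by
    intro v hv hvA h hvh
    rcases hv with hv | ⟨-, W₁, U', W₂, hP, m, hm, w, hw, hw1, hw2, hvw⟩
    · exact absurd hv hvA
    · obtain ⟨n, hn, hW₁, hW₂⟩ := Cfsg.Agent.Helper19.bg18_typeP_conj hG hM hKU hK1 hP
      rw [hW₁, hW₂, ← Subgroup.map_sup] at hw
      obtain ⟨z, hz, hzw⟩ := hw
      have hzw' : w = n * z * n⁻¹ := by rw [← hzw]; simp [MulAut.conj_apply]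
      have hzK : z ∉ K := by
        intro hzK
        apply hw1
        rw [hW₁, ← hzw]
        exact Subgroup.mem_map_of_mem _ hzK
      have hzK' : z ∉ sigmaCore M ⊓ centralizer (K : Set G) := by
        intro hzK'
        apply hw2
        rw [hW₂, ← hzw]
        exact Subgroup.mem_map_of_mem _ hzK'
      obtain ⟨y, hy, hyv⟩ := hvh
      have hyv' : h * y * h⁻¹ = v := by rw [← hyv]; simp [MulAut.conj_apply]
      have hzM : z ∈ M.map (MulAut.conj ((m * n)⁻¹ * h)).toMonoidHom := by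
        refine ⟨y, hy, ?_⟩
        have e1 : (MulAut.conj ((m * n)⁻¹ * h)).toMonoidHom y =
            (m * n)⁻¹ * (h * y * h⁻¹) * (m * n) := by
          simp [MulAut.conj_apply, mul_assoc]
        rw [e1, hyv', hvw, hzw']
        group
      have := bg18_Zhat_mem hG hM hKU hK1 hz hzK hzK' hzM
      have h3 : h = (m * n) * ((m * n)⁻¹ * h) := by group
      rw [h3]
      exact M.mul_mem (M.mul_mem hm hn) this
  have hFM : fittingHallOf M ≤ M := by
    unfold fittingHallOf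
    exact Subgroup.map_subtype_le _
  have hAM : ∀ t ∈ typeA M, t ∈ M := by
    intro t ht
    rw [hA] at ht
    exact hLM ht.1
  have hA0M : ∀ t ∈ typeA0 M, t ∈ M := by
    intro t ht
    rcases ht with ht | ⟨-, W₁, U', W₂, hP, m, hm, w, hw, -, -, rfl⟩
    · exact hAM t ht
    · have hW : W₁ ⊔ W₂ ≤ M :=
        sup_le hP.W₁_compl.2.1 ((hP.W₂_le.trans inf_le_left).trans hFM)
      exact M.mul_mem (M.mul_mem hm (hW hw)) (M.inv_mem hm)
  have hAA0 : typeA M ⊆ typeA0 M := by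
    intro t ht
    exact Or.inl ht
  have keyA0 : ∀ g : G, ∀ v ∈ typeA0 M, g * v * g⁻¹ ∈ typeA0 M → g ∈ M := by
    intro g v hv hgv
    by_cases h1 : v ∈ typeA M
    · by_cases h2 : g * v * g⁻¹ ∈ typeA M
      · exact keyA g v h1 h2
      · exact keyB _ hgv h2 g ⟨v, hA0M v hv, by simp [MulAut.conj_apply]⟩
    · have := keyB v hv h1 g⁻¹ ⟨g * v * g⁻¹, hA0M _ hgv, by simp [mul_assoc]⟩
      simpa using inv_mem this
  have ne1 : (typeA1 M).Nonempty := by
    refine ⟨x₀, ?_⟩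
    rw [hA1]
    exact ⟨hx₀, by simpa using hx₀1⟩
  have neA : (typeA M).Nonempty := ne1.mono hA1A
  have ne0 : (typeA0 M).Nonempty := neA.mono hAA0
  exact ⟨bg18_ti_of_forall _ M n3 ne0 keyA0, bg18_ti_of_forall _ M n2 neA keyA,
    bg18_ti_of_forall _ M n1 ne1 key1⟩

end Cfsg.Agent.Helper25
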