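/-
CALL BG18 (helper25), piece NORM.
-/
import Cfsg.Agent.Helper1.BGUniqE
import Cfsg.Agent.Helper24.BG11b

set_option autoImplicit false

namespace Cfsg.Agent.Helper25

open Cfsg Subgroup

universe u

variable {G : Type u} [Group G]

/-- NORM. A maximal subgroup is self-normalising. -/
theorem bg18_mem_of_conj_eq (hG : IsMinSimpleOddOrder G) {M : Subgroup G} (hM : IsCoatom M)
    {g : G} (h : M.map (MulAut.conj g).toMonoidHom = M) : g ∈ M := by
  have := hG.2.1
  have hM1 : M ≠ ⊥ := Cfsg.Agent.Helper24.bg11b_coatom_ne_bot hG hM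
  have hN : normalizer (M : Set G) = M :=
    Cfsg.Agent.Helper1.bgu_coatom_normalizer_eq hM hM1 le_rfl le_normalizer
  have hg : g ∈ normalizer (M : Set G) := Subgroup.mem_normalizer_iff_map_conj_eq.mpr h
  rw [hN] at hg
  exact hg

end Cfsg.Agent.Helper25
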