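/-
CALL BG18 (helper25), piece SIG.
-/
import Cfsg.Agent.Helper22.BG10b
import Cfsg.Agent.Helper23.FittingHall
import Cfsg.Agent.Helper25.BG16HM
import Cfsg.Agent.S1403

set_option autoImplicit false

namespace Cfsg.Agent.Helper25

open Cfsg Subgroup

universe u

variable {G : Type u} [Group G] [Finite G]

/-- SIG. For `a ∈ M` and `N = |M_σ|`: `a ^ N = 1` forces `a ∈ M_σ`, and `a ^ N` is a
`σ(M)'`-element. -/
theorem bg18_sigma_pow (hG : IsMinSimpleOddOrder G) {M : Subgroup G} (hM : IsCoatom M) {a : G}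
    (ha : a ∈ M) :
    (a ^ Nat.card (sigmaCore M) = 1 → a ∈ sigmaCore M) ∧
      ∀ p : ℕ, p.Prime → p ∣ orderOf (a ^ Nat.card (sigmaCore M)) → p ∉ sigma M := by
  classical
  have hU : Cfsg.Agent.Helper22.BGUniq G :=
    fun K hK h1 h2 => Cfsg.Agent.S1403.result hG K hK h1 h2
  obtain ⟨⟨hσM, hpi, hidx⟩, -, -⟩ := Cfsg.Agent.Helper22.bg10_sigma_hall hG hU hM
  have hcop := (bg16_hall_facts hG M hM).1
  have hmul : Nat.card (sigmaCore M) * (sigmaCore M).relIndex M = Nat.card M := by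
    have := Subgroup.relIndex_mul_relIndex (⊥ : Subgroup G) (sigmaCore M) M bot_le hσM
    rwa [Subgroup.relIndex_bot_left, Subgroup.relIndex_bot_left] at this
  constructor
  · intro h1
    have hnorm : ((sigmaCore M).subgroupOf M).Normal :=
      Subgroup.normal_subgroupOf_of_le_normalizer
        (Cfsg.Agent.Helper23.le_normalizer_piCoreOf (sigma M) M)
    have hord : orderOf (⟨a, ha⟩ : ↥M) ∣ Nat.card (sigmaCore M) := by
      rw [← Subgroup.orderOf_coe]
      exact orderOf_dvd_of_pow_eq_one h1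
    have := Cfsg.Agent.Helper23.mem_of_coprime_orderOf_index ((sigmaCore M).subgroupOf M)
      (⟨a, ha⟩ : ↥M) (Nat.Coprime.coprime_dvd_left hord hcop)
    exact Subgroup.mem_subgroupOf.mp this
  · intro p hp hpd hpσ
    have h2 : (a ^ Nat.card (sigmaCore M)) ^ (sigmaCore M).relIndex M = 1 := by
      rw [← pow_mul, hmul]
      have h3 := congrArg Subtype.val (pow_card_eq_one' (G := ↥M) (x := ⟨a, ha⟩))
      rwa [Subgroup.coe_pow, Subgroup.coe_one] at h3
    exact hidx p hp hpσ (hpd.trans (orderOf_dvd_of_pow_eq_one h2))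

end Cfsg.Agent.Helper25
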