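/-
CALL BG18 (helper25), piece ZH.
-/
import Cfsg.Agent.S1366
import Cfsg.Agent.S1434

set_option autoImplicit false

namespace Cfsg.Agent.Helper25

open Cfsg Subgroup

universe u

variable {G : Type u} [Group G] [Finite G]

/-- ZH. An element of `K K*` outside `K ∪ K*` lies in no conjugate `h M h⁻¹` with `h ∉ M`. -/
theorem bg18_Zhat_mem (hG : IsMinSimpleOddOrder G) {M K U : Subgroup G} (hM : IsCoatom M)
    (hKU : IsSigmaDecomposition M K U) (hK1 : K ≠ ⊥) {z h : G}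
    (hz : z ∈ K ⊔ (sigmaCore M ⊓ centralizer (K : Set G))) (hzK : z ∉ K)
    (hzK' : z ∉ sigmaCore M ⊓ centralizer (K : Set G))
    (hzM : z ∈ M.map (MulAut.conj h).toMonoidHom) : h ∈ M := by
  by_contra hh
  obtain ⟨Mstar, ⟨hMstar, hKst, hKstH⟩, -⟩ := Cfsg.Agent.S1366.result hG M hM K U hKU hK1
  have h4 := (Cfsg.Agent.S1434.result hG M hM K U hKU hK1 Mstar hMstar hKst hKstH).2.2.2.1
  exact h4 h hh z ⟨hz, fun h' => h'.elim hzK hzK'⟩ hzM

end Cfsg.Agent.Helper25
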