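/-
CALL BG83 (helper25), piece CYC (own copy): a `q`-subgroup of `N` central in the nonabelian
nilpotent `M_σ` is cyclic.
-/
import Cfsg.Agent.Helper37.BG83GEN
import Cfsg.Agent.Helper87.BG83AB
import Cfsg.Agent.Helper91.BG83CEN
import Cfsg.Agent.Helper23.Trans
import Cfsg.Agent.Helper25.BG16HM

set_option autoImplicit false

namespace Cfsg.Agent.Helper25

open Cfsg Subgroup

universe u

variable {G : Type u} [Group G] [Finite G]

omit [Finite G] in
private theorem bg83_compl_card {A B N : Subgroup G} (h : IsComplIn A B N) :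
    Nat.card A * Nat.card B = Nat.card N := by
  obtain ⟨hA, hB, hAB, hsurj⟩ := h
  rw [← Nat.card_prod]
  apply Nat.card_congr
  refine Equiv.ofBijective
    (fun ab : A × B => (⟨ab.1.1 * ab.2.1, N.mul_mem (hA ab.1.2) (hB ab.2.2)⟩ : N)) ⟨?_, ?_⟩
  · rintro ⟨⟨a, ha⟩, ⟨b, hb⟩⟩ ⟨⟨a', ha'⟩, ⟨b', hb'⟩⟩ h
    simp only [Subtype.mk.injEq] at h
    have h1 : a'⁻¹ * a = b' * b⁻¹ := by
      calc a'⁻¹ * a = a'⁻¹ * (a * b) * b⁻¹ := by group
        _ = a'⁻¹ * (a' * b') * b⁻¹ := by rw [h]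
        _ = b' * b⁻¹ := by group
    have h2 : a'⁻¹ * a ∈ A ⊓ B :=
      ⟨A.mul_mem (A.inv_mem ha') ha, h1 ▸ B.mul_mem hb' (B.inv_mem hb)⟩
    rw [hAB, Subgroup.mem_bot] at h2
    have h3 : a' = a := inv_mul_eq_one.mp h2
    have h4 : b' = b := mul_inv_eq_one.mp (h1 ▸ h2)
    subst h3 h4
    rfl
  · rintro ⟨n, hn⟩
    obtain ⟨a, ha, b, hb, rfl⟩ := hsurj n hn
    exact ⟨(⟨a, ha⟩, ⟨b, hb⟩), rfl⟩

/-- CYC (own copy). -/
theorem bg83_central_cyclic_own (hG : IsMinSimpleOddOrder G) {M N : Subgroup G} (hM : IsCoatom M)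
    (hN : IsCoatom N) (hc : IsComplIn (M ⊓ N) (sigmaCore N) N) (hne : sigmaCore N ≠ ⊥)
    (hnil : Group.IsNilpotent ↥(sigmaCore M))
    (hnab : ¬ ∀ a ∈ sigmaCore M, ∀ b ∈ sigmaCore M, a * b = b * a)
    {q : ℕ} (hq : q.Prime) (Q : Subgroup G) (hQN : Q ≤ N) (hQH : Q ≤ sigmaCore M)
    (hQZ : ∀ s ∈ Q, ∀ h ∈ sigmaCore M, s * h = h * s) (hQq : IsPGroup q Q) : IsCyclic ↥Q := by
  by_contra hnc
  have hσM : sigmaCore M ≤ M := Cfsg.Agent.Helper23.piCoreOf_le _ _
  have hσN : sigmaCore N ≤ N := Cfsg.Agent.Helper23.piCoreOf_le _ _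
  have hQMN : Q ≤ M ⊓ N := le_inf (hQH.trans hσM) hQN
  have hQab : ∀ a ∈ Q, ∀ b ∈ Q, a * b = b * a := fun a ha b hb => hQZ a ha b (hQH hb)
  have hQne : Q ≠ ⊥ := by
    intro h
    apply hnc
    rw [h]
    infer_instance
  have hqQ : q ∣ Nat.card Q := by
    have := Fact.mk hq
    obtain ⟨n, hn⟩ := IsPGroup.iff_card.mp hQq
    rcases Nat.eq_zero_or_pos n with h0 | h0
    · rw [h0, pow_zero] at hn
      exact absurd (Subgroup.card_eq_one.mp hn) hQne
    · rw [hn]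
      exact dvd_pow_self q h0.ne'
  have hcop : (Nat.card (sigmaCore N)).Coprime q := by
    have h1 := (bg16_hall_facts hG N hN).1
    have h2 := bg83_compl_card hc
    have h3 : Nat.card ((sigmaCore N).subgroupOf N) * ((sigmaCore N).subgroupOf N).index
        = Nat.card N := Subgroup.card_mul_index _
    have h4 : Nat.card ((sigmaCore N).subgroupOf N) = Nat.card (sigmaCore N) :=
      Nat.card_congr (Subgroup.subgroupOfEquivOfLe hσN).toEquiv
    have h5 : (sigmaCore N).relIndex N = Nat.card ↥(M ⊓ N) := by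
      have hpos : 0 < Nat.card (sigmaCore N) := Nat.card_pos
      have h6 : Nat.card (sigmaCore N) * (sigmaCore N).relIndex N
          = Nat.card (sigmaCore N) * Nat.card ↥(M ⊓ N) := by
        rw [← h4]
        rw [show (sigmaCore N).relIndex N = ((sigmaCore N).subgroupOf N).index from rfl, h3, h4,
          ← h2, mul_comm]
      exact Nat.eq_of_mul_eq_mul_left hpos h6
    rw [h5] at h1
    exact Nat.Coprime.coprime_dvd_right (hqQ.trans (Subgroup.card_dvd_of_le hQMN)) h1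
  have hNn : N ≤ normalizer (sigmaCore N : Set G) :=
    Cfsg.Agent.Helper23.le_normalizer_piCoreOf (sigma N) N
  obtain ⟨b, hb, hb1, hfix⟩ :=
    Cfsg.Agent.Helper37.bg83_fixed_point hq Q (sigmaCore N) (hQN.trans hNn) hQq hQab hnc hcop hne
  have hCb := Cfsg.Agent.Helper91.bg83_cent_le hG hN hc hq Q hQMN hQq hQab hnc hb hb1 hfix
  have hHN : sigmaCore M ≤ N := by
    intro h hh
    apply hCb
    rw [Subgroup.mem_centralizer_iff]
    intro y hy
    rw [Set.mem_singleton_iff] at hy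
    subst hy
    exact hQZ y hb h hh
  exact hnab (Cfsg.Agent.Helper87.bg83_inter_abelian hG hN hc (sigmaCore M) (le_inf hσM hHN) hnil)

end Cfsg.Agent.Helper25
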