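/-
CALL BG83 (helper25), piece FWD (own copy): (⟹) of row S1383.
-/
import Cfsg.Agent.Helper20.BG83FWD
import Cfsg.Agent.S1365
import Cfsg.Agent.Helper54.BG14T2

set_option autoImplicit false

namespace Cfsg.Agent.Helper25

open Cfsg Subgroup

universe u

variable {G : Type u} [Group G] [Finite G]

/-- FWD (own copy). -/
theorem bg83_forward_own (hG : IsMinSimpleOddOrder G) {M K U : Subgroup G} (hM : IsCoatom M)
    (hKU : IsSigmaDecomposition M K U) (hV : IsOfTypeV M) :
    K ≠ ⊥ ∧ U = ⊥ ∧ fittingHallOf M = sigmaCore M := by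
  obtain ⟨W₁, U', W₂, hP, hU', -⟩ := hV
  have hK1 : K ≠ ⊥ := Cfsg.Agent.Helper20.bg83_K_ne hG hM hKU hP
  have h65 := (Cfsg.Agent.S1365.result hG M hM K U hKU hK1).1
  have hFσ : fittingHallOf M ≤ sigmaCore M := Cfsg.Agent.Helper54.bg14t_fittingHall_le hG hM
  have hc := hP.U_compl
  have hder : ⁅M, M⁆ ≤ fittingHallOf M := by
    intro m hm
    obtain ⟨a, ha, b, hb, rfl⟩ := hc.2.2.2 m hm
    rw [hU', Subgroup.mem_bot] at hb
    rw [hb, mul_one]
    exact ha
  have hσle : sigmaCore M ≤ fittingHallOf M := (le_sup_right.trans h65.ge).trans hder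
  have hUle : U ≤ sigmaCore M := ((le_sup_left.trans h65.ge).trans hder).trans hFσ
  refine ⟨hK1, ?_, le_antisymm hFσ hσle⟩
  have h0 := hKU.compl.2.2.1
  rw [eq_bot_iff, ← h0]
  exact le_inf le_rfl (hUle.trans le_sup_right)

end Cfsg.Agent.Helper25
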