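/-
CALL BG83 (helper25): row S1383.  `M = K U M_σ` is of Type V  ⟺  `K ≠ 1 ∧ U = 1 ∧ M_F = M_σ`
— assembly of the pieces.
-/
import Cfsg.Agent.Helper14.BG83DER
import Cfsg.Agent.Helper22.BG83BAS1
import Cfsg.Agent.Helper22.BG83BAS2
import Cfsg.Agent.Helper27.BG83NILP
import Cfsg.Agent.Helper27.BG83PCARD
import Cfsg.Agent.Helper27.BG83PNOR
import Cfsg.Agent.Helper3.BG83CASEB1
import Cfsg.Agent.Helper31.BG83SL2
import Cfsg.Agent.Helper37.BG83NTI
import Cfsg.Agent.Helper39.BG83CASEB2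
import Cfsg.Agent.Helper47.BG83NARROW
import Cfsg.Agent.Helper48.BG83CASEA
import Cfsg.Agent.Helper48.BG83PB
import Cfsg.Agent.Helper57.BG83PPC
import Cfsg.Agent.Helper59.BG83TYP
import Cfsg.Agent.Helper69.BG83PCOMM
import Cfsg.Agent.Helper72.BG83NEWN
import Cfsg.Agent.Helper87.BG83AB
import Cfsg.Agent.Helper25.BG83CYC
import Cfsg.Agent.Helper25.BG83FWD
import Cfsg.Agent.Helper23.Trans

set_option autoImplicit false

namespace Cfsg.Agent.Helper25

open Cfsg Subgroup

universe u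

variable {G : Type u} [Group G] [Finite G]

omit [Finite G] in
private theorem bg83_cyclic_of_le {Q S : Subgroup G} (h : Q ≤ S) (hS : IsCyclic ↥S) :
    IsCyclic ↥Q := by
  have := hS
  have h1 : IsCyclic ↥(Q.subgroupOf S) := inferInstance
  exact isCyclic_of_surjective (Subgroup.subgroupOfEquivOfLe h).toMonoidHom
    (Subgroup.subgroupOfEquivOfLe h).surjective

omit [Finite G] in
private theorem bg83_comm_le_self (P : Subgroup G) : ⁅P, P⁆ ≤ P := by
  rw [Subgroup.commutator_le]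
  intro a ha b hb
  exact P.mul_mem (P.mul_mem (P.mul_mem ha hb) (P.inv_mem ha)) (P.inv_mem hb)

/-- The disjunction of Type V when `K ≠ 1`, `U = 1`, `M_F = M_σ`. -/
theorem bg83_disj (hG : IsMinSimpleOddOrder G) {M K U : Subgroup G} (hM : IsCoatom M)
    (hKU : IsSigmaDecomposition M K U) (hK1 : K ≠ ⊥) (hU : U = ⊥)
    (hH : fittingHallOf M = sigmaCore M) :
    IsTISubset (sigmaCore M : Set G) ∨
      (∃ p : ℕ, p.Prime ∧ p ∣ Nat.card (sigmaCore M) ∧ Nat.card K ∣ p - 1 ∧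
        IsCyclic (pPrimeCore p (sigmaCore M))) ∨
      (∃ p : ℕ, p.Prime ∧ p ∣ Nat.card (sigmaCore M) ∧
        Nat.card (pCore p (sigmaCore M)) = p ^ 3 ∧
        Nat.card K ∣ p + 1 ∧ IsCyclic (pPrimeCore p (sigmaCore M))) := by
  classical
  obtain ⟨hcompl, hder, hnil, hKs1, hKs2⟩ := Cfsg.Agent.Helper22.bg83_basic hG hM hKU hK1 hU hH
  obtain ⟨hfix5, hHK, hodd, hcop⟩ := Cfsg.Agent.Helper22.bg83_basic2 hG hM hKU hK1 hU hH
  by_cases hTI : IsTISubset (sigmaCore M : Set G)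
  · exact Or.inl hTI
  right
  have hσM : sigmaCore M ≤ M := hcompl.2.1
  have hKM : K ≤ M := hcompl.1
  have hMn : M ≤ normalizer (sigmaCore M : Set G) :=
    Cfsg.Agent.Helper23.le_normalizer_piCoreOf (sigma M) M
  obtain ⟨x, g, hx, hxp, hg, hxg⟩ := Cfsg.Agent.Helper37.bg83_witness M (sigmaCore M) hσM hMn hTI
  obtain ⟨p, hpdef⟩ : ∃ p : ℕ, p = orderOf x := ⟨_, rfl⟩
  rw [← hpdef] at hxp
  have : Fact p.Prime := ⟨hxp⟩
  have hx1 : x ≠ 1 := by
    intro h
    rw [h, orderOf_one] at hpdef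
    rw [hpdef] at hxp
    exact Nat.not_prime_one hxp
  obtain ⟨N, hN, hCN, hfixN, hc⟩ := Cfsg.Agent.Helper72.bg83_N hG hM hx hx1 hg hxg
  have hβ : p ∉ beta M := by
    rw [hpdef]
    exact Cfsg.Agent.Helper48.bg83_not_beta hG hM K hcompl hx (hpdef ▸ hxp) hg hxg
  have hnab : ¬ ∀ a ∈ sigmaCore M, ∀ b ∈ sigmaCore M, a * b = b * a := by
    intro hab
    apply hKs1
    have h0 : ⁅sigmaCore M, sigmaCore M⁆ = ⊥ := by
      rw [Subgroup.commutator_eq_bot_iff_le_centralizer]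
      intro a ha
      rw [Subgroup.mem_centralizer_iff]
      intro b hb
      exact hab b hb a ha
    rw [h0] at hKs2
    exact le_bot_iff.mp hKs2
  have hNσ : sigmaCore N ≠ ⊥ := by
    intro h
    apply hfixN
    rw [h]
    exact bot_inf_eq _
  have hpH : p ∣ Nat.card (sigmaCore M) := by
    have h0 := orderOf_dvd_natCard (⟨x, hx⟩ : ↥(sigmaCore M))
    rw [Subgroup.orderOf_mk] at h0
    rw [hpdef]
    exact h0
  have hcyc : ∀ q : ℕ, q.Prime → q ≠ p → ∀ Q : Subgroup G, Q ≤ sigmaCore M → IsPGroup q Q →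
      IsCyclic ↥Q := by
    intro q hq hqp Q hQH hQq
    have : Fact q.Prime := ⟨hq⟩
    obtain ⟨S, hSH, hSq, hSmax, hScomm, hSdec⟩ := Cfsg.Agent.Helper27.bg83_nilp_sylow (sigmaCore M) hnil q
    have hcopq : (orderOf x).Coprime q := by
      rw [← hpdef, Nat.coprime_primes hxp hq]
      exact fun h => hqp h.symm
    have hSN : S ≤ N := by
      intro s hs
      apply hCN
      rw [Subgroup.mem_centralizer_iff]
      intro y hy
      rw [Set.mem_singleton_iff] at hy
      subst hy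
      exact (hScomm s hs y hx hcopq).symm
    have hSab : ∀ a ∈ S, ∀ b ∈ S, a * b = b * a :=
      Cfsg.Agent.Helper87.bg83_inter_abelian hG hN hc S (le_inf (hSH.trans hσM) hSN) hSq.isNilpotent
    have hSZ : ∀ s ∈ S, ∀ h ∈ sigmaCore M, s * h = h * s := by
      intro s hs h hh
      obtain ⟨s', hs', t, ht, htq, rfl⟩ := hSdec h hh
      have h1 := hSab s hs s' hs'
      have h2 := hScomm s hs t ht htq
      calc s * (s' * t) = (s * s') * t := by group
        _ = (s' * s) * t := by rw [h1]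
        _ = s' * (s * t) := by group
        _ = s' * (t * s) := by rw [h2]
        _ = s' * t * s := by group
    have hScyc : IsCyclic ↥S :=
      bg83_central_cyclic_own hG hM hN hc hNσ hnil hnab hq S hSN hSH hSZ hSq
    exact bg83_cyclic_of_le (hSmax Q hQH hQq) hScyc
  have hPPC : IsCyclic ↥(pPrimeCore p ↥(sigmaCore M)) :=
    Cfsg.Agent.Helper57.bg83_pPrimeCore_cyclic (sigmaCore M) hnil p hxp hcyc
  obtain ⟨P, hPH, hP, hPmax, hPcomm, hPdec⟩ := Cfsg.Agent.Helper27.bg83_nilp_sylow (sigmaCore M) hnil p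
  have hDER := Cfsg.Agent.Helper14.bg83_derived_le (sigmaCore M) P hnil p hPH hP hPmax hcyc
  have hKsP : sigmaCore M ⊓ centralizer (K : Set G) ≤ ⁅P, P⁆ := hKs2.trans hDER
  have hP'ne : ⁅P, P⁆ ≠ ⊥ := by
    intro h
    rw [h] at hKsP
    exact hKs1 (le_bot_iff.mp hKsP)
  have hKP : K ≤ normalizer (P : Set G) :=
    Cfsg.Agent.Helper27.bg83_norm_max (sigmaCore M) P p hPH hP hPmax K (hKM.trans hMn)
  have hPK : ⁅P, K⁆ = P :=
    Cfsg.Agent.Helper69.bg83_P_comm (sigmaCore M) P K hnil p hPH hP hPmax (hKM.trans hMn) hHK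
  have hPne : P ≠ ⊥ := by
    intro h
    apply hP'ne
    rw [h]
    exact le_bot_iff.mp (bg83_comm_le_self ⊥)
  have hfaith : K ⊓ centralizer (P : Set G) = ⊥ := by
    rw [eq_bot_iff]
    intro k hk
    rw [Subgroup.mem_bot]
    by_contra hk1
    have hkK : k ∈ K := hk.1
    have hkC : k ∈ centralizer (P : Set G) := hk.2
    have hPle : P ≤ sigmaCore M ⊓ centralizer (K : Set G) := by
      rw [← hfix5 k hkK hk1]
      refine le_inf hPH ?_
      intro z hz
      rw [Subgroup.mem_centralizer_iff]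
      intro y hy
      rw [Set.mem_singleton_iff] at hy
      subst hy
      exact (Subgroup.mem_centralizer_iff.mp hkC z hz).symm
    apply hPne
    rw [← hPK, Subgroup.commutator_eq_bot_iff_le_centralizer]
    exact hPle.trans inf_le_right
  have hp2 : p ≠ 2 := by
    intro h2
    have h0 : p ∣ Nat.card G := hpH.trans (Subgroup.card_subgroup_dvd_card _)
    rw [h2] at h0
    exact (Nat.not_even_iff_odd.mpr hG.1) (even_iff_two_dvd.mpr h0)
  have hcopKp : (Nat.card K).Coprime p := Nat.Coprime.coprime_dvd_right hpH hcop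
  have hnar : IsNarrow p ↥P := Cfsg.Agent.Helper47.bg83_narrow hG hM p P hPH hP hPmax hpH hβ
  have hPC : Nat.card ↥(pCore p ↥(sigmaCore M)) = Nat.card ↥P :=
    Cfsg.Agent.Helper27.bg83_pCore_card (sigmaCore M) P p hPH hP hPmax
  by_cases hr : PRankLE p 2 ↥P
  · obtain ⟨hd, hZ, hcard⟩ := Cfsg.Agent.Helper3.bg83_case_B_struct p hp2 P K hP hr hKP hodd hcopKp hPK hP'ne
    have hKsEq : sigmaCore M ⊓ centralizer (K : Set G) = ⁅P, P⁆ := by
      apply Subgroup.eq_of_le_of_card_ge hKsP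
      rw [hd]
      have hdvd : Nat.card ↥(sigmaCore M ⊓ centralizer (K : Set G)) ∣ p := by
        rw [← hd]
        exact Subgroup.card_dvd_of_le hKsP
      rcases (Nat.dvd_prime hxp).mp hdvd with h1 | h1
      · exact absurd (Subgroup.card_eq_one.mp h1) hKs1
      · exact h1.ge
    have hfix : ∀ z ∈ P, (∀ k ∈ K, k * z = z * k) → z ∈ ⁅P, P⁆ := by
      intro z hz hzk
      rw [← hKsEq]
      exact Subgroup.mem_inf.mpr ⟨hPH hz, Subgroup.mem_centralizer_iff.mpr (fun k hk => hzk k hk)⟩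
    have hcent : ∀ k ∈ K, ∀ z ∈ ⁅P, P⁆, k * z = z * k := by
      intro k hk z hz
      rw [← hKsEq] at hz
      exact Subgroup.mem_centralizer_iff.mp hz.2 k hk
    have hP3 : Nat.card ↥P = p ^ 3 :=
      Cfsg.Agent.Helper39.bg83_case_B_order p hp2 P K hP hKP hcopKp hd hZ hcard hfix hcent
    have hfpf : ∀ k ∈ K, k ≠ 1 → P ⊓ centralizer ({k} : Set G) = ⁅P, P⁆ := by
      intro k hk hk1
      apply le_antisymm
      · rw [← hKsEq, ← hfix5 k hk hk1]
        exact inf_le_inf_right _ hPH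
      · refine le_inf (bg83_comm_le_self P) ?_
        intro z hz
        rw [← hKsEq] at hz
        rw [Subgroup.mem_centralizer_iff]
        intro y hy
        rw [Set.mem_singleton_iff] at hy
        subst hy
        exact Subgroup.mem_centralizer_iff.mp hz.2 y hk
    rcases Cfsg.Agent.Helper31.bg83_sl2 p hp2 P K hP3 hP'ne hKU.cyclic hKP hodd hcopKp hfpf with h | h
    · exact Or.inl ⟨p, hxp, hpH, h, hPPC⟩
    · exact Or.inr ⟨p, hxp, hpH, hPC.trans hP3, h, hPPC⟩
  · exact Or.inl ⟨p, hxp, hpH,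
      Cfsg.Agent.Helper48.bg83_case_A p hp2 P K hP hnar hr hKU.cyclic hKP hodd hcopKp hfaith, hPPC⟩

/-- Row S1383. -/
theorem bg83_result (hG : IsMinSimpleOddOrder G) (M : Subgroup G) (hM : IsCoatom M)
    (K U : Subgroup G) (hKU : IsSigmaDecomposition M K U) :
    IsOfTypeV M ↔ (K ≠ ⊥ ∧ U = ⊥ ∧ fittingHallOf M = sigmaCore M) := by
  constructor
  · exact bg83_forward_own hG hM hKU
  · rintro ⟨hK1, hU, hH⟩
    refine ⟨K, ⊥, sigmaCore M ⊓ centralizer (K : Set G), Cfsg.Agent.Helper59.bg83_typeP hG hM hKU hK1 hU hH, rfl, ?_⟩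
    rw [hH]
    exact bg83_disj hG hM hKU hK1 hU hH

end Cfsg.Agent.Helper25
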