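import Cfsg.Agent.Helper49.BGCDefs2
import Cfsg.Agent.Helper24.BG13V

/-!
# CALL S1351C, piece GH (`starc_good_H`)
-/

set_option autoImplicit false

namespace Cfsg.Agent.Helper25

open Cfsg Subgroup

universe u

variable {G : Type u} [Group G] [Finite G]

/-- GH. Non-identity elements of `H_σ ∩ W` have their centralizer in `H`. -/
theorem starc_good_H (hG : IsMinSimpleOddOrder G) {M E P : Subgroup G} {p : ℕ} {H : Subgroup G}
    (h : Cfsg.Agent.Helper49.StarHCtx M E P p H)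
    (hτ : ∀ X : Subgroup G, X ≤ Cfsg.Agent.Helper49.starZ M E → (Nat.card X).Prime →
      Nat.card X ∈ tau1 H ∪ tau3 H) :
    ∀ d ∈ sigmaCore H ⊓ Cfsg.Agent.Helper49.starW M E, d ≠ 1 →
      centralizer ({d} : Set G) ≤ H := by
  intro d hd hd1
  obtain ⟨hdσ, hdW⟩ := Subgroup.mem_inf.mp hd
  obtain ⟨z, hz, e, he, hde⟩ := (h.mem_W d).mp hdW
  have hzσ : z ∈ sigmaCore M := (Subgroup.mem_inf.mp hz).1
  have hzE : z ∈ centralizer (E : Set G) := (Subgroup.mem_inf.mp hz).2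
  have hcomm : Commute z e := (mem_centralizer_iff.mp hzE e he).symm
  -- coprime orders
  have hcop : (orderOf z).Coprime (orderOf e) := by
    apply Nat.coprime_of_dvd
    intro q hq hqz hqe
    have h1 : q ∈ sigma M := Cfsg.Agent.Helper54.bg14t_mem_sigma_of_dvd hzσ hq hqz
    exact (h.E_primes q hq (hqe.trans (Subgroup.orderOf_dvd_natCard E he))).1 h1
  have hzd : z ∈ zpowers d := by
    rw [hde]
    exact (Cfsg.Agent.Helper54.bg14t_mem_zpowers_mul hcomm hcop).1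
  have hzH : z ∈ sigmaCore H := (zpowers_le.mpr hdσ) hzd
  have hz1 : z = 1 := by
    have h1 : z ∈ sigmaCore M ⊓ sigmaCore H := ⟨hzσ, hzH⟩
    rw [h.sigma_inf] at h1
    exact Subgroup.mem_bot.mp h1
  have hdE : d ∈ E := by rw [hde, hz1, one_mul]; exact he
  -- a subgroup of prime order of `Z`
  obtain ⟨⟨w, hwZ⟩, hw1⟩ := (Subgroup.ne_bot_iff_exists_ne_one).mp h.Z_ne
  have hw1' : w ≠ 1 := fun e => hw1 (Subtype.ext e)
  have hox1 : orderOf w ≠ 1 := fun e => hw1' (orderOf_eq_one_iff.mp e)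
  obtain ⟨q, hq, hqw⟩ := Nat.exists_prime_and_dvd hox1
  have hyo : orderOf (w ^ (orderOf w / q)) = q :=
    orderOf_pow_orderOf_div (orderOf_pos w).ne' hqw
  have hXZ : zpowers (w ^ (orderOf w / q)) ≤ Cfsg.Agent.Helper49.starZ M E :=
    zpowers_le.mpr (Subgroup.pow_mem _ hwZ _)
  have hXc : Nat.card (zpowers (w ^ (orderOf w / q))) = q := by rw [Nat.card_zpowers, hyo]
  have hXτ := hτ _ hXZ (by rw [hXc]; exact hq)
  rw [hXc] at hXτ
  refine Cfsg.Agent.Helper24.bg13u_cent_le hG h.coatomH hXτ (hXZ.trans h.Z_le) hXc hdσ hd1 ?_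
  rw [mem_centralizer_iff]
  intro x hx
  have hxZ : x ∈ Cfsg.Agent.Helper49.starZ M E := hXZ hx
  have hxE : x ∈ centralizer (E : Set G) := (Subgroup.mem_inf.mp hxZ).2
  exact (mem_centralizer_iff.mp hxE d hdE).symm

end Cfsg.Agent.Helper25
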