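import Cfsg.Agent.Helper49.BGCDefs2
import Cfsg.Agent.Helper24.BG13V
import Cfsg.Agent.Helper20.BG13P4
import Cfsg.Agent.Helper22.Transitivity
import Cfsg.Agent.S1403

/-!
# CALL S1351C, piece IH (`starc_inf_HH`)
-/

set_option autoImplicit false

namespace Cfsg.Agent.Helper25

open Cfsg Subgroup

universe u

variable {G : Type u} [Group G] [Finite G]

/-- IH. Two members `H ≠ H'` with disjoint `σ`-sets meet inside `W`. -/
theorem starc_inf_HH (hG : IsMinSimpleOddOrder G) {M E P : Subgroup G} {p : ℕ}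
    {H H' : Subgroup G} (h : Cfsg.Agent.Helper49.StarHCtx M E P p H)
    (h' : Cfsg.Agent.Helper49.StarHCtx M E P p H')
    (hdisj : ∀ q : ℕ, q ∈ sigma H' → q ∉ sigma H)
    (hP : ∀ EH : Subgroup G, IsComplIn EH (sigmaCore H) H → Cfsg.Agent.Helper49.starZ M E ≤ EH →
      EH ≤ M ∧ ∀ e ∈ EH, e ≠ 1 → sigmaCore H ⊓ centralizer ({e} : Set G) ≤ M) :
    H ⊓ H' ≤ Cfsg.Agent.Helper49.starW M E := by
  have hU : Cfsg.Agent.Helper22.BGUniq G :=
    fun K hK h1 h2 => Cfsg.Agent.S1403.result hG K hK h1 h2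
  obtain ⟨Y', hY'E, hY'p, hNY', hY'σ, hY'H'σ⟩ := h'.overY
  have hZH : Cfsg.Agent.Helper49.starZ M E ≤ H := h.Z_le
  have hY'H : Y' ≤ H := hY'E.trans h.E_le
  have hZσ : Cfsg.Agent.Helper49.starZ M E ≤ sigmaCore M := inf_le_left
  have hZY' : Cfsg.Agent.Helper49.starZ M E ≤ normalizer (Y' : Set G) := by
    intro z hz
    have hzE : z ∈ centralizer (E : Set G) := (Subgroup.mem_inf.mp hz).2
    exact (Subgroup.centralizer_le_normalizer _)
      ((Subgroup.centralizer_le (by exact_mod_cast hY'E)) hzE)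
  -- coprimality
  have hcop : (Nat.card ↥(Cfsg.Agent.Helper49.starZ M E ⊔ Y')).Coprime
      (Nat.card (sigmaCore H)) := by
    apply Nat.coprime_of_dvd
    intro q hq hq1 hq2
    have hqH : q ∈ sigma H := Cfsg.Agent.Helper23.mem_of_dvd_card_piCoreOf (sigma H) H hq hq2
    have h1 := hq1.trans (Cfsg.Agent.Helper22.card_sup_dvd_of_le_normalizer hZY')
    rcases (Nat.Prime.dvd_mul hq).mp h1 with h2 | h2
    · have h3 : q ∈ sigma M := Cfsg.Agent.Helper23.mem_of_dvd_card_piCoreOf (sigma M) M hq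
        (h2.trans (Subgroup.card_dvd_of_le hZσ))
      exact h.sigma_disj q h3 hqH
    · have h3 : q = Nat.card Y' := (Nat.prime_dvd_prime_iff_eq hq hY'p).mp h2
      exact hdisj q (h3 ▸ hY'σ) hqH
  obtain ⟨EH, hEHc, hle⟩ := Cfsg.Agent.Helper20.bg13_exists_compl_ge hG hU h.coatomH
    (sup_le hZH hY'H) hcop
  obtain ⟨hEHM, hcent⟩ := hP EH hEHc (le_sup_left.trans hle)
  have hEHW : EH ≤ Cfsg.Agent.Helper49.starW M E := by
    rw [← h.inf_eq]
    exact le_inf hEHM hEHc.1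
  have hWH' : Cfsg.Agent.Helper49.starW M E ≤ H' := by
    rw [← h'.inf_eq]
    exact inf_le_right
  -- `H_σ ⊓ H'_σ = ⊥`
  have hσσ : sigmaCore H ⊓ sigmaCore H' = ⊥ := by
    rw [Subgroup.eq_bot_iff_forall]
    intro x hx
    by_contra hx1
    have hox1 : orderOf x ≠ 1 := fun e => hx1 (orderOf_eq_one_iff.mp e)
    obtain ⟨q, hq, hqx⟩ := Nat.exists_prime_and_dvd hox1
    exact hdisj q (Cfsg.Agent.Helper54.bg14t_mem_sigma_of_dvd hx.2 hq hqx)
      (Cfsg.Agent.Helper54.bg14t_mem_sigma_of_dvd hx.1 hq hqx)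
  -- a generator of `Y'`
  have hY'1 : Y' ≠ ⊥ := by
    intro e
    rw [e, Subgroup.card_bot] at hY'p
    exact Nat.not_prime_one hY'p
  obtain ⟨⟨y, hyY'⟩, hy1⟩ := (Subgroup.ne_bot_iff_exists_ne_one).mp hY'1
  have hy1' : y ≠ 1 := fun e => hy1 (Subtype.ext e)
  intro m hm
  obtain ⟨hmH, hmH'⟩ := Subgroup.mem_inf.mp hm
  obtain ⟨a, ha, b, hb, hmab⟩ := hEHc.2.2.2 m hmH
  have haW : a ∈ Cfsg.Agent.Helper49.starW M E := hEHW ha
  have hbH' : b ∈ H' := by
    have e1 : b = a⁻¹ * m := by rw [hmab]; group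
    rw [e1]
    exact H'.mul_mem (H'.inv_mem (hWH' haW)) hmH'
  have hyH'σ : y ∈ sigmaCore H' := hY'H'σ hyY'
  have hyH : y ∈ H := hY'H hyY'
  -- the commutator of `b` and `y`
  have hc1 : b * y * b⁻¹ * y⁻¹ ∈ sigmaCore H' := by
    have hbN : b ∈ normalizer (sigmaCore H' : Set G) :=
      Cfsg.Agent.Helper23.le_normalizer_piCoreOf (sigma H') H' hbH'
    exact (sigmaCore H').mul_mem ((Subgroup.mem_normalizer_iff.mp hbN y).mp hyH'σ)
      ((sigmaCore H').inv_mem hyH'σ)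
  have hc2 : b * y * b⁻¹ * y⁻¹ ∈ sigmaCore H := by
    have hyN : y ∈ normalizer (sigmaCore H : Set G) :=
      Cfsg.Agent.Helper23.le_normalizer_piCoreOf (sigma H) H hyH
    have h1 : y * b⁻¹ * y⁻¹ ∈ sigmaCore H :=
      (Subgroup.mem_normalizer_iff.mp hyN b⁻¹).mp ((sigmaCore H).inv_mem hb)
    have e1 : b * y * b⁻¹ * y⁻¹ = b * (y * b⁻¹ * y⁻¹) := by group
    rw [e1]
    exact (sigmaCore H).mul_mem hb h1
  have hc3 : b * y * b⁻¹ * y⁻¹ = 1 := by
    have h1 : b * y * b⁻¹ * y⁻¹ ∈ sigmaCore H ⊓ sigmaCore H' := ⟨hc2, hc1⟩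
    rw [hσσ] at h1
    exact Subgroup.mem_bot.mp h1
  have hby : b * y = y * b := by
    have e1 : b * y = (b * y * b⁻¹ * y⁻¹) * (y * b) := by group
    rw [e1, hc3, one_mul]
  have hbM : b ∈ M := by
    refine hcent y (hle (Subgroup.mem_sup_right hyY')) hy1' (Subgroup.mem_inf.mpr ⟨hb, ?_⟩)
    rw [mem_centralizer_iff]
    intro x hx
    rw [Set.mem_singleton_iff] at hx
    subst hx
    exact hby.symm
  have hbW : b ∈ Cfsg.Agent.Helper49.starW M E := by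
    rw [← h.inf_eq]
    exact ⟨hbM, (Cfsg.Agent.Helper23.piCoreOf_le (sigma H) H) hb⟩
  rw [hmab]
  exact Subgroup.mul_mem _ haW hbW

end Cfsg.Agent.Helper25
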