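import Cfsg.Agent.Helper25.CN

/-!
# CN-groups, part 2 (helper25): maximal nilpotent subgroups are conjugate or of coprime orders
-/

set_option autoImplicit false
set_option linter.style.haveILetI false
set_option linter.unusedVariables false

namespace Cfsg.Agent.Helper25

theorem sylow_mem_smul_iff {G : Type*} [Group G] (p : ℕ) (P : Sylow p G) (g x : G) :
    x ∈ ((g • P : Sylow p G) : Subgroup G) ↔ g⁻¹ * x * g ∈ (P : Subgroup G) := by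
  rw [Sylow.coe_subgroup_smul, Subgroup.mem_pointwise_smul_iff_inv_smul_mem]
  simp [MulAut.smul_def]

theorem isPElt_iff_isPGroup_zpowers {G : Type*} [Group G] (p : ℕ) (hp : p.Prime) (x : G) :
    IsPGroup p (Subgroup.zpowers x) ↔ ∃ n, orderOf x = p ^ n := by
  haveI : Fact p.Prime := ⟨hp⟩
  constructor
  · intro h
    obtain ⟨k, hk⟩ := (IsPGroup.iff_orderOf.mp h) ⟨x, Subgroup.mem_zpowers x⟩
    exact ⟨k, by rw [← hk]; simp⟩
  · rintro ⟨n, hn⟩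
    apply IsPGroup.of_card (n := n)
    rw [Nat.card_zpowers, hn]

/-- Two maximal nilpotent subgroups of a finite CN-group are conjugate or have coprime orders. -/
theorem isMaxNilp_conj_or_coprime {G : Type*} [Group G] [Finite G] (hCN : Cfsg.IsCNGroup G)
    (H₁ H₂ : Subgroup G) (h1 : IsMaxNilp H₁) (h2 : IsMaxNilp H₂) :
    (∃ g : G, H₂ = H₁.map (MulAut.conj g).toMonoidHom) ∨ (Nat.card H₁).Coprime (Nat.card H₂) := by
  by_cases hcop : (Nat.card H₁).Coprime (Nat.card H₂)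
  · exact Or.inr hcop
  left
  obtain ⟨p, hp, hp1, hp2⟩ := Nat.Prime.not_coprime_iff_dvd.mp hcop
  haveI : Fact p.Prime := ⟨hp⟩
  obtain ⟨k₁, hk₁⟩ := exists_prime_orderOf_dvd_card' (G := H₁) p hp1
  obtain ⟨k₂, hk₂⟩ := exists_prime_orderOf_dvd_card' (G := H₂) p hp2
  have hk₁G : orderOf (k₁ : G) = p := by rw [← hk₁]; simp
  have hk₂G : orderOf (k₂ : G) = p := by rw [← hk₂]; simp
  have hex₁ : ∃ k' ∈ H₁, k' ≠ 1 ∧ ∃ n, orderOf k' = p ^ n := by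
    refine ⟨k₁, k₁.2, ?_, 1, by rw [hk₁G, pow_one]⟩
    intro h
    rw [h, orderOf_one] at hk₁G
    exact hp.ne_one hk₁G.symm
  have hex₂ : ∃ k' ∈ H₂, k' ≠ 1 ∧ ∃ n, orderOf k' = p ^ n := by
    refine ⟨k₂, k₂.2, ?_, 1, by rw [hk₂G, pow_one]⟩
    intro h
    rw [h, orderOf_one] at hk₂G
    exact hp.ne_one hk₂G.symm
  obtain ⟨Q₁, hQ₁, hQ₁mem⟩ := exists_pElts_subgroup H₁ h1.1 p hp
  obtain ⟨Q₂, hQ₂, hQ₂mem⟩ := exists_pElts_subgroup H₂ h2.1 p hp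
  obtain ⟨R₁, hR₁⟩ := hQ₁.exists_le_sylow
  obtain ⟨R₂, hR₂⟩ := hQ₂.exists_le_sylow
  obtain ⟨g, hg⟩ := MulAction.exists_smul_eq G R₁ R₂
  have hsub₁ : ∀ k ∈ H₁, (∃ n, orderOf k = p ^ n) → k ∈ (R₁ : Subgroup G) :=
    fun k' hk' hq => hR₁ ((hQ₁mem k').mpr ⟨hk', hq⟩)
  have hsub₂ : ∀ k ∈ H₂, (∃ n, orderOf k = p ^ n) → k ∈ (R₂ : Subgroup G) :=
    fun k' hk' hq => hR₂ ((hQ₂mem k').mpr ⟨hk', hq⟩)
  obtain ⟨k, hk, hk1, hkq⟩ := hex₁
  have hkR : k ∈ (R₁ : Subgroup G) := hsub₁ k hk hkq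
  haveI : Nontrivial (R₁ : Subgroup G) := ⟨⟨⟨k, hkR⟩, 1, fun h => hk1 (congrArg Subtype.val h)⟩⟩
  haveI := R₁.isPGroup'.center_nontrivial
  obtain ⟨w, hw⟩ := exists_ne (1 : Subgroup.center (R₁ : Subgroup G))
  have hwc : ∀ r ∈ (R₁ : Subgroup G), Commute ((w : (R₁ : Subgroup G)) : G) r := by
    intro r hr
    have := Subgroup.mem_center_iff.mp w.2 ⟨r, hr⟩
    exact (congrArg Subtype.val this).symm
  have hw1 : ((w : (R₁ : Subgroup G)) : G) ≠ 1 := by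
    intro h
    apply hw
    ext
    exact h
  set w₀ : G := ((w : (R₁ : Subgroup G)) : G) with hw₀
  have hw₀R : w₀ ∈ (R₁ : Subgroup G) := (w : (R₁ : Subgroup G)).2
  have hC₁ := centralizer_eq_of_mem_center_pGroup hCN H₁ h1 p hp R₁ R₁.isPGroup' hsub₁
    ⟨k, hk, hk1, hkq⟩ hw₀R hw1 hwc
  have hw'R : g * w₀ * g⁻¹ ∈ (R₂ : Subgroup G) := by
    rw [← hg, sylow_mem_smul_iff]
    have : g⁻¹ * (g * w₀ * g⁻¹) * g = w₀ := by group
    rw [this]; exact hw₀R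
  have hw'1 : g * w₀ * g⁻¹ ≠ 1 := by
    intro h
    apply hw1
    have : w₀ = g⁻¹ * (g * w₀ * g⁻¹) * g := by group
    rw [this, h]; group
  have hw'c : ∀ r ∈ (R₂ : Subgroup G), Commute (g * w₀ * g⁻¹) r := by
    intro r hr
    rw [← hg, sylow_mem_smul_iff] at hr
    have h := (hwc _ hr).eq
    show g * w₀ * g⁻¹ * r = r * (g * w₀ * g⁻¹)
    have e1 : g * w₀ * g⁻¹ * r = g * (w₀ * (g⁻¹ * r * g)) * g⁻¹ := by group
    rw [e1, h]; group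
  have hC₂ := centralizer_eq_of_mem_center_pGroup hCN H₂ h2 p hp R₂ R₂.isPGroup' hsub₂
    hex₂ hw'R hw'1 hw'c
  refine ⟨g, ?_⟩
  ext c
  rw [← hC₂, mem_centralizer_conj_iff, hC₁, mem_map_conj_iff']

end Cfsg.Agent.Helper25
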