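import Mathlib
import Cfsg.Prelude.Def_Characters
import Cfsg.Prelude.Def_OddOrderChar
import Cfsg.Agent.Helper4.GenChar
import Cfsg.Agent.Helper75.InnerLin
import Cfsg.Agent.Helper75.Clifford
import Cfsg.Agent.Helper73.GenSpan

/-!
# Lattice lemmas for coherence (helper25)

* `classInner_self_eq`, `eq_zero_of_classInner_self`: positivity of `classInner`.
* `genChar_inner_int`: inner products of generalized characters are integers.
* `norm_analysis`: a vector `t` with integral inner products against two mutually orthogonal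
  orthonormal families `A`, `B`, with `⟨t,t⟩ = ∑_A ⟨t,a⟩ - ∑_B ⟨t,b⟩`, is a `0/1` combination of `A`
  minus a `0/1` combination of `B`.
* `extendLin`, `extendLin_*`: the linear extension of a map defined on an orthogonal family.
-/

set_option autoImplicit false
set_option linter.style.haveILetI false
set_option linter.unusedVariables false
set_option maxHeartbeats 1000000

namespace Cfsg.Agent.Helper25

open Cfsg

section Coh

variable {G : Type*} [Group G] [Fintype G]

theorem classInner_self_eq (f : G → ℂ) :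
    classInner f f = (((Nat.card G : ℝ)⁻¹ * ∑ g, ‖f g‖ ^ 2 : ℝ) : ℂ) := by
  unfold classInner
  push_cast
  congr 1
  apply Finset.sum_congr rfl
  intro g _
  rw [Complex.mul_conj']

theorem eq_zero_of_classInner_self (f : G → ℂ) (h : classInner f f = 0) : f = 0 := by
  rw [classInner_self_eq] at h
  have h1 : (Nat.card G : ℝ)⁻¹ * ∑ g, ‖f g‖ ^ 2 = 0 := by exact_mod_cast h
  have hpos : (0 : ℝ) < (Nat.card G : ℝ)⁻¹ := inv_pos.mpr (by exact_mod_cast Nat.card_pos)
  have h2 : ∑ g, ‖f g‖ ^ 2 = 0 := by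
    rcases mul_eq_zero.mp h1 with h | h
    · exact absurd h hpos.ne'
    · exact h
  funext g
  have h3 := (Finset.sum_eq_zero_iff_of_nonneg (fun g _ => sq_nonneg _)).mp h2 g (Finset.mem_univ g)
  simpa using h3

/-- if `⟨f, f⟩` is the cast of an integer `N`, then `0 ≤ N`. -/
theorem int_nonneg_of_classInner_self (f : G → ℂ) (N : ℤ) (h : classInner f f = (N : ℂ)) :
    0 ≤ N := by
  rw [classInner_self_eq] at h
  have h1 : (Nat.card G : ℝ)⁻¹ * ∑ g, ‖f g‖ ^ 2 = (N : ℝ) := by exact_mod_cast h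
  have h2 : (0 : ℝ) ≤ (Nat.card G : ℝ)⁻¹ * ∑ g, ‖f g‖ ^ 2 :=
    mul_nonneg (inv_nonneg.mpr (Nat.cast_nonneg _)) (Finset.sum_nonneg (fun g _ => sq_nonneg _))
  rw [h1] at h2
  exact_mod_cast h2

theorem genChar_inner_int {θ θ' : G → ℂ} (h : IsGeneralizedCharacter G θ)
    (h' : IsGeneralizedCharacter G θ') : ∃ z : ℤ, classInner θ θ' = z := by
  classical
  letI : Fintype (IrrCharacter G) := Fintype.ofFinite _
  obtain ⟨a, ha⟩ := Cfsg.Agent.Helper4.genChar_eq_sum h
  obtain ⟨b, hb⟩ := Cfsg.Agent.Helper4.genChar_eq_sum h'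
  refine ⟨∑ χ, a χ * b χ, ?_⟩
  rw [ha, hb, Cfsg.Agent.Helper4.classInner_sum_irr]
  push_cast
  apply Finset.sum_congr rfl
  intro χ _
  rw [map_intCast]

theorem norm_analysis (t : G → ℂ) (A B : Finset (G → ℂ))
    (hA1 : ∀ a ∈ A, classInner a a = 1)
    (hA0 : ∀ a ∈ A, ∀ a' ∈ A, a ≠ a' → classInner a a' = 0)
    (hB1 : ∀ b ∈ B, classInner b b = 1)
    (hB0 : ∀ b ∈ B, ∀ b' ∈ B, b ≠ b' → classInner b b' = 0)
    (hAB : ∀ a ∈ A, ∀ b ∈ B, classInner a b = 0)
    (x y : (G → ℂ) → ℤ) (hx : ∀ a ∈ A, classInner t a = x a) (hy : ∀ b ∈ B, classInner t b = y b)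
    (hnorm : classInner t t = ∑ a ∈ A, (x a : ℂ) - ∑ b ∈ B, (y b : ℂ)) :
    (∀ a ∈ A, x a = 0 ∨ x a = 1) ∧ (∀ b ∈ B, y b = 0 ∨ y b = -1) ∧
      t = ∑ a ∈ A, (x a : ℂ) • a + ∑ b ∈ B, (y b : ℂ) • b := by
  classical
  set p : G → ℂ := ∑ a ∈ A, (x a : ℂ) • a + ∑ b ∈ B, (y b : ℂ) • b with hp
  have hBA : ∀ b ∈ B, ∀ a ∈ A, classInner b a = 0 := by
    intro b hb a ha
    rw [Cfsg.Agent.Helper75.classInner_conj_symm, hAB a ha b hb, map_zero]
  have h1 : classInner t p = ∑ a ∈ A, (x a : ℂ) ^ 2 + ∑ b ∈ B, (y b : ℂ) ^ 2 := by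
    rw [hp, Cfsg.Agent.Helper75.classInner_add_right, Cfsg.Agent.Helper75.classInner_sum_right,
      Cfsg.Agent.Helper75.classInner_sum_right]
    congr 1
    · apply Finset.sum_congr rfl
      intro a ha
      rw [Cfsg.Agent.Helper75.classInner_smul_right, hx a ha, map_intCast]
      ring
    · apply Finset.sum_congr rfl
      intro b hb
      rw [Cfsg.Agent.Helper75.classInner_smul_right, hy b hb, map_intCast]
      ring
  have h2 : classInner p t = ∑ a ∈ A, (x a : ℂ) ^ 2 + ∑ b ∈ B, (y b : ℂ) ^ 2 := by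
    rw [Cfsg.Agent.Helper75.classInner_conj_symm, h1, map_add, map_sum, map_sum]
    congr 1
    · apply Finset.sum_congr rfl
      intro a _
      rw [map_pow, map_intCast]
    · apply Finset.sum_congr rfl
      intro b _
      rw [map_pow, map_intCast]
  have hap : ∀ a ∈ A, classInner a p = x a := by
    intro a ha
    rw [hp, Cfsg.Agent.Helper75.classInner_add_right, Cfsg.Agent.Helper75.classInner_sum_right,
      Cfsg.Agent.Helper75.classInner_sum_right]
    rw [Finset.sum_eq_single_of_mem a ha (fun a' ha' hne => by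
      rw [Cfsg.Agent.Helper75.classInner_smul_right, hA0 a ha a' ha' (Ne.symm hne), mul_zero]),
      Finset.sum_eq_zero (fun b hb => by
        rw [Cfsg.Agent.Helper75.classInner_smul_right, hAB a ha b hb, mul_zero]),
      Cfsg.Agent.Helper75.classInner_smul_right, hA1 a ha, map_intCast]
    ring
  have hbp : ∀ b ∈ B, classInner b p = y b := by
    intro b hb
    rw [hp, Cfsg.Agent.Helper75.classInner_add_right, Cfsg.Agent.Helper75.classInner_sum_right,
      Cfsg.Agent.Helper75.classInner_sum_right]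
    rw [Finset.sum_eq_single_of_mem b hb (fun b' hb' hne => by
      rw [Cfsg.Agent.Helper75.classInner_smul_right, hB0 b hb b' hb' (Ne.symm hne), mul_zero]),
      Finset.sum_eq_zero (fun a ha => by
        rw [Cfsg.Agent.Helper75.classInner_smul_right, hBA b hb a ha, mul_zero]),
      Cfsg.Agent.Helper75.classInner_smul_right, hB1 b hb, map_intCast]
    ring
  have h3 : classInner p p = ∑ a ∈ A, (x a : ℂ) ^ 2 + ∑ b ∈ B, (y b : ℂ) ^ 2 := by
    conv_lhs => rw [hp]
    rw [Cfsg.Agent.Helper75.classInner_add_left, Cfsg.Agent.Helper75.classInner_sum_left,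
      Cfsg.Agent.Helper75.classInner_sum_left]
    congr 1
    · apply Finset.sum_congr rfl
      intro a ha
      rw [Cfsg.Agent.Helper75.classInner_smul_left, hap a ha]
      ring
    · apply Finset.sum_congr rfl
      intro b hb
      rw [Cfsg.Agent.Helper75.classInner_smul_left, hbp b hb]
      ring
  have h4 : classInner (t - p) (t - p) =
      ((∑ a ∈ A, (x a - x a ^ 2) + ∑ b ∈ B, (-y b - y b ^ 2) : ℤ) : ℂ) := by
    rw [Cfsg.Agent.Helper75.classInner_sub_left, Cfsg.Agent.Helper75.classInner_sub_right,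
      Cfsg.Agent.Helper75.classInner_sub_right, hnorm, h1, h2, h3]
    push_cast
    rw [Finset.sum_sub_distrib, Finset.sum_sub_distrib]
    simp only [Finset.sum_neg_distrib]
    ring
  have h5 := int_nonneg_of_classInner_self _ _ h4
  have hxle : ∀ a ∈ A, x a - x a ^ 2 ≤ 0 := by
    intro a _
    nlinarith [Int.le_self_sq (x a)]
  have hyle : ∀ b ∈ B, -y b - y b ^ 2 ≤ 0 := by
    intro b _
    have := Int.le_self_sq (-y b)
    nlinarith
  have h6 : ∑ a ∈ A, (x a - x a ^ 2) ≤ 0 := Finset.sum_nonpos hxle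
  have h7 : ∑ b ∈ B, (-y b - y b ^ 2) ≤ 0 := Finset.sum_nonpos hyle
  have h8 : ∑ a ∈ A, (x a - x a ^ 2) = 0 := by omega
  have h9 : ∑ b ∈ B, (-y b - y b ^ 2) = 0 := by omega
  refine ⟨?_, ?_, ?_⟩
  · intro a ha
    have h10 := (Finset.sum_eq_zero_iff_of_nonpos hxle).mp h8 a ha
    have h11 : x a * (x a - 1) = 0 := by nlinarith
    rcases mul_eq_zero.mp h11 with h | h
    · left; exact h
    · right; omega
  · intro b hb
    have h10 := (Finset.sum_eq_zero_iff_of_nonpos hyle).mp h9 b hb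
    have h11 : y b * (y b + 1) = 0 := by nlinarith
    rcases mul_eq_zero.mp h11 with h | h
    · left; exact h
    · right; omega
  · have h10 : classInner (t - p) (t - p) = 0 := by
      rw [h4, h8, h9]
      simp
    have h11 := eq_zero_of_classInner_self _ h10
    exact sub_eq_zero.mp h11

end Coh

end Cfsg.Agent.Helper25
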