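import Mathlib
import Cfsg.Agent.Helper25.Coh1

/-!
# Linear extension along an orthogonal family (helper25)

* `finite_of_orthogonal`: a pairwise orthogonal set of non-isotropic functions is finite.
* `coeff`, `extendLin`: `extendLin Sf v α = ∑ χ ∈ Sf, (⟨α,χ⟩/⟨χ,χ⟩) • v χ`.
* `span_decomp`: members of the `ℤ`-span of an orthogonal family have integral coefficients.
* `extendLin_isLinearIsometryOn`: the extension is a linear isometry on the `ℤ`-span.
* `isLinearIsometryOn_sum`: finite `ℤ`-linearity of a map that is linear on a set closed under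
  the module operations.
* `extendLin_eq_of_uniform`: agreement with `τ` on the combinations vanishing at `1` when all
  degrees are equal.
-/

set_option autoImplicit false
set_option linter.style.haveILetI false
set_option linter.unusedVariables false
set_option maxHeartbeats 1000000
set_option linter.unusedSectionVars false

namespace Cfsg.Agent.Helper25

open Cfsg

section Ext

variable {L : Type*} [Group L] [Fintype L] {G : Type*} [Group G] [Fintype G]

theorem finite_of_orthogonal (S : Set (L → ℂ))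
    (horth : ∀ χ ∈ S, ∀ φ ∈ S, χ ≠ φ → classInner χ φ = 0)
    (hne : ∀ χ ∈ S, classInner χ χ ≠ 0) : S.Finite := by
  classical
  have hli : LinearIndependent ℂ (fun x : S => (x : L → ℂ)) := by
    rw [linearIndependent_iff']
    intro s c hsum i hi
    have h1 : classInner (∑ j ∈ s, c j • (j : L → ℂ)) (i : L → ℂ) = 0 := by
      rw [hsum]
      exact Cfsg.Agent.Helper75.classInner_zero_left _
    rw [Cfsg.Agent.Helper75.classInner_sum_left] at h1
    rw [Finset.sum_eq_single_of_mem i hi (fun j hj hne' => by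
      rw [Cfsg.Agent.Helper75.classInner_smul_left,
        horth j j.2 i i.2 (fun h => hne' (Subtype.ext h)), mul_zero])] at h1
    rw [Cfsg.Agent.Helper75.classInner_smul_left] at h1
    exact (mul_eq_zero.mp h1).resolve_right (hne i i.2)
  exact hli.setFinite

/-- coefficient of `α` along `χ`. -/
noncomputable def coeff (α χ : L → ℂ) : ℂ := classInner α χ / classInner χ χ

theorem coeff_add (α β χ : L → ℂ) : coeff (α + β) χ = coeff α χ + coeff β χ := by
  unfold coeff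
  rw [Cfsg.Agent.Helper75.classInner_add_left, add_div]

theorem coeff_zsmul (n : ℤ) (α χ : L → ℂ) : coeff (n • α) χ = (n : ℂ) * coeff α χ := by
  unfold coeff
  rw [← Int.cast_smul_eq_zsmul ℂ n α, Cfsg.Agent.Helper75.classInner_smul_left, mul_div_assoc]

theorem coeff_zero (χ : L → ℂ) : coeff (0 : L → ℂ) χ = 0 := by
  unfold coeff
  rw [Cfsg.Agent.Helper75.classInner_zero_left, zero_div]

theorem coeff_self {χ : L → ℂ} (h : classInner χ χ ≠ 0) : coeff χ χ = 1 := by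
  unfold coeff
  exact div_self h

theorem coeff_of_orth {α χ : L → ℂ} (h : classInner α χ = 0) : coeff α χ = 0 := by
  unfold coeff
  rw [h, zero_div]

/-- linear extension of `v` along the family `Sf`. -/
noncomputable def extendLin (Sf : Finset (L → ℂ)) (v : (L → ℂ) → (G → ℂ)) (α : L → ℂ) : G → ℂ :=
  ∑ χ ∈ Sf, coeff α χ • v χ

theorem span_decomp (Sf : Finset (L → ℂ))
    (horth : ∀ χ ∈ Sf, ∀ φ ∈ Sf, χ ≠ φ → classInner χ φ = 0)
    (hne : ∀ χ ∈ Sf, classInner χ χ ≠ 0) {α : L → ℂ}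
    (hα : α ∈ Submodule.span ℤ (↑Sf : Set (L → ℂ))) :
    α = ∑ χ ∈ Sf, coeff α χ • χ ∧ ∀ χ ∈ Sf, ∃ z : ℤ, coeff α χ = z := by
  classical
  induction hα using Submodule.span_induction with
  | mem x hx =>
    have hx' : x ∈ Sf := hx
    constructor
    · rw [Finset.sum_eq_single_of_mem x hx' (fun φ hφ hne' => by
        rw [coeff_of_orth (horth x hx' φ hφ (Ne.symm hne')), zero_smul]),
        coeff_self (hne x hx'), one_smul]
    · intro χ hχ
      by_cases h : x = χ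
      · subst h
        exact ⟨1, by rw [coeff_self (hne x hx')]; simp⟩
      · exact ⟨0, by rw [coeff_of_orth (horth x hx' χ hχ h)]; simp⟩
  | zero =>
    constructor
    · simp [coeff_zero]
    · intro χ _
      exact ⟨0, by rw [coeff_zero]; simp⟩
  | add x y hx hy h1 h2 =>
    constructor
    · conv_lhs => rw [h1.1, h2.1]
      rw [← Finset.sum_add_distrib]
      apply Finset.sum_congr rfl
      intro χ _
      rw [coeff_add, add_smul]
    · intro χ hχ
      obtain ⟨z1, hz1⟩ := h1.2 χ hχ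
      obtain ⟨z2, hz2⟩ := h2.2 χ hχ
      exact ⟨z1 + z2, by rw [coeff_add, hz1, hz2]; push_cast; ring⟩
  | smul n x hx h =>
    constructor
    · conv_lhs => rw [h.1]
      rw [Finset.smul_sum]
      apply Finset.sum_congr rfl
      intro χ _
      rw [coeff_zsmul, mul_smul, Int.cast_smul_eq_zsmul]
    · intro χ hχ
      obtain ⟨z, hz⟩ := h.2 χ hχ
      exact ⟨n * z, by rw [coeff_zsmul, hz]; push_cast; ring⟩

theorem extendLin_add (Sf : Finset (L → ℂ)) (v : (L → ℂ) → (G → ℂ)) (α β : L → ℂ) :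
    extendLin Sf v (α + β) = extendLin Sf v α + extendLin Sf v β := by
  unfold extendLin
  rw [← Finset.sum_add_distrib]
  apply Finset.sum_congr rfl
  intro χ _
  rw [coeff_add, add_smul]

theorem extendLin_zsmul (Sf : Finset (L → ℂ)) (v : (L → ℂ) → (G → ℂ)) (n : ℤ) (α : L → ℂ) :
    extendLin Sf v (n • α) = n • extendLin Sf v α := by
  unfold extendLin
  rw [Finset.smul_sum]
  apply Finset.sum_congr rfl
  intro χ _
  rw [coeff_zsmul, mul_smul, Int.cast_smul_eq_zsmul]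

theorem extendLin_apply_mem (Sf : Finset (L → ℂ))
    (horth : ∀ χ ∈ Sf, ∀ φ ∈ Sf, χ ≠ φ → classInner χ φ = 0)
    (hne : ∀ χ ∈ Sf, classInner χ χ ≠ 0) (v : (L → ℂ) → (G → ℂ)) {χ : L → ℂ} (hχ : χ ∈ Sf) :
    extendLin Sf v χ = v χ := by
  classical
  unfold extendLin
  rw [Finset.sum_eq_single_of_mem χ hχ (fun φ hφ hne' => by
    rw [coeff_of_orth (horth χ hχ φ hφ (Ne.symm hne')), zero_smul]),
    coeff_self (hne χ hχ), one_smul]

theorem isGeneralizedCharacter_sum_int {ι : Type*} (s : Finset ι) (c : ι → ℂ) (f : ι → G → ℂ)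
    (hc : ∀ i ∈ s, ∃ z : ℤ, c i = z) (hf : ∀ i ∈ s, IsGeneralizedCharacter G (f i)) :
    IsGeneralizedCharacter G (∑ i ∈ s, c i • f i) := by
  rw [Cfsg.Agent.Helper73.isGeneralizedCharacter_iff_mem_genSpanZ]
  apply Submodule.sum_mem
  intro i hi
  obtain ⟨z, hz⟩ := hc i hi
  rw [hz, Int.cast_smul_eq_zsmul]
  exact Submodule.smul_mem _ _
    (Cfsg.Agent.Helper73.isGeneralizedCharacter_iff_mem_genSpanZ.mp (hf i hi))

theorem extendLin_isLinearIsometryOn (Sf : Finset (L → ℂ))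
    (horth : ∀ χ ∈ Sf, ∀ φ ∈ Sf, χ ≠ φ → classInner χ φ = 0)
    (hne : ∀ χ ∈ Sf, classInner χ χ ≠ 0) (v : (L → ℂ) → (G → ℂ))
    (hv1 : ∀ χ ∈ Sf, IsGeneralizedCharacter G (v χ))
    (hv2 : ∀ χ ∈ Sf, ∀ φ ∈ Sf, classInner (v χ) (v φ) = classInner χ φ) :
    IsLinearIsometryOn (zspan (↑Sf : Set (L → ℂ))) (extendLin Sf v) := by
  classical
  refine ⟨fun α _ β _ => extendLin_add Sf v α β, fun α _ n => extendLin_zsmul Sf v n α, ?_, ?_⟩
  · intro α hα β hβ
    have hα' := span_decomp Sf horth hne hα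
    have hβ' := span_decomp Sf horth hne hβ
    conv_rhs => rw [hα'.1, hβ'.1]
    unfold extendLin
    rw [Cfsg.Agent.Helper75.classInner_sum_left, Cfsg.Agent.Helper75.classInner_sum_left]
    apply Finset.sum_congr rfl
    intro χ hχ
    rw [Cfsg.Agent.Helper75.classInner_smul_left, Cfsg.Agent.Helper75.classInner_smul_left,
      Cfsg.Agent.Helper75.classInner_sum_right, Cfsg.Agent.Helper75.classInner_sum_right]
    congr 1
    apply Finset.sum_congr rfl
    intro φ hφ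
    rw [Cfsg.Agent.Helper75.classInner_smul_right, Cfsg.Agent.Helper75.classInner_smul_right,
      hv2 χ hχ φ hφ]
  · intro α hα
    have hα' := span_decomp Sf horth hne hα
    exact isGeneralizedCharacter_sum_int Sf _ _ hα'.2 hv1

/-- finite `ℤ`-linearity of a map that is linear on a set closed under the module operations. -/
theorem isLinearIsometryOn_sum {E : Set (L → ℂ)} {τ : (L → ℂ) → (G → ℂ)}
    (hτ : IsLinearIsometryOn E τ) (hE0 : (0 : L → ℂ) ∈ E)
    (hEadd : ∀ a ∈ E, ∀ b ∈ E, a + b ∈ E) (hEsmul : ∀ a ∈ E, ∀ n : ℤ, n • a ∈ E)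
    {ι : Type*} (s : Finset ι) (z : ι → ℤ) (f : ι → L → ℂ) (hf : ∀ i ∈ s, f i ∈ E) :
    (∑ i ∈ s, z i • f i) ∈ E ∧ τ (∑ i ∈ s, z i • f i) = ∑ i ∈ s, z i • τ (f i) := by
  classical
  induction s using Finset.induction_on with
  | empty =>
    refine ⟨by simpa using hE0, ?_⟩
    have h1 := hτ.2.1 0 hE0 0
    simpa using h1
  | insert a s ha ih =>
    have ih' := ih (fun i hi => hf i (Finset.mem_insert_of_mem hi))
    have h1 : z a • f a ∈ E := hEsmul _ (hf a (Finset.mem_insert_self a s)) _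
    rw [Finset.sum_insert ha, Finset.sum_insert ha]
    refine ⟨hEadd _ h1 _ ih'.1, ?_⟩
    rw [hτ.1 _ h1 _ ih'.1, hτ.2.1 _ (hf a (Finset.mem_insert_self a s)), ih'.2]

theorem isLinearIsometryOn_zero {E : Set (L → ℂ)} {τ : (L → ℂ) → (G → ℂ)}
    (hτ : IsLinearIsometryOn E τ) (hE0 : (0 : L → ℂ) ∈ E) : τ 0 = 0 := by
  have h1 := hτ.2.1 0 hE0 0
  simpa using h1

theorem isLinearIsometryOn_neg {E : Set (L → ℂ)} {τ : (L → ℂ) → (G → ℂ)}
    (hτ : IsLinearIsometryOn E τ) {α : L → ℂ} (hα : α ∈ E) : τ (-α) = -τ α := by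
  have h1 := hτ.2.1 α hα (-1)
  simpa using h1

theorem zspanOn_zero (S : Set (L → ℂ)) : (0 : L → ℂ) ∈ zspanOn S ({1}ᶜ : Set L) :=
  ⟨Submodule.zero_mem _, fun _ _ => rfl⟩

theorem zspanOn_add (S : Set (L → ℂ)) {a b : L → ℂ} (ha : a ∈ zspanOn S ({1}ᶜ : Set L))
    (hb : b ∈ zspanOn S ({1}ᶜ : Set L)) : a + b ∈ zspanOn S ({1}ᶜ : Set L) :=
  ⟨Submodule.add_mem _ ha.1 hb.1, fun x hx => by
    rw [Pi.add_apply, ha.2 x hx, hb.2 x hx, add_zero]⟩

theorem zspanOn_zsmul (S : Set (L → ℂ)) {a : L → ℂ} (ha : a ∈ zspanOn S ({1}ᶜ : Set L))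
    (n : ℤ) : n • a ∈ zspanOn S ({1}ᶜ : Set L) :=
  ⟨Submodule.smul_mem _ _ ha.1, fun x hx => by
    rw [Pi.smul_apply, ha.2 x hx, smul_zero]⟩

theorem mem_zspanOn_iff (S : Set (L → ℂ)) (a : L → ℂ) :
    a ∈ zspanOn S ({1}ᶜ : Set L) ↔ a ∈ Submodule.span ℤ S ∧ a 1 = 0 := by
  constructor
  · intro h
    exact ⟨h.1, h.2 1 (by simp)⟩
  · intro h
    refine ⟨h.1, fun x hx => ?_⟩
    have : x = 1 := by simpa using hx
    rw [this, h.2]

/-- agreement of the extension with `τ` on the combinations vanishing at `1`, for uniform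
degrees. -/
theorem extendLin_eq_of_uniform (Sf : Finset (L → ℂ))
    (horth : ∀ χ ∈ Sf, ∀ φ ∈ Sf, χ ≠ φ → classInner χ φ = 0)
    (hne : ∀ χ ∈ Sf, classInner χ χ ≠ 0) (v : (L → ℂ) → (G → ℂ)) (τ : (L → ℂ) → (G → ℂ))
    (hτ : IsLinearIsometryOn (zspanOn (↑Sf : Set (L → ℂ)) ({1}ᶜ : Set L)) τ)
    (d : ℂ) (hd0 : d ≠ 0) (hdeg : ∀ χ ∈ Sf, χ 1 = d) (χ₀ : L → ℂ) (hχ₀ : χ₀ ∈ Sf)
    (hv3 : ∀ χ ∈ Sf, v χ - v χ₀ = τ (χ - χ₀)) :
    ∀ α ∈ zspanOn (↑Sf : Set (L → ℂ)) ({1}ᶜ : Set L), extendLin Sf v α = τ α := by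
  classical
  intro α hα
  rw [mem_zspanOn_iff] at hα
  obtain ⟨hdec, hint⟩ := span_decomp Sf horth hne hα.1
  have hint' : ∀ χ : L → ℂ, ∃ z : ℤ, χ ∈ Sf → coeff α χ = z := by
    intro χ
    by_cases h : χ ∈ Sf
    · obtain ⟨z, hz⟩ := hint χ h
      exact ⟨z, fun _ => hz⟩
    · exact ⟨0, fun h' => absurd h' h⟩
  choose z hz using hint'
  have hsum0 : ∑ χ ∈ Sf, (z χ : ℂ) = 0 := by
    have h1 : α 1 = ∑ χ ∈ Sf, (z χ : ℂ) * d := by
      conv_lhs => rw [hdec]
      rw [Finset.sum_apply]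
      apply Finset.sum_congr rfl
      intro χ hχ
      rw [Pi.smul_apply, smul_eq_mul, hz χ hχ, hdeg χ hχ]
    rw [hα.2, ← Finset.sum_mul] at h1
    rcases mul_eq_zero.mp h1.symm with h | h
    · exact h
    · exact absurd h hd0
  have hmemE : ∀ χ ∈ Sf, χ - χ₀ ∈ zspanOn (↑Sf : Set (L → ℂ)) ({1}ᶜ : Set L) := by
    intro χ hχ
    rw [mem_zspanOn_iff]
    refine ⟨Submodule.sub_mem _ (Submodule.subset_span hχ) (Submodule.subset_span hχ₀), ?_⟩
    rw [Pi.sub_apply, hdeg χ hχ, hdeg χ₀ hχ₀, sub_self]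
  have hα2 : α = ∑ χ ∈ Sf, z χ • (χ - χ₀) := by
    have h1 : ∑ χ ∈ Sf, z χ • (χ - χ₀) = ∑ χ ∈ Sf, (z χ : ℂ) • χ - (∑ χ ∈ Sf, (z χ : ℂ)) • χ₀ := by
      rw [Finset.sum_smul, ← Finset.sum_sub_distrib]
      apply Finset.sum_congr rfl
      intro χ _
      rw [← Int.cast_smul_eq_zsmul ℂ, smul_sub]
    rw [h1, hsum0, zero_smul, sub_zero]
    conv_lhs => rw [hdec]
    apply Finset.sum_congr rfl
    intro χ hχ
    rw [hz χ hχ]
  have h2 := (isLinearIsometryOn_sum hτ (zspanOn_zero _) (fun a ha b hb => zspanOn_add _ ha hb)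
    (fun a ha n => zspanOn_zsmul _ ha n) Sf z (fun χ => χ - χ₀) hmemE).2
  rw [← hα2] at h2
  rw [h2]
  unfold extendLin
  have h3 : ∑ χ ∈ Sf, z χ • τ (χ - χ₀) = ∑ χ ∈ Sf, (z χ : ℂ) • v χ - (∑ χ ∈ Sf, (z χ : ℂ)) • v χ₀ := by
    rw [Finset.sum_smul, ← Finset.sum_sub_distrib]
    apply Finset.sum_congr rfl
    intro χ hχ
    rw [← hv3 χ hχ, ← Int.cast_smul_eq_zsmul ℂ, smul_sub]
  rw [h3, hsum0, zero_smul, sub_zero]
  apply Finset.sum_congr rfl
  intro χ hχ
  rw [hz χ hχ]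

end Ext

end Cfsg.Agent.Helper25
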