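import Mathlib
import Cfsg.Agent.Helper25.Coh2
import Cfsg.Agent.Helper3.BrauerInd

/-!
# Coherence for uniform degrees (helper25)

`uniform_degree_coherent` (Peterfalvi (5.4)): a coherence system all of whose members have the same
degree is coherent.
-/

set_option autoImplicit false
set_option linter.style.haveILetI false
set_option linter.unusedVariables false
set_option linter.unusedSectionVars false
set_option maxHeartbeats 1000000

namespace Cfsg.Agent.Helper25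

open Cfsg

section Uniform

variable {L : Type*} [Group L] [Fintype L] {G : Type*} [Group G] [Fintype G]
variable {S : Set (L → ℂ)} {τ : (L → ℂ) → (G → ℂ)} {R : (L → ℂ) → Finset (G → ℂ)}

theorem conjFun_conjFun (χ : L → ℂ) : conjFun (conjFun χ) = χ := by
  funext x
  simp [conjFun]

theorem classInner_conjFun_self (χ : L → ℂ) :
    classInner (conjFun χ) (conjFun χ) = classInner χ χ := by
  unfold classInner conjFun
  congr 1
  apply Finset.sum_congr rfl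
  intro g _
  simp [mul_comm]

theorem cohSys_norm_ne (hS : IsCoherenceSystem S τ R) {χ : L → ℂ} (hχ : χ ∈ S) :
    classInner χ χ ≠ 0 := by
  intro h
  have h0 := eq_zero_of_classInner_self χ h
  apply hS.conj_ne χ hχ
  rw [h0]
  funext x
  simp [conjFun]

theorem cohSys_sub_mem (hS : IsCoherenceSystem S τ R) (hdeg : ∀ φ ∈ S, ∀ ψ ∈ S, φ 1 = ψ 1)
    {α β : L → ℂ} (hα : α ∈ S) (hβ : β ∈ S) : α - β ∈ zspanOn S ({1}ᶜ : Set L) := by
  rw [mem_zspanOn_iff]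
  refine ⟨Submodule.sub_mem _ (Submodule.subset_span hα) (Submodule.subset_span hβ), ?_⟩
  rw [Pi.sub_apply, hdeg α hα β hβ, sub_self]

theorem cohSys_orth_R (hS : IsCoherenceSystem S τ R) {χ ψ : L → ℂ} (hχ : χ ∈ S) (hψ : ψ ∈ S)
    (h1 : ψ ≠ χ) (h2 : ψ ≠ conjFun χ) : ∀ a ∈ R χ, ∀ b ∈ R ψ, classInner a b = 0 := by
  have h3 : classInner χ ψ = 0 := hS.orthogonal χ hχ ψ hψ (Ne.symm h1)
  have h4 : classInner χ (conjFun ψ) = 0 := by
    apply hS.orthogonal χ hχ (conjFun ψ) (hS.conj_mem ψ hψ)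
    intro h
    apply h2
    rw [h, conjFun_conjFun]
  exact hS.disjoint ψ hψ χ hχ h3 h4

/-- the norm analysis of `τ (χ - φ)` for non-conjugate members of equal degree. -/
theorem coh_step1 (hS : IsCoherenceSystem S τ R) (hdeg : ∀ φ ∈ S, ∀ ψ ∈ S, φ 1 = ψ 1)
    {χ φ : L → ℂ} (hχ : χ ∈ S) (hφ : φ ∈ S) (h1 : φ ≠ χ) (h2 : φ ≠ conjFun χ) :
    ∃ x y : (G → ℂ) → ℤ, (∀ a ∈ R χ, classInner (τ (χ - φ)) a = x a) ∧
      (∀ a ∈ R χ, x a = 0 ∨ x a = 1) ∧ (∀ b ∈ R φ, y b = 0 ∨ y b = -1) ∧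
      ∑ a ∈ R χ, (x a : ℂ) = classInner χ χ ∧
      τ (χ - φ) = ∑ a ∈ R χ, (x a : ℂ) • a + ∑ b ∈ R φ, (y b : ℂ) • b := by
  classical
  have hE := fun {α β : L → ℂ} (hα : α ∈ S) (hβ : β ∈ S) => cohSys_sub_mem hS hdeg hα hβ
  set t := τ (χ - φ) with ht
  have htg : IsGeneralizedCharacter G t := hS.isometry.2.2.2 _ (hE hχ hφ)
  have hxe : ∀ a : G → ℂ, ∃ z : ℤ, a ∈ R χ → classInner t a = z := by
    intro a
    by_cases ha : a ∈ R χ
    · obtain ⟨z, hz⟩ := genChar_inner_int htg (hS.virtual χ hχ a ha)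
      exact ⟨z, fun _ => hz⟩
    · exact ⟨0, fun h => absurd h ha⟩
  have hye : ∀ b : G → ℂ, ∃ z : ℤ, b ∈ R φ → classInner t b = z := by
    intro b
    by_cases hb : b ∈ R φ
    · obtain ⟨z, hz⟩ := genChar_inner_int htg (hS.virtual φ hφ b hb)
      exact ⟨z, fun _ => hz⟩
    · exact ⟨0, fun h => absurd h hb⟩
  choose x hx using hxe
  choose y hy using hye
  have hA1 : ∀ a ∈ R χ, classInner a a = 1 := fun a ha => by
    rw [hS.orthonormal χ hχ a ha a ha, if_pos rfl]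
  have hA0 : ∀ a ∈ R χ, ∀ a' ∈ R χ, a ≠ a' → classInner a a' = 0 := fun a ha a' ha' hne => by
    rw [hS.orthonormal χ hχ a ha a' ha', if_neg hne]
  have hB1 : ∀ b ∈ R φ, classInner b b = 1 := fun b hb => by
    rw [hS.orthonormal φ hφ b hb b hb, if_pos rfl]
  have hB0 : ∀ b ∈ R φ, ∀ b' ∈ R φ, b ≠ b' → classInner b b' = 0 := fun b hb b' hb' hne => by
    rw [hS.orthonormal φ hφ b hb b' hb', if_neg hne]
  have hAB := cohSys_orth_R hS hχ hφ h1 h2
  have hχc : classInner χ (conjFun χ) = 0 :=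
    hS.orthogonal χ hχ _ (hS.conj_mem χ hχ) (Ne.symm (hS.conj_ne χ hχ))
  have hφc : classInner φ (conjFun φ) = 0 :=
    hS.orthogonal φ hφ _ (hS.conj_mem φ hφ) (Ne.symm (hS.conj_ne φ hφ))
  have hφχ : classInner φ χ = 0 := hS.orthogonal φ hφ χ hχ h1
  have hχφ : classInner χ φ = 0 := hS.orthogonal χ hχ φ hφ (Ne.symm h1)
  have hφχc : classInner φ (conjFun χ) = 0 := hS.orthogonal φ hφ _ (hS.conj_mem χ hχ) h2
  have hχφc : classInner χ (conjFun φ) = 0 := by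
    apply hS.orthogonal χ hχ _ (hS.conj_mem φ hφ)
    intro h
    apply h2
    rw [h, conjFun_conjFun]
  have hsumx : ∑ a ∈ R χ, (x a : ℂ) = classInner χ χ := by
    rw [← Finset.sum_congr rfl (fun a ha => hx a ha),
      ← Cfsg.Agent.Helper75.classInner_sum_right, ← hS.sum_eq χ hχ, ht,
      hS.isometry.2.2.1 _ (hE hχ hφ) _ (hE hχ (hS.conj_mem χ hχ)),
      Cfsg.Agent.Helper75.classInner_sub_left, Cfsg.Agent.Helper75.classInner_sub_right,
      Cfsg.Agent.Helper75.classInner_sub_right, hχc, hφχ, hφχc]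
    ring
  have hsumy : ∑ b ∈ R φ, (y b : ℂ) = -classInner φ φ := by
    rw [← Finset.sum_congr rfl (fun b hb => hy b hb),
      ← Cfsg.Agent.Helper75.classInner_sum_right, ← hS.sum_eq φ hφ, ht,
      hS.isometry.2.2.1 _ (hE hχ hφ) _ (hE hφ (hS.conj_mem φ hφ)),
      Cfsg.Agent.Helper75.classInner_sub_left, Cfsg.Agent.Helper75.classInner_sub_right,
      Cfsg.Agent.Helper75.classInner_sub_right, hχφ, hχφc, hφc]
    ring
  have hnorm : classInner t t = ∑ a ∈ R χ, (x a : ℂ) - ∑ b ∈ R φ, (y b : ℂ) := by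
    rw [hsumx, hsumy, ht, hS.isometry.2.2.1 _ (hE hχ hφ) _ (hE hχ hφ),
      Cfsg.Agent.Helper75.classInner_sub_left, Cfsg.Agent.Helper75.classInner_sub_right,
      Cfsg.Agent.Helper75.classInner_sub_right, hχφ, hφχ]
    ring
  obtain ⟨r1, r2, r3⟩ := norm_analysis t (R χ) (R φ) hA1 hA0 hB1 hB0 hAB x y hx hy hnorm
  exact ⟨x, y, hx, r1, r2, hsumx, r3⟩

/-- inner product of a combination of `R χ₀` with a combination of an orthogonal family. -/
theorem classInner_comb_orth (A B : Finset (G → ℂ)) (c d : (G → ℂ) → ℂ)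
    (hAB : ∀ a ∈ A, ∀ b ∈ B, classInner a b = 0) :
    classInner (∑ a ∈ A, c a • a) (∑ b ∈ B, d b • b) = 0 := by
  rw [Cfsg.Agent.Helper75.classInner_sum_left]
  apply Finset.sum_eq_zero
  intro a ha
  rw [Cfsg.Agent.Helper75.classInner_smul_left, Cfsg.Agent.Helper75.classInner_sum_right,
    Finset.sum_eq_zero (fun b hb => by
      rw [Cfsg.Agent.Helper75.classInner_smul_right, hAB a ha b hb, mul_zero]), mul_zero]

theorem classInner_comb_orth_sum (A B : Finset (G → ℂ)) (c : (G → ℂ) → ℂ)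
    (hAB : ∀ a ∈ A, ∀ b ∈ B, classInner a b = 0) :
    classInner (∑ a ∈ A, c a • a) (∑ b ∈ B, b) = 0 := by
  have h := classInner_comb_orth A B c (fun _ => 1) hAB
  simpa using h

/-- the base choice: a `0/1` combination of `R χ₀` of norm `⟨χ₀,χ₀⟩` compatible with all
`τ (χ₀ - χ)`. -/
theorem coh_base (hS : IsCoherenceSystem S τ R) (hdeg : ∀ φ ∈ S, ∀ ψ ∈ S, φ 1 = ψ 1)
    {χ₀ : L → ℂ} (hχ₀ : χ₀ ∈ S) :
    ∃ x : (G → ℂ) → ℤ, (∀ a ∈ R χ₀, x a = 0 ∨ x a = 1) ∧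
      ∑ a ∈ R χ₀, (x a : ℂ) = classInner χ₀ χ₀ ∧
      ∀ χ ∈ S, χ ≠ χ₀ → χ ≠ conjFun χ₀ →
        classInner (∑ a ∈ R χ₀, (x a : ℂ) • a) (τ (χ₀ - χ)) = classInner χ₀ χ₀ := by
  classical
  have hE := fun {α β : L → ℂ} (hα : α ∈ S) (hβ : β ∈ S) => cohSys_sub_mem hS hdeg hα hβ
  have hτ0 : τ 0 = 0 := isLinearIsometryOn_zero hS.isometry (zspanOn_zero S)
  by_cases hex : ∃ φ ∈ S, φ ≠ χ₀ ∧ φ ≠ conjFun χ₀
  · obtain ⟨φ, hφ, hφ1, hφ2⟩ := hex
    obtain ⟨x, y, hx, hx01, hy01, hxsum, hdec⟩ := coh_step1 hS hdeg hχ₀ hφ hφ1 hφ2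
    refine ⟨x, hx01, hxsum, ?_⟩
    intro χ hχ hχ1 hχ2
    have hsplit : τ (χ₀ - χ) = τ (χ₀ - φ) + τ (φ - χ) := by
      rw [← hS.isometry.1 _ (hE hχ₀ hφ) _ (hE hφ hχ)]
      congr 1
      abel
    have hfirst : classInner (∑ a ∈ R χ₀, (x a : ℂ) • a) (τ (χ₀ - φ)) = classInner χ₀ χ₀ := by
      rw [Cfsg.Agent.Helper75.classInner_sum_left, ← hxsum]
      apply Finset.sum_congr rfl
      intro a ha
      rw [Cfsg.Agent.Helper75.classInner_smul_left, Cfsg.Agent.Helper75.classInner_conj_symm,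
        hx a ha, map_intCast]
      rcases hx01 a ha with h | h
      · rw [h]; simp
      · rw [h]; simp
    have hsecond : classInner (∑ a ∈ R χ₀, (x a : ℂ) • a) (τ (φ - χ)) = 0 := by
      by_cases hc1 : χ = φ
      · rw [hc1, sub_self, hτ0, Cfsg.Agent.Helper75.classInner_zero_right]
      · by_cases hc2 : χ = conjFun φ
        · rw [hc2, hS.sum_eq φ hφ]
          exact classInner_comb_orth_sum _ _ _ (cohSys_orth_R hS hχ₀ hφ hφ1 hφ2)
        · obtain ⟨x', y', -, -, -, -, hdec'⟩ := coh_step1 hS hdeg hφ hχ hc1 hc2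
          rw [hdec', Cfsg.Agent.Helper75.classInner_add_right,
            classInner_comb_orth _ _ _ _ (cohSys_orth_R hS hχ₀ hφ hφ1 hφ2),
            classInner_comb_orth _ _ _ _ (cohSys_orth_R hS hχ₀ hχ hχ1 hχ2), add_zero]
    rw [hsplit, Cfsg.Agent.Helper75.classInner_add_right, hfirst, hsecond, add_zero]
  · push Not at hex
    -- S ⊆ {χ₀, conj χ₀}
    obtain ⟨k, hk⟩ := Cfsg.Agent.Helper3.classInner_isCharacter_nat (hS.isCharacter χ₀ hχ₀)
      (hS.isCharacter χ₀ hχ₀)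
    have hcard : (R χ₀).card = 2 * k := by
      have h1 : classInner (∑ a ∈ R χ₀, a) (∑ a ∈ R χ₀, a) = ((R χ₀).card : ℂ) := by
        rw [Cfsg.Agent.Helper75.classInner_sum_left]
        rw [Finset.sum_congr rfl (fun a ha => by
          rw [Cfsg.Agent.Helper75.classInner_sum_right,
            Finset.sum_eq_single_of_mem a ha (fun a' ha' hne => by
              rw [hS.orthonormal χ₀ hχ₀ a ha a' ha', if_neg (Ne.symm hne)]),
            hS.orthonormal χ₀ hχ₀ a ha a ha, if_pos rfl])]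
        simp
      have hχc : classInner χ₀ (conjFun χ₀) = 0 :=
        hS.orthogonal χ₀ hχ₀ _ (hS.conj_mem χ₀ hχ₀) (Ne.symm (hS.conj_ne χ₀ hχ₀))
      have hχc' : classInner (conjFun χ₀) χ₀ = 0 :=
        hS.orthogonal _ (hS.conj_mem χ₀ hχ₀) χ₀ hχ₀ (hS.conj_ne χ₀ hχ₀)
      rw [← hS.sum_eq χ₀ hχ₀,
        hS.isometry.2.2.1 _ (hE hχ₀ (hS.conj_mem χ₀ hχ₀)) _ (hE hχ₀ (hS.conj_mem χ₀ hχ₀)),
        Cfsg.Agent.Helper75.classInner_sub_left, Cfsg.Agent.Helper75.classInner_sub_right,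
        Cfsg.Agent.Helper75.classInner_sub_right, hχc, hχc', classInner_conjFun_self, hk] at h1
      have h2 : ((2 * k : ℕ) : ℂ) = ((R χ₀).card : ℂ) := by
        rw [← h1]
        push_cast
        ring
      exact_mod_cast h2.symm
    obtain ⟨T, hT, hTcard⟩ := Finset.exists_subset_card_eq (show k ≤ (R χ₀).card by omega)
    refine ⟨fun a => if a ∈ T then 1 else 0, ?_, ?_, ?_⟩
    · intro a _
      by_cases h : a ∈ T
      · right; simp [h]
      · left; simp [h]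
    · rw [hk]
      have h1 : ∑ a ∈ R χ₀, (((if a ∈ T then 1 else 0 : ℤ)) : ℂ) = ∑ a ∈ R χ₀ ∩ T, (1 : ℂ) := by
        rw [← Finset.sum_ite_mem]
        apply Finset.sum_congr rfl
        intro a _
        split_ifs <;> simp
      rw [h1, Finset.inter_eq_right.mpr hT, Finset.sum_const, hTcard]
      simp
    · intro χ hχ hχ1 hχ2
      exact absurd (hex χ hχ hχ1) hχ2

theorem uniform_degree_coherent (hS : IsCoherenceSystem S τ R)
    (hdeg : ∀ φ ∈ S, ∀ ψ ∈ S, φ 1 = ψ 1) : IsCoherent S ({1}ᶜ : Set L) τ := by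
  classical
  obtain ⟨χ₀, hχ₀⟩ := hS.nonempty
  have hSne : ∀ χ ∈ S, classInner χ χ ≠ 0 := fun χ hχ => cohSys_norm_ne hS hχ
  have hfin : S.Finite := finite_of_orthogonal S hS.orthogonal hSne
  obtain ⟨Sf, hSf⟩ : ∃ Sf : Finset (L → ℂ), (↑Sf : Set (L → ℂ)) = S :=
    ⟨hfin.toFinset, hfin.coe_toFinset⟩
  subst hSf
  have hE := fun {α β : L → ℂ} (hα : α ∈ (↑Sf : Set (L → ℂ))) (hβ : β ∈ (↑Sf : Set (L → ℂ))) =>
    cohSys_sub_mem hS hdeg hα hβ
  have hτ0 : τ 0 = 0 := isLinearIsometryOn_zero hS.isometry (zspanOn_zero _)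
  obtain ⟨x, hx01, hxsum, hxW3⟩ := coh_base hS hdeg hχ₀
  set v₀ : G → ℂ := ∑ a ∈ R χ₀, (x a : ℂ) • a with hv₀
  have hv₀gen : IsGeneralizedCharacter G v₀ :=
    isGeneralizedCharacter_sum_int _ _ _ (fun a _ => ⟨x a, rfl⟩)
      (fun a ha => hS.virtual χ₀ hχ₀ a ha)
  have hv₀a : ∀ a ∈ R χ₀, classInner v₀ a = x a := by
    intro a ha
    rw [hv₀, Cfsg.Agent.Helper75.classInner_sum_left,
      Finset.sum_eq_single_of_mem a ha (fun a' ha' hne => by
        rw [Cfsg.Agent.Helper75.classInner_smul_left, hS.orthonormal χ₀ hχ₀ a' ha' a ha,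
          if_neg hne, mul_zero]),
      Cfsg.Agent.Helper75.classInner_smul_left, hS.orthonormal χ₀ hχ₀ a ha a ha, if_pos rfl,
      mul_one]
  have hv₀norm : classInner v₀ v₀ = classInner χ₀ χ₀ := by
    conv_lhs => rw [hv₀]
    rw [Cfsg.Agent.Helper75.classInner_sum_right, ← hxsum]
    apply Finset.sum_congr rfl
    intro a ha
    rw [Cfsg.Agent.Helper75.classInner_smul_right, hv₀a a ha, map_intCast]
    rcases hx01 a ha with h | h
    · rw [h]; simp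
    · rw [h]; simp
  have hv₀sum : classInner v₀ (∑ a ∈ R χ₀, a) = classInner χ₀ χ₀ := by
    rw [Cfsg.Agent.Helper75.classInner_sum_right, ← hxsum]
    exact Finset.sum_congr rfl (fun a ha => hv₀a a ha)
  have hn₀real : (starRingEnd ℂ) (classInner χ₀ χ₀) = classInner χ₀ χ₀ :=
    (Cfsg.Agent.Helper75.classInner_conj_symm χ₀ χ₀).symm
  have hW3 : ∀ χ ∈ (↑Sf : Set (L → ℂ)), χ ≠ χ₀ →
      classInner v₀ (τ (χ₀ - χ)) = classInner χ₀ χ₀ := by
    intro χ hχ hne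
    by_cases hc : χ = conjFun χ₀
    · rw [hc, hS.sum_eq χ₀ hχ₀]
      exact hv₀sum
    · exact hxW3 χ hχ hne hc
  have hK : ∀ χ ∈ (↑Sf : Set (L → ℂ)),
      classInner v₀ (τ (χ - χ₀)) = classInner χ₀ χ - classInner χ₀ χ₀ := by
    intro χ hχ
    by_cases h : χ = χ₀
    · subst h
      rw [sub_self, hτ0, Cfsg.Agent.Helper75.classInner_zero_right, sub_self]
    · have e : χ - χ₀ = -(χ₀ - χ) := by abel
      rw [e, isLinearIsometryOn_neg hS.isometry (hE hχ₀ hχ),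
        Cfsg.Agent.Helper75.classInner_neg_right, hW3 χ hχ h,
        hS.orthogonal χ₀ hχ₀ χ hχ (Ne.symm h), zero_sub]
  set v : (L → ℂ) → (G → ℂ) := fun χ => v₀ + τ (χ - χ₀) with hv
  have hv2 : ∀ χ ∈ Sf, ∀ φ ∈ Sf, classInner (v χ) (v φ) = classInner χ φ := by
    intro χ hχ φ hφ
    have hχ' : χ ∈ (↑Sf : Set (L → ℂ)) := Finset.mem_coe.mpr hχ
    have hφ' : φ ∈ (↑Sf : Set (L → ℂ)) := Finset.mem_coe.mpr hφ
    show classInner (v₀ + τ (χ - χ₀)) (v₀ + τ (φ - χ₀)) = _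
    rw [Cfsg.Agent.Helper75.classInner_add_left, Cfsg.Agent.Helper75.classInner_add_right,
      Cfsg.Agent.Helper75.classInner_add_right, hv₀norm, hK φ hφ',
      Cfsg.Agent.Helper75.classInner_conj_symm v₀ (τ (χ - χ₀)), hK χ hχ',
      hS.isometry.2.2.1 _ (hE hχ' hχ₀) _ (hE hφ' hχ₀), map_sub, hn₀real,
      ← Cfsg.Agent.Helper75.classInner_conj_symm χ₀ χ,
      Cfsg.Agent.Helper75.classInner_sub_left, Cfsg.Agent.Helper75.classInner_sub_right,
      Cfsg.Agent.Helper75.classInner_sub_right]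
    ring
  have hv1 : ∀ χ ∈ Sf, IsGeneralizedCharacter G (v χ) := by
    intro χ hχ
    exact Cfsg.Agent.Helper3.isGeneralizedCharacter_add hv₀gen
      (hS.isometry.2.2.2 _ (hE (Finset.mem_coe.mpr hχ) hχ₀))
  have hv3 : ∀ χ ∈ Sf, v χ - v χ₀ = τ (χ - χ₀) := by
    intro χ hχ
    show v₀ + τ (χ - χ₀) - (v₀ + τ (χ₀ - χ₀)) = _
    rw [sub_self, hτ0]
    abel
  have horth : ∀ χ ∈ Sf, ∀ φ ∈ Sf, χ ≠ φ → classInner χ φ = 0 := fun χ hχ φ hφ h =>
    hS.orthogonal χ (Finset.mem_coe.mpr hχ) φ (Finset.mem_coe.mpr hφ) h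
  have hne : ∀ χ ∈ Sf, classInner χ χ ≠ 0 := fun χ hχ => hSne χ (Finset.mem_coe.mpr hχ)
  have hd0 : χ₀ 1 ≠ 0 := by
    intro h
    apply hSne χ₀ hχ₀
    obtain ⟨n, ρ, hρ⟩ := hS.isCharacter χ₀ hχ₀
    rw [← hρ, Representation.char_one, Module.finrank_fin_fun] at h
    have hn : n = 0 := by exact_mod_cast h
    subst hn
    have h0 : χ₀ = 0 := by
      rw [← hρ]
      funext g
      show LinearMap.trace ℂ _ (ρ g) = 0
      have : ρ g = 0 := LinearMap.ext (fun w => Subsingleton.elim _ _)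
      rw [this, map_zero]
    rw [h0, Cfsg.Agent.Helper75.classInner_zero_left]
  refine ⟨⟨χ₀ - conjFun χ₀, hE hχ₀ (hS.conj_mem χ₀ hχ₀),
    sub_ne_zero.mpr (Ne.symm (hS.conj_ne χ₀ hχ₀))⟩, extendLin Sf v, ?_, ?_⟩
  · exact extendLin_isLinearIsometryOn Sf horth hne v hv1 hv2
  · exact extendLin_eq_of_uniform Sf horth hne v τ hS.isometry (χ₀ 1) hd0
      (fun χ hχ => hdeg χ (Finset.mem_coe.mpr hχ) χ₀ hχ₀) χ₀ (Finset.mem_coe.mp hχ₀) hv3

end Uniform

end Cfsg.Agent.Helper25
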