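import Mathlib
import Cfsg.Agent.Helper25.Coh3

/-!
# Extending a coherent set (helper25)

`extend_coherent` (Peterfalvi (5.6)): a coherent subset `S₁` of a coherence system, closed under
conjugation, can be extended by `χ, conj χ` when some `φ ∈ S₁` has `φ 1 ∣ χ 1` and
`2 χ(1) φ(1) < ∑_{ξ ∈ S₁} ξ(1)² / ⟨ξ, ξ⟩`.
-/

set_option autoImplicit false
set_option linter.style.haveILetI false
set_option linter.unusedVariables false
set_option linter.unusedSectionVars false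
set_option maxHeartbeats 2000000

namespace Cfsg.Agent.Helper25

open Cfsg

section Extend

variable {L : Type*} [Group L] [Fintype L] {G : Type*} [Group G] [Fintype G]
variable {S : Set (L → ℂ)} {τ : (L → ℂ) → (G → ℂ)} {R : (L → ℂ) → Finset (G → ℂ)}

theorem zsmul_eq_smul_cast {X : Type*} (m : ℤ) (f : X → ℂ) : m • f = (m : ℂ) • f :=
  (Int.cast_smul_eq_zsmul ℂ m f).symm

theorem map_sum_zsmul {ι : Type*} (F : (L → ℂ) → (G → ℂ))
    (hadd : ∀ a b, F (a + b) = F a + F b) (hsmul : ∀ (n : ℤ) a, F (n • a) = n • F a)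
    (s : Finset ι) (z : ι → ℤ) (f : ι → L → ℂ) :
    F (∑ i ∈ s, z i • f i) = ∑ i ∈ s, z i • F (f i) := by
  classical
  induction s using Finset.induction_on with
  | empty =>
    have h1 := hsmul 0 0
    simpa using h1
  | insert a s ha ih =>
    rw [Finset.sum_insert ha, Finset.sum_insert ha, hadd, hsmul, ih]

theorem cohSys_conj_one (hS : IsCoherenceSystem S τ R) {χ : L → ℂ} (hχ : χ ∈ S) :
    (conjFun χ) 1 = χ 1 := by
  obtain ⟨n, ρ, hρ⟩ := hS.isCharacter χ hχ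
  show (starRingEnd ℂ) (χ 1) = χ 1
  rw [← hρ, Representation.char_one]
  simp

theorem cohSys_sub_conj_mem (hS : IsCoherenceSystem S τ R) {χ : L → ℂ} (hχ : χ ∈ S) :
    χ - conjFun χ ∈ zspanOn S ({1}ᶜ : Set L) := by
  rw [mem_zspanOn_iff]
  refine ⟨Submodule.sub_mem _ (Submodule.subset_span hχ)
    (Submodule.subset_span (hS.conj_mem χ hχ)), ?_⟩
  rw [Pi.sub_apply, cohSys_conj_one hS hχ, sub_self]

theorem cohSys_card_R (hS : IsCoherenceSystem S τ R) {χ : L → ℂ} (hχ : χ ∈ S) :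
    ((R χ).card : ℂ) = 2 * classInner χ χ := by
  classical
  have h1 : classInner (∑ a ∈ R χ, a) (∑ a ∈ R χ, a) = ((R χ).card : ℂ) := by
    rw [Cfsg.Agent.Helper75.classInner_sum_left]
    rw [Finset.sum_congr rfl (fun a ha => by
      rw [Cfsg.Agent.Helper75.classInner_sum_right,
        Finset.sum_eq_single_of_mem a ha (fun a' ha' hne => by
          rw [hS.orthonormal χ hχ a ha a' ha', if_neg (Ne.symm hne)]),
        hS.orthonormal χ hχ a ha a ha, if_pos rfl])]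
    simp
  have hχc : classInner χ (conjFun χ) = 0 :=
    hS.orthogonal χ hχ _ (hS.conj_mem χ hχ) (Ne.symm (hS.conj_ne χ hχ))
  have hχc' : classInner (conjFun χ) χ = 0 :=
    hS.orthogonal _ (hS.conj_mem χ hχ) χ hχ (hS.conj_ne χ hχ)
  rw [← hS.sum_eq χ hχ,
    hS.isometry.2.2.1 _ (cohSys_sub_conj_mem hS hχ) _ (cohSys_sub_conj_mem hS hχ),
    Cfsg.Agent.Helper75.classInner_sub_left, Cfsg.Agent.Helper75.classInner_sub_right,
    Cfsg.Agent.Helper75.classInner_sub_right, hχc, hχc', classInner_conjFun_self] at h1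
  rw [← h1]
  ring

/-- for a coherent extension `τ₁` on `S₁`, `τ₁ ξ` is a `0/1` combination of `R ξ`. -/
theorem coh_tau1_mem (hS : IsCoherenceSystem S τ R) (S₁ : Finset (L → ℂ))
    (hS₁ : (↑S₁ : Set (L → ℂ)) ⊆ S) (hS₁c : ∀ φ ∈ S₁, conjFun φ ∈ S₁)
    (τ₁ : (L → ℂ) → (G → ℂ)) (hτ₁ : IsLinearIsometryOn (zspan (↑S₁ : Set (L → ℂ))) τ₁)
    (hagree : ∀ α ∈ zspanOn (↑S₁ : Set (L → ℂ)) ({1}ᶜ : Set L), τ₁ α = τ α)
    {ξ : L → ℂ} (hξ : ξ ∈ S₁) :
    ∃ x : (G → ℂ) → ℤ, (∀ a ∈ R ξ, x a = 0 ∨ x a = 1) ∧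
      τ₁ ξ = ∑ a ∈ R ξ, (x a : ℂ) • a := by
  classical
  have hξS : ξ ∈ S := hS₁ (Finset.mem_coe.mpr hξ)
  have hξspan : ξ ∈ zspan (↑S₁ : Set (L → ℂ)) := Submodule.subset_span (Finset.mem_coe.mpr hξ)
  have hξcspan : conjFun ξ ∈ zspan (↑S₁ : Set (L → ℂ)) :=
    Submodule.subset_span (Finset.mem_coe.mpr (hS₁c ξ hξ))
  set t := τ₁ ξ with ht
  have htg : IsGeneralizedCharacter G t := hτ₁.2.2.2 ξ hξspan
  have hxe : ∀ a : G → ℂ, ∃ z : ℤ, a ∈ R ξ → classInner t a = z := by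
    intro a
    by_cases ha : a ∈ R ξ
    · obtain ⟨z, hz⟩ := genChar_inner_int htg (hS.virtual ξ hξS a ha)
      exact ⟨z, fun _ => hz⟩
    · exact ⟨0, fun h => absurd h ha⟩
  choose x hx using hxe
  have hA1 : ∀ a ∈ R ξ, classInner a a = 1 := fun a ha => by
    rw [hS.orthonormal ξ hξS a ha a ha, if_pos rfl]
  have hA0 : ∀ a ∈ R ξ, ∀ a' ∈ R ξ, a ≠ a' → classInner a a' = 0 := fun a ha a' ha' hne => by
    rw [hS.orthonormal ξ hξS a ha a' ha', if_neg hne]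
  have hsub : ξ - conjFun ξ ∈ zspanOn (↑S₁ : Set (L → ℂ)) ({1}ᶜ : Set L) := by
    rw [mem_zspanOn_iff]
    refine ⟨Submodule.sub_mem _ hξspan hξcspan, ?_⟩
    rw [Pi.sub_apply, cohSys_conj_one hS hξS, sub_self]
  have hsubspan : ξ - conjFun ξ ∈ zspan (↑S₁ : Set (L → ℂ)) := hsub.1
  have hξc : classInner ξ (conjFun ξ) = 0 :=
    hS.orthogonal ξ hξS _ (hS.conj_mem ξ hξS) (Ne.symm (hS.conj_ne ξ hξS))
  have hsumx : ∑ a ∈ R ξ, (x a : ℂ) = classInner ξ ξ := by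
    rw [← Finset.sum_congr rfl (fun a ha => hx a ha),
      ← Cfsg.Agent.Helper75.classInner_sum_right, ← hS.sum_eq ξ hξS, ← hagree _ hsub, ht,
      hτ₁.2.2.1 _ hξspan _ hsubspan, Cfsg.Agent.Helper75.classInner_sub_right, hξc, sub_zero]
  have hnorm : classInner t t = ∑ a ∈ R ξ, (x a : ℂ) - ∑ b ∈ (∅ : Finset (G → ℂ)), ((0 : ℤ) : ℂ) := by
    rw [hsumx, ht, hτ₁.2.2.1 _ hξspan _ hξspan]
    simp
  obtain ⟨r1, -, r3⟩ := norm_analysis t (R ξ) ∅ hA1 hA0 (by simp) (by simp) (by simp) x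
    (fun _ => 0) hx (by simp) hnorm
  refine ⟨x, r1, ?_⟩
  rw [r3]
  simp

theorem extend_coherent (hS : IsCoherenceSystem S τ R) (d n : (L → ℂ) → ℕ)
    (hd : ∀ φ ∈ S, φ 1 = (d φ : ℂ)) (hn : ∀ φ ∈ S, classInner φ φ = (n φ : ℂ))
    (S₁ : Finset (L → ℂ)) (hS₁ : (↑S₁ : Set (L → ℂ)) ⊆ S) (hS₁c : ∀ φ ∈ S₁, conjFun φ ∈ S₁)
    (hcoh : IsCoherent (↑S₁ : Set (L → ℂ)) ({1}ᶜ : Set L) τ) (χ : L → ℂ) (hχ : χ ∈ S)
    (hχ₁ : χ ∉ S₁) (hχ₂ : conjFun χ ∉ S₁) (φ : L → ℂ) (hφ : φ ∈ S₁) (hdvd : d φ ∣ d χ)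
    (hineq : (2 * d χ * d φ : ℝ) < ∑ ξ ∈ S₁, ((d ξ : ℝ) ^ 2 / (n ξ : ℝ))) :
    IsCoherent (↑S₁ ∪ {χ, conjFun χ} : Set (L → ℂ)) ({1}ᶜ : Set L) τ := by
  classical
  obtain ⟨-, τ₁, hτ₁, hagree⟩ := hcoh
  obtain ⟨a, ha⟩ := hdvd
  have hφS : φ ∈ S := hS₁ (Finset.mem_coe.mpr hφ)
  have hχcS : conjFun χ ∈ S := hS.conj_mem χ hχ
  have hS₁S : ∀ ξ ∈ S₁, ξ ∈ S := fun ξ hξ => hS₁ (Finset.mem_coe.mpr hξ)
  have hnne : ∀ ξ ∈ S, (n ξ : ℂ) ≠ 0 := fun ξ hξ => by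
    rw [← hn ξ hξ]
    exact cohSys_norm_ne hS hξ
  have hdne : ∀ ξ ∈ S, (d ξ : ℂ) ≠ 0 := by
    intro ξ hξ h
    apply cohSys_norm_ne hS hξ
    obtain ⟨m, ρ, hρ⟩ := hS.isCharacter ξ hξ
    have h1 := hd ξ hξ
    rw [h, ← hρ, Representation.char_one, Module.finrank_fin_fun] at h1
    have hm : m = 0 := by exact_mod_cast h1
    subst hm
    have h0 : ξ = 0 := by
      rw [← hρ]
      funext g
      show LinearMap.trace ℂ _ (ρ g) = 0
      have : ρ g = 0 := LinearMap.ext (fun w => Subsingleton.elim _ _)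
      rw [this, map_zero]
    rw [h0, Cfsg.Agent.Helper75.classInner_zero_left]
  have hdφ0 : (d φ : ℂ) ≠ 0 := hdne φ hφS
  have hspan₁ : ∀ ξ ∈ S₁, ξ ∈ zspan (↑S₁ : Set (L → ℂ)) := fun ξ hξ =>
    Submodule.subset_span (Finset.mem_coe.mpr hξ)
  have hmono : ∀ α, α ∈ zspanOn (↑S₁ : Set (L → ℂ)) ({1}ᶜ : Set L) →
      α ∈ zspanOn S ({1}ᶜ : Set L) := fun α hα => ⟨Submodule.span_mono hS₁ hα.1, hα.2⟩
  -- orthogonality of χ, conj χ to S₁
  have hne1 : ∀ ξ ∈ S₁, ξ ≠ χ := fun ξ hξ h => hχ₁ (h ▸ hξ)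
  have hne2 : ∀ ξ ∈ S₁, ξ ≠ conjFun χ := fun ξ hξ h => hχ₂ (h ▸ hξ)
  have hχξ : ∀ ξ ∈ S₁, classInner χ ξ = 0 := fun ξ hξ =>
    hS.orthogonal χ hχ ξ (hS₁S ξ hξ) (Ne.symm (hne1 ξ hξ))
  have hξχ : ∀ ξ ∈ S₁, classInner ξ χ = 0 := fun ξ hξ =>
    hS.orthogonal ξ (hS₁S ξ hξ) χ hχ (hne1 ξ hξ)
  have hξχc : ∀ ξ ∈ S₁, classInner ξ (conjFun χ) = 0 := fun ξ hξ =>
    hS.orthogonal ξ (hS₁S ξ hξ) _ hχcS (hne2 ξ hξ)
  have hχcξ : ∀ ξ ∈ S₁, classInner (conjFun χ) ξ = 0 := fun ξ hξ =>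
    hS.orthogonal _ hχcS ξ (hS₁S ξ hξ) (Ne.symm (hne2 ξ hξ))
  have hχχc : classInner χ (conjFun χ) = 0 :=
    hS.orthogonal χ hχ _ hχcS (Ne.symm (hS.conj_ne χ hχ))
  have hχcχ : classInner (conjFun χ) χ = 0 :=
    hS.orthogonal _ hχcS χ hχ (hS.conj_ne χ hχ)
  -- ψ and X
  set ψ : L → ℂ := χ - (a : ℤ) • φ with hψ
  have hψ1 : ψ 1 = 0 := by
    rw [hψ, Pi.sub_apply, Pi.smul_apply, hd χ hχ, hd φ hφS, ha, zsmul_eq_mul]
    push_cast
    ring
  have hψE : ψ ∈ zspanOn S ({1}ᶜ : Set L) := by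
    rw [mem_zspanOn_iff]
    exact ⟨Submodule.sub_mem _ (Submodule.subset_span hχ)
      (Submodule.smul_mem _ _ (Submodule.subset_span hφS)), hψ1⟩
  have hψcoe : ψ = χ - (a : ℂ) • φ := by
    rw [hψ, zsmul_eq_smul_cast]
    simp
  set SR : G → ℂ := ∑ a' ∈ R χ, a' with hSR
  have hSReq : τ (χ - conjFun χ) = SR := hS.sum_eq χ hχ
  have hφspan := hspan₁ φ hφ
  set X : G → ℂ := τ ψ + (a : ℤ) • τ₁ φ with hX
  have hXcoe : X = τ ψ + (a : ℂ) • τ₁ φ := by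
    rw [hX, zsmul_eq_smul_cast]
    simp
  have hXgen : IsGeneralizedCharacter G X := by
    apply Cfsg.Agent.Helper3.isGeneralizedCharacter_add (hS.isometry.2.2.2 ψ hψE)
    rw [Cfsg.Agent.Helper73.isGeneralizedCharacter_iff_mem_genSpanZ]
    exact Submodule.smul_mem _ _
      (Cfsg.Agent.Helper73.isGeneralizedCharacter_iff_mem_genSpanZ.mp (hτ₁.2.2.2 φ hφspan))
  -- τ₁ ξ is orthogonal to R χ
  have hRτ : ∀ ξ ∈ S₁, ∀ c : (G → ℂ) → ℂ, classInner (∑ a' ∈ R χ, c a' • a') (τ₁ ξ) = 0 := by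
    intro ξ hξ c
    obtain ⟨xξ, -, hdec⟩ := coh_tau1_mem hS S₁ hS₁ hS₁c τ₁ hτ₁ hagree hξ
    rw [hdec]
    exact classInner_comb_orth _ _ _ _ (cohSys_orth_R hS hχ (hS₁S ξ hξ) (hne1 ξ hξ) (hne2 ξ hξ))
  have hSRτ : ∀ ξ ∈ S₁, classInner SR (τ₁ ξ) = 0 := by
    intro ξ hξ
    have h := hRτ ξ hξ (fun _ => 1)
    simpa using h
  have hτSR : ∀ ξ ∈ S₁, classInner (τ₁ ξ) SR = 0 := by
    intro ξ hξ
    rw [Cfsg.Agent.Helper75.classInner_conj_symm SR (τ₁ ξ), hSRτ ξ hξ, map_zero]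
  -- ⟨X, SR⟩ = n χ
  have hτψSR : classInner (τ ψ) SR = (n χ : ℂ) := by
    rw [← hSReq, hS.isometry.2.2.1 _ hψE _ (cohSys_sub_conj_mem hS hχ), hψcoe,
      Cfsg.Agent.Helper75.classInner_sub_left, Cfsg.Agent.Helper75.classInner_sub_right,
      Cfsg.Agent.Helper75.classInner_smul_left, Cfsg.Agent.Helper75.classInner_sub_right,
      hχχc, hξχ φ hφ, hξχc φ hφ, hn χ hχ]
    ring
  have hXSR : classInner X SR = (n χ : ℂ) := by
    rw [hXcoe, Cfsg.Agent.Helper75.classInner_add_left, Cfsg.Agent.Helper75.classInner_smul_left,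
      hτψSR, hτSR φ hφ]
    ring
  -- u
  obtain ⟨u, hu⟩ := genChar_inner_int hXgen (hτ₁.2.2.2 φ hφspan)
  have hXξ : ∀ ξ ∈ S₁, (d φ : ℂ) * classInner X (τ₁ ξ) = (d ξ : ℂ) * u := by
    intro ξ hξ
    set η : L → ℂ := (d φ : ℤ) • ξ + (-(d ξ : ℤ)) • φ with hη
    have hηspan : η ∈ zspan (↑S₁ : Set (L → ℂ)) :=
      Submodule.add_mem _ (Submodule.smul_mem _ _ (hspan₁ ξ hξ))
        (Submodule.smul_mem _ _ hφspan)
    have hη1 : η 1 = 0 := by
      rw [hη, Pi.add_apply, Pi.smul_apply, Pi.smul_apply, hd ξ (hS₁S ξ hξ), hd φ hφS,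
        zsmul_eq_mul, zsmul_eq_mul]
      push_cast
      ring
    have hηE₁ : η ∈ zspanOn (↑S₁ : Set (L → ℂ)) ({1}ᶜ : Set L) :=
      (mem_zspanOn_iff _ _).mpr ⟨hηspan, hη1⟩
    have hηcoe : η = (d φ : ℂ) • ξ + (-(d ξ : ℂ)) • φ := by
      rw [hη, zsmul_eq_smul_cast, zsmul_eq_smul_cast]
      simp
    have hτη : τ₁ η = (d φ : ℂ) • τ₁ ξ + (-(d ξ : ℂ)) • τ₁ φ := by
      rw [hη, hτ₁.1 _ (Submodule.smul_mem _ _ (hspan₁ ξ hξ)) _ (Submodule.smul_mem _ _ hφspan),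
        hτ₁.2.1 _ (hspan₁ ξ hξ), hτ₁.2.1 _ hφspan, zsmul_eq_smul_cast, zsmul_eq_smul_cast]
      simp
    have h1 : classInner X (τ₁ η) = 0 := by
      rw [hXcoe, Cfsg.Agent.Helper75.classInner_add_left,
        Cfsg.Agent.Helper75.classInner_smul_left]
      have e1 : classInner (τ ψ) (τ₁ η) = classInner ψ η := by
        rw [hagree η hηE₁]
        exact hS.isometry.2.2.1 _ hψE _ (hmono η hηE₁)
      have e2 : classInner (τ₁ φ) (τ₁ η) = classInner φ η := hτ₁.2.2.1 _ hφspan _ hηspan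
      rw [e1, e2, hψcoe, Cfsg.Agent.Helper75.classInner_sub_left,
        Cfsg.Agent.Helper75.classInner_smul_left]
      have e3 : classInner χ η = 0 := by
        rw [hηcoe, Cfsg.Agent.Helper75.classInner_add_right,
          Cfsg.Agent.Helper75.classInner_smul_right, Cfsg.Agent.Helper75.classInner_smul_right,
          hχξ ξ hξ, hχξ φ hφ]
        ring
      rw [e3]
      ring
    rw [hτη, Cfsg.Agent.Helper75.classInner_add_right, Cfsg.Agent.Helper75.classInner_smul_right,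
      Cfsg.Agent.Helper75.classInner_smul_right, hu] at h1
    simp only [map_neg, map_natCast] at h1
    linear_combination h1
  -- ⟨X, X⟩
  have hτψτφ : classInner (τ ψ) (τ₁ φ) = (u : ℂ) - (a : ℂ) * (n φ : ℂ) := by
    have h1 := hu
    rw [hXcoe, Cfsg.Agent.Helper75.classInner_add_left, Cfsg.Agent.Helper75.classInner_smul_left,
      hτ₁.2.2.1 _ hφspan _ hφspan, hn φ hφS] at h1
    linear_combination h1
  have hψψ : classInner ψ ψ = (n χ : ℂ) + (a : ℂ) ^ 2 * (n φ : ℂ) := by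
    rw [hψcoe, Cfsg.Agent.Helper75.classInner_sub_left, Cfsg.Agent.Helper75.classInner_sub_right,
      Cfsg.Agent.Helper75.classInner_sub_right, Cfsg.Agent.Helper75.classInner_smul_left,
      Cfsg.Agent.Helper75.classInner_smul_left, Cfsg.Agent.Helper75.classInner_smul_right,
      Cfsg.Agent.Helper75.classInner_smul_right, hχξ φ hφ, hξχ φ hφ, hn χ hχ, hn φ hφS]
    simp only [map_natCast]
    ring
  have hXX : classInner X X = (n χ : ℂ) + 2 * (a : ℂ) * (u : ℂ) := by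
    have e1 : classInner X (τ ψ) = (n χ : ℂ) + (a : ℂ) * (u : ℂ) := by
      rw [hXcoe, Cfsg.Agent.Helper75.classInner_add_left,
        Cfsg.Agent.Helper75.classInner_smul_left, hS.isometry.2.2.1 _ hψE _ hψE, hψψ,
        Cfsg.Agent.Helper75.classInner_conj_symm (τ ψ) (τ₁ φ), hτψτφ]
      simp only [map_sub, map_mul, map_natCast, map_intCast]
      ring
    conv_lhs => rw [hXcoe]
    rw [Cfsg.Agent.Helper75.classInner_add_right, Cfsg.Agent.Helper75.classInner_smul_right,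
      ← hXcoe, e1, hu]
    simp only [map_natCast]
    ring
  -- the integers x
  have hxe : ∀ a' : G → ℂ, ∃ z : ℤ, a' ∈ R χ → classInner X a' = z := by
    intro a'
    by_cases ha' : a' ∈ R χ
    · obtain ⟨z, hz⟩ := genChar_inner_int hXgen (hS.virtual χ hχ a' ha')
      exact ⟨z, fun _ => hz⟩
    · exact ⟨0, fun h => absurd h ha'⟩
  choose x hx using hxe
  have hxsum : ∑ a' ∈ R χ, x a' = (n χ : ℤ) := by
    have h1 : ((∑ a' ∈ R χ, x a' : ℤ) : ℂ) = ((n χ : ℤ) : ℂ) := by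
      push_cast
      rw [← hXSR, hSR, Cfsg.Agent.Helper75.classInner_sum_right]
      exact Finset.sum_congr rfl (fun a' ha' => (hx a' ha').symm)
    exact_mod_cast h1
  set P₁ : G → ℂ := ∑ a' ∈ R χ, (x a' : ℂ) • a' with hP₁
  set Q : ℂ := ∑ a' ∈ R χ, (x a' : ℂ) ^ 2 with hQ
  have hXP : classInner X P₁ = Q := by
    rw [hP₁, Cfsg.Agent.Helper75.classInner_sum_right]
    apply Finset.sum_congr rfl
    intro a' ha'
    rw [Cfsg.Agent.Helper75.classInner_smul_right, hx a' ha', map_intCast]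
    ring
  have hQconj : (starRingEnd ℂ) Q = Q := by
    rw [hQ, map_sum]
    apply Finset.sum_congr rfl
    intro a' _
    rw [map_pow, map_intCast]
  have hPX : classInner P₁ X = Q := by
    rw [Cfsg.Agent.Helper75.classInner_conj_symm X P₁, hXP, hQconj]
  have hPP : classInner P₁ P₁ = Q := by
    conv_lhs => rw [hP₁]
    rw [Cfsg.Agent.Helper75.classInner_sum_left]
    apply Finset.sum_congr rfl
    intro a' ha'
    rw [Cfsg.Agent.Helper75.classInner_smul_left, Cfsg.Agent.Helper75.classInner_sum_right,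
      Finset.sum_eq_single_of_mem a' ha' (fun b hb hne => by
        rw [Cfsg.Agent.Helper75.classInner_smul_right, hS.orthonormal χ hχ a' ha' b hb,
          if_neg (Ne.symm hne), mul_zero]),
      Cfsg.Agent.Helper75.classInner_smul_right, hS.orthonormal χ hχ a' ha' a' ha', if_pos rfl,
      map_intCast]
    ring
  -- W
  set W : G → ℂ := ∑ ξ ∈ S₁, ((d ξ : ℂ) / (n ξ : ℂ)) • τ₁ ξ with hW
  set DC : ℂ := ∑ ξ ∈ S₁, (d ξ : ℂ) ^ 2 / (n ξ : ℂ) with hDC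
  set c : ℂ := (u : ℂ) / (d φ : ℂ) with hc
  have hcconj : (starRingEnd ℂ) c = c := by
    rw [hc, map_div₀, map_intCast, map_natCast]
  have hDCconj : (starRingEnd ℂ) DC = DC := by
    rw [hDC, map_sum]
    apply Finset.sum_congr rfl
    intro ξ _
    rw [map_div₀, map_pow, map_natCast, map_natCast]
  have hXW : classInner X W = c * DC := by
    rw [hW, Cfsg.Agent.Helper75.classInner_sum_right, hDC, Finset.mul_sum]
    apply Finset.sum_congr rfl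
    intro ξ hξ
    rw [Cfsg.Agent.Helper75.classInner_smul_right, map_div₀, map_natCast, map_natCast]
    have h1 := hXξ ξ hξ
    have h2 : classInner X (τ₁ ξ) = (d ξ : ℂ) * u / (d φ : ℂ) := by
      rw [eq_div_iff hdφ0, mul_comm]
      exact h1
    rw [h2, hc]
    field_simp
  have hWX : classInner W X = c * DC := by
    rw [Cfsg.Agent.Helper75.classInner_conj_symm X W, hXW, map_mul, hcconj, hDCconj]
  have hWW : classInner W W = DC := by
    conv_lhs => rw [hW]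
    rw [Cfsg.Agent.Helper75.classInner_sum_left, hDC]
    apply Finset.sum_congr rfl
    intro ξ hξ
    rw [Cfsg.Agent.Helper75.classInner_smul_left, Cfsg.Agent.Helper75.classInner_sum_right,
      Finset.sum_eq_single_of_mem ξ hξ (fun ξ' hξ' hne => by
        rw [Cfsg.Agent.Helper75.classInner_smul_right,
          hτ₁.2.2.1 _ (hspan₁ ξ hξ) _ (hspan₁ ξ' hξ'),
          hS.orthogonal ξ (hS₁S ξ hξ) ξ' (hS₁S ξ' hξ') (Ne.symm hne), mul_zero]),
      Cfsg.Agent.Helper75.classInner_smul_right, hτ₁.2.2.1 _ (hspan₁ ξ hξ) _ (hspan₁ ξ hξ),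
      hn ξ (hS₁S ξ hξ), map_div₀, map_natCast, map_natCast]
    have := hnne ξ (hS₁S ξ hξ)
    field_simp
  have hPW : classInner P₁ W = 0 := by
    rw [hW, Cfsg.Agent.Helper75.classInner_sum_right]
    apply Finset.sum_eq_zero
    intro ξ hξ
    rw [Cfsg.Agent.Helper75.classInner_smul_right, hP₁, hRτ ξ hξ, mul_zero]
  have hWP : classInner W P₁ = 0 := by
    rw [Cfsg.Agent.Helper75.classInner_conj_symm P₁ W, hPW, map_zero]
  -- the inequality
  have hYY : classInner (X - P₁ - c • W) (X - P₁ - c • W) =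
      (n χ : ℂ) + 2 * (a : ℂ) * (u : ℂ) - Q - c ^ 2 * DC := by
    rw [Cfsg.Agent.Helper75.classInner_sub_left, Cfsg.Agent.Helper75.classInner_sub_left,
      Cfsg.Agent.Helper75.classInner_smul_left,
      Cfsg.Agent.Helper75.classInner_sub_right, Cfsg.Agent.Helper75.classInner_sub_right,
      Cfsg.Agent.Helper75.classInner_sub_right, Cfsg.Agent.Helper75.classInner_sub_right,
      Cfsg.Agent.Helper75.classInner_sub_right, Cfsg.Agent.Helper75.classInner_sub_right,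
      Cfsg.Agent.Helper75.classInner_smul_right, Cfsg.Agent.Helper75.classInner_smul_right,
      Cfsg.Agent.Helper75.classInner_smul_right, hXX, hXP, hPX, hPP, hXW, hWX, hWW, hPW, hWP,
      hcconj]
    ring
  set D : ℝ := ∑ ξ ∈ S₁, ((d ξ : ℝ) ^ 2 / (n ξ : ℝ)) with hD
  set Qz : ℤ := ∑ a' ∈ R χ, (x a') ^ 2 with hQz
  have hreal : (0 : ℝ) ≤ (n χ : ℝ) + 2 * (a : ℝ) * (u : ℝ) - (Qz : ℝ) -
      ((u : ℝ) / (d φ : ℝ)) ^ 2 * D := by
    have h1 := classInner_self_eq (X - P₁ - c • W)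
    rw [hYY] at h1
    have h2 : (((n χ : ℝ) + 2 * (a : ℝ) * (u : ℝ) - (Qz : ℝ) -
        ((u : ℝ) / (d φ : ℝ)) ^ 2 * D : ℝ) : ℂ) =
        (((Nat.card G : ℝ)⁻¹ * ∑ g, ‖(X - P₁ - c • W) g‖ ^ 2 : ℝ) : ℂ) := by
      rw [← h1, hQ, hc, hDC, hD, hQz]
      push_cast
      ring
    have h3 := Complex.ofReal_injective h2
    rw [h3]
    exact mul_nonneg (inv_nonneg.mpr (Nat.cast_nonneg _))
      (Finset.sum_nonneg (fun g _ => sq_nonneg _))
  have hQge : (n χ : ℤ) ≤ Qz := by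
    rw [← hxsum, hQz]
    exact Finset.sum_le_sum (fun a' _ => Int.le_self_sq (x a'))
  have hdφpos : (0 : ℝ) < (d φ : ℝ) := by
    have : d φ ≠ 0 := by
      intro h
      apply hdφ0
      rw [h]
      simp
    exact_mod_cast Nat.pos_of_ne_zero this
  have hu0 : u = 0 := by
    by_contra hne
    have hQge' : (n χ : ℝ) ≤ (Qz : ℝ) := by exact_mod_cast hQge
    have h1 : ((u : ℝ) / (d φ : ℝ)) ^ 2 * D ≤ 2 * (a : ℝ) * (u : ℝ) := by linarith
    have h2 : (u : ℝ) ^ 2 * D ≤ 2 * (a : ℝ) * (u : ℝ) * (d φ : ℝ) ^ 2 := by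
      rw [div_pow, div_mul_eq_mul_div, div_le_iff₀ (by positivity)] at h1
      exact h1
    have h3 : (d χ : ℝ) = (d φ : ℝ) * (a : ℝ) := by rw [ha]; push_cast; ring
    rw [h3] at hineq
    have hD0 : 0 < D := lt_of_le_of_lt (by positivity) hineq
    have ha0 : (0 : ℝ) ≤ (a : ℝ) := Nat.cast_nonneg _
    rcases lt_or_gt_of_ne hne with h | h
    · have hu' : (u : ℝ) ≤ -1 := by exact_mod_cast Int.le_sub_one_of_lt h
      have h4 : 0 < (u : ℝ) ^ 2 * D := by positivity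
      have h5 : 2 * (a : ℝ) * (u : ℝ) * (d φ : ℝ) ^ 2 ≤ 0 := by
        have : 0 ≤ 2 * (a : ℝ) * (d φ : ℝ) ^ 2 := by positivity
        nlinarith
      linarith
    · have hu' : (1 : ℝ) ≤ (u : ℝ) := by exact_mod_cast Int.add_one_le_of_lt h
      have h4 : (u : ℝ) * D ≤ 2 * (a : ℝ) * (d φ : ℝ) ^ 2 := by
        have h5 : (u : ℝ) * ((u : ℝ) * D) ≤ (u : ℝ) * (2 * (a : ℝ) * (d φ : ℝ) ^ 2) := by
          nlinarith
        exact le_of_mul_le_mul_left h5 (by linarith)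
      have h6 : D ≤ (u : ℝ) * D := by nlinarith
      nlinarith
  -- consequences of u = 0
  have hXX' : classInner X X = (n χ : ℂ) := by
    rw [hXX, hu0]
    simp
  have hXτ : ∀ ξ ∈ S₁, classInner X (τ₁ ξ) = 0 := by
    intro ξ hξ
    have h1 := hXξ ξ hξ
    rw [hu0] at h1
    simp only [Int.cast_zero, mul_zero] at h1
    exact (mul_eq_zero.mp h1).resolve_left hdφ0
  have hτX : ∀ ξ ∈ S₁, classInner (τ₁ ξ) X = 0 := by
    intro ξ hξ
    rw [Cfsg.Agent.Helper75.classInner_conj_symm X (τ₁ ξ), hXτ ξ hξ, map_zero]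
  have hSRX : classInner SR X = (n χ : ℂ) := by
    rw [Cfsg.Agent.Helper75.classInner_conj_symm X SR, hXSR, map_natCast]
  have hSRSR : classInner SR SR = 2 * (n χ : ℂ) := by
    have h1 := cohSys_card_R hS hχ
    rw [hn χ hχ] at h1
    rw [← h1, hSR, Cfsg.Agent.Helper75.classInner_sum_left]
    rw [Finset.sum_congr rfl (fun a' ha' => by
      rw [Cfsg.Agent.Helper75.classInner_sum_right,
        Finset.sum_eq_single_of_mem a' ha' (fun b hb hne => by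
          rw [hS.orthonormal χ hχ a' ha' b hb, if_neg (Ne.symm hne)]),
        hS.orthonormal χ hχ a' ha' a' ha', if_pos rfl])]
    simp
  -- the new family
  set v : (L → ℂ) → (G → ℂ) := fun ξ =>
    if ξ = χ then X else if ξ = conjFun χ then X - SR else τ₁ ξ with hv
  have hvχ : v χ = X := if_pos rfl
  have hvχc : v (conjFun χ) = X - SR := by
    show (if conjFun χ = χ then X else if conjFun χ = conjFun χ then X - SR else τ₁ (conjFun χ)) = _
    rw [if_neg (hS.conj_ne χ hχ), if_pos rfl]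
  have hvξ : ∀ ξ ∈ S₁, v ξ = τ₁ ξ := by
    intro ξ hξ
    show (if ξ = χ then X else if ξ = conjFun χ then X - SR else τ₁ ξ) = _
    rw [if_neg (hne1 ξ hξ), if_neg (hne2 ξ hξ)]
  set Sf : Finset (L → ℂ) := S₁ ∪ {χ, conjFun χ} with hSf
  have hcoe : (↑Sf : Set (L → ℂ)) = ↑S₁ ∪ {χ, conjFun χ} := by
    rw [hSf]
    push_cast
    rfl
  have hmemSf : ∀ ξ, ξ ∈ Sf ↔ ξ ∈ S₁ ∨ ξ = χ ∨ ξ = conjFun χ := by
    intro ξ
    rw [hSf, Finset.mem_union, Finset.mem_insert, Finset.mem_singleton]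
  have hSfS : ∀ ξ ∈ Sf, ξ ∈ S := by
    intro ξ hξ
    rcases (hmemSf ξ).mp hξ with h | h | h
    · exact hS₁S ξ h
    · rw [h]; exact hχ
    · rw [h]; exact hχcS
  have horth : ∀ ξ ∈ Sf, ∀ ξ' ∈ Sf, ξ ≠ ξ' → classInner ξ ξ' = 0 := fun ξ hξ ξ' hξ' h =>
    hS.orthogonal ξ (hSfS ξ hξ) ξ' (hSfS ξ' hξ') h
  have hne : ∀ ξ ∈ Sf, classInner ξ ξ ≠ 0 := fun ξ hξ => cohSys_norm_ne hS (hSfS ξ hξ)
  have hv1 : ∀ ξ ∈ Sf, IsGeneralizedCharacter G (v ξ) := by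
    intro ξ hξ
    rcases (hmemSf ξ).mp hξ with h | h | h
    · rw [hvξ ξ h]
      exact hτ₁.2.2.2 ξ (hspan₁ ξ h)
    · rw [h, hvχ]
      exact hXgen
    · rw [h, hvχc, sub_eq_add_neg]
      apply Cfsg.Agent.Helper3.isGeneralizedCharacter_add hXgen
      apply Cfsg.Agent.Helper3.isGeneralizedCharacter_neg
      rw [← hSReq]
      exact hS.isometry.2.2.2 _ (cohSys_sub_conj_mem hS hχ)
  have hv2 : ∀ ξ ∈ Sf, ∀ ξ' ∈ Sf, classInner (v ξ) (v ξ') = classInner ξ ξ' := by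
    intro ξ hξ ξ' hξ'
    rcases (hmemSf ξ).mp hξ with h | h | h <;> rcases (hmemSf ξ').mp hξ' with h' | h' | h'
    · rw [hvξ ξ h, hvξ ξ' h']
      exact hτ₁.2.2.1 _ (hspan₁ ξ h) _ (hspan₁ ξ' h')
    · rw [hvξ ξ h, h', hvχ, hτX ξ h, hξχ ξ h]
    · rw [hvξ ξ h, h', hvχc, Cfsg.Agent.Helper75.classInner_sub_right, hτX ξ h, hτSR ξ h,
        hξχc ξ h, sub_zero]
    · rw [h, hvχ, hvξ ξ' h', hXτ ξ' h', hχξ ξ' h']
    · rw [h, h', hvχ, hXX', hn χ hχ]
    · rw [h, h', hvχ, hvχc, Cfsg.Agent.Helper75.classInner_sub_right, hXX', hXSR, hχχc, sub_self]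
    · rw [h, hvχc, hvξ ξ' h', Cfsg.Agent.Helper75.classInner_sub_left, hXτ ξ' h', hSRτ ξ' h',
        hχcξ ξ' h', sub_zero]
    · rw [h, h', hvχc, hvχ, Cfsg.Agent.Helper75.classInner_sub_left, hXX', hSRX, hχcχ, sub_self]
    · rw [h, h', hvχc, Cfsg.Agent.Helper75.classInner_sub_left,
        Cfsg.Agent.Helper75.classInner_sub_right, Cfsg.Agent.Helper75.classInner_sub_right,
        hXX', hXSR, hSRX, hSRSR, classInner_conjFun_self, hn χ hχ]
      ring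
  -- ψc
  set ψc : L → ℂ := conjFun χ - (a : ℤ) • φ with hψc
  have hψc1 : ψc 1 = 0 := by
    rw [hψc, Pi.sub_apply, Pi.smul_apply, cohSys_conj_one hS hχ, hd χ hχ, hd φ hφS, ha,
      zsmul_eq_mul]
    push_cast
    ring
  have hψcE : ψc ∈ zspanOn S ({1}ᶜ : Set L) := by
    rw [mem_zspanOn_iff]
    exact ⟨Submodule.sub_mem _ (Submodule.subset_span hχcS)
      (Submodule.smul_mem _ _ (Submodule.subset_span hφS)), hψc1⟩
  have hτψc : τ ψc = τ ψ - SR := by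
    have h1 : ψ = ψc + (χ - conjFun χ) := by
      rw [hψ, hψc]
      abel
    rw [h1, hS.isometry.1 _ hψcE _ (cohSys_sub_conj_mem hS hχ), hSReq]
    abel
  have hχSf : χ ∈ Sf := (hmemSf χ).mpr (Or.inr (Or.inl rfl))
  have hχcSf : conjFun χ ∈ Sf := (hmemSf _).mpr (Or.inr (Or.inr rfl))
  have hφSf : φ ∈ Sf := (hmemSf φ).mpr (Or.inl hφ)
  have hextψ : extendLin Sf v ψ = τ ψ := by
    have e : extendLin Sf v (χ - (a : ℤ) • φ) = X - (a : ℤ) • τ₁ φ := by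
      rw [sub_eq_add_neg, extendLin_add, ← neg_smul, extendLin_zsmul,
        extendLin_apply_mem Sf horth hne v hχSf, extendLin_apply_mem Sf horth hne v hφSf, hvχ,
        hvξ φ hφ, neg_smul, ← sub_eq_add_neg]
    refine e.trans ?_
    rw [hX]
    abel
  have hextψc : extendLin Sf v ψc = τ ψc := by
    have e : extendLin Sf v (conjFun χ - (a : ℤ) • φ) = X - SR - (a : ℤ) • τ₁ φ := by
      rw [sub_eq_add_neg, extendLin_add, ← neg_smul, extendLin_zsmul,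
        extendLin_apply_mem Sf horth hne v hχcSf, extendLin_apply_mem Sf horth hne v hφSf, hvχc,
        hvξ φ hφ, neg_smul, ← sub_eq_add_neg]
    refine e.trans ?_
    rw [hτψc, hX]
    abel
  have horth₁ : ∀ ξ ∈ S₁, ∀ ξ' ∈ S₁, ξ ≠ ξ' → classInner ξ ξ' = 0 := fun ξ hξ ξ' hξ' h =>
    hS.orthogonal ξ (hS₁S ξ hξ) ξ' (hS₁S ξ' hξ') h
  have hne₁ : ∀ ξ ∈ S₁, classInner ξ ξ ≠ 0 := fun ξ hξ => cohSys_norm_ne hS (hS₁S ξ hξ)
  have hextβ : ∀ β ∈ Submodule.span ℤ (↑S₁ : Set (L → ℂ)), extendLin Sf v β = τ₁ β := by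
    intro β hβ
    obtain ⟨hdec, hint⟩ := span_decomp S₁ horth₁ hne₁ hβ
    have hint' : ∀ ξ : L → ℂ, ∃ z : ℤ, ξ ∈ S₁ → coeff β ξ = z := by
      intro ξ
      by_cases h : ξ ∈ S₁
      · obtain ⟨z, hz⟩ := hint ξ h
        exact ⟨z, fun _ => hz⟩
      · exact ⟨0, fun h' => absurd h' h⟩
    choose y hy using hint'
    have hβ2 : β = ∑ ξ ∈ S₁, y ξ • ξ := by
      conv_lhs => rw [hdec]
      apply Finset.sum_congr rfl
      intro ξ hξ
      rw [hy ξ hξ, zsmul_eq_smul_cast]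
    rw [hβ2, map_sum_zsmul (extendLin Sf v) (extendLin_add Sf v)
      (fun m b => extendLin_zsmul Sf v m b),
      (isLinearIsometryOn_sum hτ₁ (Submodule.zero_mem _)
        (fun p hp q hq => Submodule.add_mem _ hp hq)
        (fun p hp m => Submodule.smul_mem _ m hp) S₁ y (fun ξ => ξ) hspan₁).2]
    apply Finset.sum_congr rfl
    intro ξ hξ
    rw [extendLin_apply_mem Sf horth hne v ((hmemSf ξ).mpr (Or.inl hξ)), hvξ ξ hξ]
  rw [← hcoe]
  refine ⟨⟨χ - conjFun χ, ?_, sub_ne_zero.mpr (Ne.symm (hS.conj_ne χ hχ))⟩, extendLin Sf v,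
    extendLin_isLinearIsometryOn Sf horth hne v hv1 hv2, ?_⟩
  · rw [mem_zspanOn_iff]
    refine ⟨Submodule.sub_mem _ (Submodule.subset_span (Finset.mem_coe.mpr hχSf))
      (Submodule.subset_span (Finset.mem_coe.mpr hχcSf)), ?_⟩
    rw [Pi.sub_apply, cohSys_conj_one hS hχ, sub_self]
  · intro α hα
    rw [mem_zspanOn_iff] at hα
    obtain ⟨hαspan, hα1⟩ := hα
    rw [hcoe, Submodule.span_union, Submodule.mem_sup] at hαspan
    obtain ⟨β₀, hβ₀, w, hw, hαeq⟩ := hαspan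
    obtain ⟨zχ, zc, hw2⟩ := Submodule.mem_span_pair.mp hw
    set β : L → ℂ := β₀ + zχ • ((a : ℤ) • φ) + zc • ((a : ℤ) • φ) with hβ
    have hβspan : β ∈ Submodule.span ℤ (↑S₁ : Set (L → ℂ)) :=
      Submodule.add_mem _ (Submodule.add_mem _ hβ₀
        (Submodule.smul_mem _ _ (Submodule.smul_mem _ _ hφspan)))
        (Submodule.smul_mem _ _ (Submodule.smul_mem _ _ hφspan))
    have hαβ : α = β + zχ • ψ + zc • ψc := by
      rw [← hαeq, ← hw2, hβ, hψ, hψc, smul_sub, smul_sub]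
      abel
    have hβ1 : β 1 = 0 := by
      have h1 : α 1 = β 1 + zχ • ψ 1 + zc • ψc 1 := by
        conv_lhs => rw [hαβ]
        simp only [Pi.add_apply, Pi.smul_apply]
      rw [hα1, hψ1, hψc1] at h1
      simp only [smul_zero, add_zero] at h1
      exact h1.symm
    have hβE₁ : β ∈ zspanOn (↑S₁ : Set (L → ℂ)) ({1}ᶜ : Set L) :=
      (mem_zspanOn_iff _ _).mpr ⟨hβspan, hβ1⟩
    have hβE : β ∈ zspanOn S ({1}ᶜ : Set L) := hmono β hβE₁
    have h1 : zχ • ψ ∈ zspanOn S ({1}ᶜ : Set L) := zspanOn_zsmul S hψE zχ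
    have h2 : zc • ψc ∈ zspanOn S ({1}ᶜ : Set L) := zspanOn_zsmul S hψcE zc
    rw [hαβ, extendLin_add, extendLin_add, extendLin_zsmul, extendLin_zsmul, hextψ, hextψc,
      hextβ β hβspan, hagree β hβE₁,
      hS.isometry.1 _ (zspanOn_add S hβE h1) _ h2, hS.isometry.1 _ hβE _ h1,
      hS.isometry.2.1 _ hψE, hS.isometry.2.1 _ hψcE]

end Extend

end Cfsg.Agent.Helper25
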