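import Mathlib
import Cfsg.Agent.Helper25.Coh4
import Cfsg.Agent.Helper80.CharKer
import Cfsg.Agent.Helper79.Linear
import Cfsg.Agent.Helper4.IndNormal
import Cfsg.Agent.Helper3.Taketa
import Cfsg.Agent.Helper3.Induced

/-!
# Coherence for sets of induced characters (helper25)

Tools for Peterfalvi (6.2): monotonicity of coherence, the sets `inducedIrrAbove K A`,
existence of nonprincipal linear characters of solvable groups, and the lower bound
`∑_{ξ ∈ S(A)} ξ(1)² / ⟨ξ, ξ⟩ ≥ [L:K] ([K:A] - 1)`.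
-/

set_option autoImplicit false
set_option linter.style.haveILetI false
set_option linter.unusedVariables false
set_option linter.unusedSectionVars false
set_option maxHeartbeats 1000000

namespace Cfsg.Agent.Helper25

open Cfsg

section Coh5

variable {L : Type*} [Group L] [Fintype L] {G : Type*} [Group G] [Fintype G]

theorem isCoherent_mono {S' S'' : Set (L → ℂ)} {A : Set L} {τ : (L → ℂ) → (G → ℂ)}
    (hsub : S' ⊆ S'') (hcoh : IsCoherent S'' A τ) (hne : ∃ α ∈ zspanOn S' A, α ≠ 0) :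
    IsCoherent S' A τ := by
  obtain ⟨-, τ₁, hτ₁, hag⟩ := hcoh
  have hz : zspan S' ⊆ zspan S'' := Submodule.span_mono hsub
  refine ⟨hne, τ₁, ⟨fun α hα β hβ => hτ₁.1 α (hz hα) β (hz hβ), fun α hα n => hτ₁.2.1 α (hz hα) n,
    fun α hα β hβ => hτ₁.2.2.1 α (hz hα) β (hz hβ), fun α hα => hτ₁.2.2.2 α (hz hα)⟩, ?_⟩
  intro α hα
  exact hag α ⟨hz hα.1, hα.2⟩

theorem inducedIrrAbove_subset_bot (K A : Subgroup L) :
    inducedIrrAbove K A ⊆ inducedIrrAbove K ⊥ := by
  rintro φ ⟨θ, hθ, hne, hker, rfl⟩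
  refine ⟨θ, hθ, hne, ?_, rfl⟩
  intro a ha
  have : a = 1 := Subtype.ext (by simpa using ha)
  rw [this]

theorem inducedIrrAbove_conj_mem (K A : Subgroup L) {φ : L → ℂ} (hφ : φ ∈ inducedIrrAbove K A) :
    Cfsg.conjFun φ ∈ inducedIrrAbove K A := by
  obtain ⟨θ, hθ, hne, hker, rfl⟩ := hφ
  refine ⟨fun k => starRingEnd ℂ (θ k), Cfsg.Agent.Helper79.isIrrCharacter_conj hθ, ?_, ?_, ?_⟩
  · intro h
    apply hne
    funext k
    have h1 := congrArg (starRingEnd ℂ) (congrFun h k)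
    simpa using h1
  · intro a ha
    show starRingEnd ℂ (θ a) = starRingEnd ℂ (θ 1)
    rw [hker a ha]
  · funext g
    exact Cfsg.Agent.Helper4.conj_indFun K θ g

/-- A solvable finite group with a proper normal subgroup `N` has a nonprincipal linear
character trivial on `N`. -/
theorem exists_linear_nonprincipal {K : Type*} [Group K] [Finite K] (hsolv : Group.IsSolvable K)
    (N : Subgroup K) [hNn : N.Normal] (hN : N ≠ ⊤) :
    ∃ lam : K → ℂ, IsIrrCharacter K lam ∧ lam ≠ (fun _ => 1) ∧ lam 1 = 1 ∧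
      ∀ a ∈ N, lam a = lam 1 := by
  classical
  haveI : Fintype (IrrCharacter K) := Fintype.ofFinite _
  -- the normal subgroup `M = N ⊔ K'` is proper
  set M : Subgroup K := N ⊔ commutator K with hM
  haveI : M.Normal := by
    rw [hM]; infer_instance
  have hMtop : M ≠ ⊤ := by
    intro hMt
    haveI : Nontrivial (K ⧸ N) := by
      apply Finite.one_lt_card_iff_nontrivial.mp
      show 1 < N.index
      have h0 : N.index ≠ 0 := Subgroup.index_ne_zero_of_finite
      have h1 : N.index ≠ 1 := fun h => hN (Subgroup.index_eq_one.mp h)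
      omega
    haveI := hsolv
    have h1 := Group.IsSolvable.commutator_lt_top_of_nontrivial (K ⧸ N)
    apply h1.ne
    have h2 : Subgroup.map (QuotientGroup.mk' N) (commutator K) = commutator (K ⧸ N) := by
      rw [commutator_def, commutator_def, Subgroup.map_commutator]
      rw [← MonoidHom.range_eq_map, MonoidHom.range_eq_top.mpr (QuotientGroup.mk'_surjective N)]
    rw [← h2]
    have h3 : Subgroup.map (QuotientGroup.mk' N) M = ⊤ := by
      rw [hMt, ← MonoidHom.range_eq_map, MonoidHom.range_eq_top.mpr (QuotientGroup.mk'_surjective N)]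
    rw [hM, Subgroup.map_sup] at h3
    have h4 : Subgroup.map (QuotientGroup.mk' N) N = ⊥ := by
      rw [QuotientGroup.map_mk'_self]
    rw [h4, bot_sup_eq] at h3
    exact h3
  have hsum := Cfsg.Agent.Helper80.irr_sum_sq_of_le_ker (G := K) M
  have hidx : 2 ≤ M.index := by
    have h0 : M.index ≠ 0 := Subgroup.index_ne_zero_of_finite
    have h1 : M.index ≠ 1 := fun h => hMtop (Subgroup.index_eq_one.mp h)
    omega
  have hdeg : ∀ χ ∈ Finset.univ.filter (fun χ : IrrCharacter K =>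
        ∀ n ∈ M, (χ : K → ℂ) n = (χ : K → ℂ) 1), charDegree (χ : K → ℂ) ^ 2 = 1 := by
    intro χ hχ
    rw [Finset.mem_filter] at hχ
    rw [Cfsg.Agent.Helper79.irr_linear_of_commutator_le_ker χ
      (fun x hx => hχ.2 x (Subgroup.mem_sup_right hx)), one_pow]
  rw [Finset.sum_congr rfl hdeg, Finset.sum_const, smul_eq_mul, mul_one] at hsum
  rw [← hsum] at hidx
  have h1lt : 1 < (Finset.univ.filter (fun χ : IrrCharacter K =>
        ∀ n ∈ M, (χ : K → ℂ) n = (χ : K → ℂ) 1)).card := by omega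
  obtain ⟨χ₁, hχ₁, χ₂, hχ₂, hne⟩ := Finset.one_lt_card.mp h1lt
  have key : ∀ χ ∈ Finset.univ.filter (fun χ : IrrCharacter K =>
        ∀ n ∈ M, (χ : K → ℂ) n = (χ : K → ℂ) 1), (χ : K → ℂ) ≠ (fun _ => 1) →
      ∃ lam : K → ℂ, IsIrrCharacter K lam ∧ lam ≠ (fun _ => 1) ∧ lam 1 = 1 ∧
        ∀ a ∈ N, lam a = lam 1 := by
    intro χ hχ hne1
    have hχ' := (Finset.mem_filter.mp hχ).2
    refine ⟨χ, χ.2, hne1, ?_, fun a ha => hχ' a (Subgroup.mem_sup_left ha)⟩
    rw [Cfsg.Agent.Helper80.irr_one_eq, Cfsg.Agent.Helper79.irr_linear_of_commutator_le_ker χ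
      (fun x hx => hχ' x (Subgroup.mem_sup_right hx))]
    simp
  by_cases h1 : (χ₁ : K → ℂ) = (fun _ => 1)
  · apply key χ₂ hχ₂
    intro h2
    exact hne (Subtype.ext (h1.trans h2.symm))
  · exact key χ₁ hχ₁ h1

/-- If each `θ ∈ F` is a constituent of the character `ψ` with multiplicity `m` and has degree
`t`, then `|F| m t ≤ ψ(1)`. -/
theorem card_mul_le_of_mult {K : Type*} [Group K] [Fintype K] {ψ : K → ℂ} (hψ : IsCharacter K ψ)
    (F : Finset (IrrCharacter K)) (m t N : ℕ)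
    (hm : ∀ θ ∈ F, classInner ψ (θ : K → ℂ) = (m : ℂ)) (ht : ∀ θ ∈ F, (θ : K → ℂ) 1 = (t : ℂ))
    (hN : ψ 1 = (N : ℂ)) : F.card * m * t ≤ N := by
  classical
  haveI : Fintype (IrrCharacter K) := Fintype.ofFinite _
  obtain ⟨c, hc⟩ := Cfsg.Agent.Helper4.isCharacter_eq_nat_sum hψ
  have hcθ : ∀ θ : IrrCharacter K, classInner ψ (θ : K → ℂ) = (c θ : ℂ) := by
    intro θ
    rw [hc, Cfsg.Agent.Helper75.classInner_sum_left, Finset.sum_eq_single θ]
    · rw [Cfsg.Agent.Helper75.classInner_smul_left, Cfsg.Agent.Helper15.irr_inner, if_pos rfl,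
        mul_one]
    · intro χ _ hne
      rw [Cfsg.Agent.Helper75.classInner_smul_left, Cfsg.Agent.Helper15.irr_inner, if_neg hne,
        mul_zero]
    · intro h; exact absurd (Finset.mem_univ _) h
  have h1 : (N : ℂ) = ((∑ χ : IrrCharacter K, c χ * charDegree (χ : K → ℂ) : ℕ) : ℂ) := by
    rw [← hN]
    conv_lhs => rw [hc]
    rw [Finset.sum_apply, Nat.cast_sum]
    apply Finset.sum_congr rfl
    intro χ _
    rw [Pi.smul_apply, smul_eq_mul, Cfsg.Agent.Helper80.irr_one_eq, Nat.cast_mul]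
  have h2 : N = ∑ χ : IrrCharacter K, c χ * charDegree (χ : K → ℂ) := by exact_mod_cast h1
  rw [h2]
  calc F.card * m * t = ∑ χ ∈ F, m * t := by
        rw [Finset.sum_const, smul_eq_mul, mul_assoc]
    _ = ∑ χ ∈ F, c χ * charDegree (χ : K → ℂ) := by
        apply Finset.sum_congr rfl
        intro χ hχ
        have e1 : c χ = m := by
          have := (hcθ χ).symm.trans (hm χ hχ)
          exact_mod_cast this
        have e2 : charDegree (χ : K → ℂ) = t := by
          have := (Cfsg.Agent.Helper80.irr_one_eq χ).symm.trans (ht χ hχ)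
          exact_mod_cast this
        rw [e1, e2]
    _ ≤ ∑ χ : IrrCharacter K, c χ * charDegree (χ : K → ℂ) :=
        Finset.sum_le_sum_of_subset_of_nonneg (Finset.subset_univ _) (fun _ _ _ => Nat.zero_le _)

/-- The number of irreducible characters of `K` inducing a given character `ξ` of `L`, times
`⟨ξ, ξ⟩`, is at most `[L : K]`. -/
theorem ind_fiber_bound (K : Subgroup L) {ξ : L → ℂ} (hξ : IsCharacter L ξ) (n t : ℕ)
    (hn : classInner ξ ξ = (n : ℂ)) (ht : ξ 1 = ((K.index * t : ℕ) : ℂ)) (htpos : 0 < t)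
    (F : Finset (IrrCharacter K)) (hF : ∀ θ ∈ F, indFun K (θ : K → ℂ) = ξ) :
    F.card * n ≤ K.index := by
  classical
  have hcf : IsClassFunction L ξ := Cfsg.Agent.Helper79.isCharacter_isClassFunction hξ
  have hψ : IsCharacter K (fun k : K => ξ k) := Cfsg.Agent.Helper79.isCharacter_restrict hξ K
  have hidx : (K.index : ℂ) ≠ 0 := by
    exact_mod_cast Subgroup.index_ne_zero_of_finite
  have h1 : F.card * n * t ≤ K.index * t := by
    apply card_mul_le_of_mult hψ F n t (K.index * t)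
    · intro θ hθ
      rw [Cfsg.Agent.Helper75.classInner_conj_symm,
        ← Cfsg.Agent.Helper3.frobenius_reciprocity K (θ : K → ℂ) ξ hcf, hF θ hθ, hn]
      simp
    · intro θ hθ
      have h2 := Cfsg.Agent.Helper3.indFun_apply_one K (θ : K → ℂ)
      rw [hF θ hθ, ht, Nat.cast_mul] at h2
      exact (mul_left_cancel₀ hidx h2).symm
    · show ξ ((1 : K) : L) = _
      rw [Subgroup.coe_one, ht]
  exact Nat.le_of_mul_le_mul_right h1 htpos

/-- `∑_{ξ ∈ S(A)} ξ(1)² / ⟨ξ, ξ⟩ ≥ [L:K] ([K:A] - 1)`. -/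
theorem sum_inducedIrrAbove_ge (K A : Subgroup L) [hAn : (A.subgroupOf K).Normal]
    (d n : (L → ℂ) → ℕ) (SA : Finset (L → ℂ))
    (hSA : (↑SA : Set (L → ℂ)) = inducedIrrAbove K A)
    (hchar : ∀ ξ ∈ SA, IsCharacter L ξ)
    (hd : ∀ ξ ∈ SA, ξ 1 = (d ξ : ℂ)) (hn : ∀ ξ ∈ SA, classInner ξ ξ = (n ξ : ℂ))
    (hnpos : ∀ ξ ∈ SA, 0 < n ξ) :
    (K.index : ℝ) * ((A.relIndex K : ℝ) - 1) ≤ ∑ ξ ∈ SA, ((d ξ : ℝ) ^ 2 / (n ξ : ℝ)) := by
  classical
  haveI : Fintype (IrrCharacter K) := Fintype.ofFinite _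
  set I : Finset (IrrCharacter K) := Finset.univ.filter (fun θ : IrrCharacter K =>
    (θ : K → ℂ) ≠ (fun _ => 1) ∧ ∀ a : K, (a : L) ∈ A → (θ : K → ℂ) a = (θ : K → ℂ) 1) with hI
  have hmaps : ∀ θ ∈ I, indFun K (θ : K → ℂ) ∈ SA := by
    intro θ hθ
    rw [hI, Finset.mem_filter] at hθ
    rw [← Finset.mem_coe, hSA]
    exact ⟨θ, θ.2, hθ.2.1, hθ.2.2, rfl⟩
  have hfib := Finset.sum_fiberwise_of_maps_to (s := I) (t := SA)
    (g := fun θ : IrrCharacter K => indFun K (θ : K → ℂ)) hmaps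
    (fun θ : IrrCharacter K => (K.index : ℝ) * (charDegree (θ : K → ℂ) : ℝ) ^ 2)
  have htot : ∑ θ ∈ I, (K.index : ℝ) * (charDegree (θ : K → ℂ) : ℝ) ^ 2 =
      (K.index : ℝ) * ((A.relIndex K : ℝ) - 1) := by
    rw [← Finset.mul_sum]
    congr 1
    have hsum := Cfsg.Agent.Helper80.irr_sum_sq_of_le_ker (G := K) (A.subgroupOf K)
    set triv : IrrCharacter K := ⟨fun _ => 1, Cfsg.Agent.Helper79.isIrrCharacter_one⟩ with htriv
    have hnotin : triv ∉ I := by
      rw [hI, Finset.mem_filter]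
      rintro ⟨-, h, -⟩
      exact h rfl
    have hsum' : ∑ χ ∈ insert triv I, charDegree (χ : K → ℂ) ^ 2 = (A.subgroupOf K).index := by
      rw [← hsum]
      refine Finset.sum_congr ?_ (fun _ _ => rfl)
      ext χ
      simp only [Finset.mem_filter, Finset.mem_insert, Finset.mem_univ, true_and, hI]
      constructor
      · rintro (h | ⟨-, h⟩)
        · intro a _
          rw [h]
        · exact fun a ha => h a (Subgroup.mem_subgroupOf.mp ha)
      · intro h
        by_cases hc : χ = triv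
        · left; exact hc
        · right
          exact ⟨fun h1 => hc (Subtype.ext h1), fun a ha => h a (Subgroup.mem_subgroupOf.mpr ha)⟩
    rw [Finset.sum_insert hnotin] at hsum'
    have htd : charDegree (triv : K → ℂ) = 1 := by
      simp [charDegree, htriv]
    rw [htd] at hsum'
    have h2 : ((∑ θ ∈ I, charDegree (θ : K → ℂ) ^ 2 : ℕ) : ℝ) = (A.relIndex K : ℝ) - 1 := by
      rw [Subgroup.relIndex, ← hsum']
      push_cast; ring
    rw [← h2]; push_cast; rfl
  rw [← htot, ← hfib]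
  apply Finset.sum_le_sum
  intro ξ hξ
  have hξmem : ξ ∈ inducedIrrAbove K A := by rw [← hSA]; exact Finset.mem_coe.mpr hξ
  obtain ⟨θ₀, hθ₀, -, -, hξθ₀⟩ := hξmem
  obtain ⟨t, htpos, ht⟩ := Cfsg.Agent.Helper3.irr_apply_one_eq_nat hθ₀
  have hξ1 : ξ 1 = ((K.index * t : ℕ) : ℂ) := by
    rw [hξθ₀, Cfsg.Agent.Helper3.indFun_apply_one, ht, Nat.cast_mul]
  have hdξ : d ξ = K.index * t := by
    have := (hd ξ hξ).symm.trans hξ1
    exact_mod_cast this
  set F := I.filter (fun θ : IrrCharacter K => indFun K (θ : K → ℂ) = ξ) with hF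
  have hFb := ind_fiber_bound K (hchar ξ hξ) (n ξ) t (hn ξ hξ) hξ1 htpos F
    (fun θ hθ => (Finset.mem_filter.mp hθ).2)
  have hidx : (K.index : ℂ) ≠ 0 := by exact_mod_cast Subgroup.index_ne_zero_of_finite
  have hdeg : ∀ θ ∈ F, (charDegree (θ : K → ℂ) : ℝ) = t := by
    intro θ hθ
    have h2 := Cfsg.Agent.Helper3.indFun_apply_one K (θ : K → ℂ)
    rw [(Finset.mem_filter.mp hθ).2, hξ1, Nat.cast_mul, Cfsg.Agent.Helper80.irr_one_eq] at h2
    have h3 := mul_left_cancel₀ hidx h2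
    have h4 : t = charDegree (θ : K → ℂ) := by exact_mod_cast h3
    rw [h4]
  rw [Finset.sum_congr rfl (fun θ hθ => by rw [hdeg θ hθ]), Finset.sum_const, nsmul_eq_mul, hdξ]
  have hnpos' : (0 : ℝ) < n ξ := by exact_mod_cast hnpos ξ hξ
  rw [le_div_iff₀ hnpos']
  have hFb' : (F.card : ℝ) * n ξ ≤ K.index := by exact_mod_cast hFb
  push_cast
  calc (F.card : ℝ) * ((K.index : ℝ) * (t : ℝ) ^ 2) * (n ξ : ℝ)
      = ((F.card : ℝ) * n ξ) * ((K.index : ℝ) * (t : ℝ) ^ 2) := by ring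
    _ ≤ (K.index : ℝ) * ((K.index : ℝ) * (t : ℝ) ^ 2) :=
        mul_le_mul_of_nonneg_right hFb' (by positivity)
    _ = ((K.index : ℝ) * t) ^ 2 := by ring

/-- Peterfalvi (6.2), abstract form: if `S(A)` is coherent and every irreducible character of
`K` trivial on `B` has degree `t` with `2 [L:K] t + 1 < [K:A]`, then `S(B)` is coherent. -/
theorem coherent_inducedIrrAbove_of_bound (K : Subgroup L) [hK : K.Normal]
    (hsolv : Group.IsSolvable K) (τ : (L → ℂ) → (G → ℂ)) (R : (L → ℂ) → Finset (G → ℂ))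
    (hS : IsCoherenceSystem (inducedIrrAbove K ⊥) τ R) (A B : Subgroup L) [A.Normal] [B.Normal]
    (hAK : A < K) (hBK : B < K)
    (hA : IsCoherent (inducedIrrAbove K A) {1}ᶜ τ)
    (hbound : ∀ θ : K → ℂ, IsIrrCharacter K θ → (∀ a : K, (a : L) ∈ B → θ a = θ 1) →
      ∀ t : ℕ, θ 1 = (t : ℂ) → 2 * K.index * t + 1 < A.relIndex K) :
    IsCoherent (inducedIrrAbove K B) {1}ᶜ τ := by
  classical
  set S := inducedIrrAbove K ⊥ with hSdef
  have hSfin : S.Finite := finite_of_orthogonal S hS.orthogonal (fun χ hχ => cohSys_norm_ne hS hχ)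
  have hAS : inducedIrrAbove K A ⊆ S := inducedIrrAbove_subset_bot K A
  have hBS : inducedIrrAbove K B ⊆ S := inducedIrrAbove_subset_bot K B
  have hde : ∀ φ : L → ℂ, ∃ m : ℕ, φ ∈ S → φ 1 = (m : ℂ) := by
    intro φ
    by_cases hφ : φ ∈ S
    · obtain ⟨m, ρ, hρ⟩ := hS.isCharacter φ hφ
      exact ⟨Module.finrank ℂ (Fin m → ℂ), fun _ => by rw [← hρ, Representation.char_one]⟩
    · exact ⟨0, fun h => absurd h hφ⟩
  choose d hd using hde
  have hne : ∀ φ : L → ℂ, ∃ m : ℕ, φ ∈ S → classInner φ φ = (m : ℂ) := by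
    intro φ
    by_cases hφ : φ ∈ S
    · obtain ⟨m, hm⟩ := Cfsg.Agent.Helper3.classInner_isCharacter_nat
        (hS.isCharacter φ hφ) (hS.isCharacter φ hφ)
      exact ⟨m, fun _ => hm⟩
    · exact ⟨0, fun h => absurd h hφ⟩
  choose n hn using hne
  have hnpos : ∀ φ ∈ S, 0 < n φ := by
    intro φ hφ
    rcases Nat.eq_zero_or_pos (n φ) with h | h
    · exfalso
      apply cohSys_norm_ne hS hφ
      rw [hn φ hφ, h]; simp
    · exact h
  set SA : Finset (L → ℂ) := (hSfin.subset hAS).toFinset with hSA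
  set T : Finset (L → ℂ) := (hSfin.subset (Set.union_subset hAS hBS)).toFinset with hT
  have hSAc : (↑SA : Set (L → ℂ)) = inducedIrrAbove K A := Set.Finite.coe_toFinset _
  have hTc : (↑T : Set (L → ℂ)) = inducedIrrAbove K A ∪ inducedIrrAbove K B :=
    Set.Finite.coe_toFinset _
  have hSAS : ∀ ξ ∈ SA, ξ ∈ S := fun ξ hξ => hAS (by rw [← hSAc]; exact Finset.mem_coe.mpr hξ)
  have hTS : ∀ ξ ∈ T, ξ ∈ S := fun ξ hξ => by
    have h1 : ξ ∈ inducedIrrAbove K A ∪ inducedIrrAbove K B := by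
      rw [← hTc]; exact Finset.mem_coe.mpr hξ
    exact Set.union_subset hAS hBS h1
  have hSAT : SA ⊆ T := by
    intro ξ hξ
    rw [← Finset.mem_coe, hTc]
    left
    rw [← hSAc]; exact Finset.mem_coe.mpr hξ
  haveI : (A.subgroupOf K).Normal := inferInstance
  haveI : (B.subgroupOf K).Normal := inferInstance
  have hsumA := sum_inducedIrrAbove_ge K A d n SA hSAc (fun ξ hξ => hS.isCharacter ξ (hSAS ξ hξ))
    (fun ξ hξ => hd ξ (hSAS ξ hξ)) (fun ξ hξ => hn ξ (hSAS ξ hξ))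
    (fun ξ hξ => hnpos ξ (hSAS ξ hξ))
  have hAtop : A.subgroupOf K ≠ ⊤ := by
    intro h
    rw [Subgroup.subgroupOf_eq_top] at h
    exact (not_le_of_gt hAK) h
  have hBtop : B.subgroupOf K ≠ ⊤ := by
    intro h
    rw [Subgroup.subgroupOf_eq_top] at h
    exact (not_le_of_gt hBK) h
  obtain ⟨lam, hlam, hlam1, hlamdeg, hlamker⟩ :=
    exists_linear_nonprincipal hsolv (A.subgroupOf K) hAtop
  set φ := indFun K lam with hφ
  have hφA : φ ∈ inducedIrrAbove K A :=
    ⟨lam, hlam, hlam1, fun a ha => hlamker a (Subgroup.mem_subgroupOf.mpr ha), rfl⟩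
  have hφSA : φ ∈ SA := by rw [← Finset.mem_coe, hSAc]; exact hφA
  have hdφ : d φ = K.index := by
    have h1 := hd φ (hAS hφA)
    rw [hφ, Cfsg.Agent.Helper3.indFun_apply_one, hlamdeg, mul_one] at h1
    exact_mod_cast h1.symm
  let P : Finset (L → ℂ) → Prop := fun X =>
    SA ⊆ X ∧ (∀ ψ ∈ X, Cfsg.conjFun ψ ∈ X) ∧ IsCoherent (↑X : Set (L → ℂ)) ({1}ᶜ : Set L) τ
  have hPSA : P SA := by
    refine ⟨Finset.Subset.refl _, fun ψ hψ => ?_, by rw [hSAc]; exact hA⟩
    rw [← Finset.mem_coe, hSAc]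
    apply inducedIrrAbove_conj_mem
    rw [← hSAc]; exact Finset.mem_coe.mpr hψ
  set 𝒳 := T.powerset.filter P with h𝒳
  have hne𝒳 : 𝒳.Nonempty :=
    ⟨SA, by rw [h𝒳, Finset.mem_filter, Finset.mem_powerset]; exact ⟨hSAT, hPSA⟩⟩
  obtain ⟨X, hX, hXmax⟩ := Finset.exists_max_image 𝒳 Finset.card hne𝒳
  rw [h𝒳, Finset.mem_filter, Finset.mem_powerset] at hX
  obtain ⟨hXT, hSAX, hXconj, hXcoh⟩ := hX
  have hXS : (↑X : Set (L → ℂ)) ⊆ S := fun ξ hξ => hTS ξ (hXT (Finset.mem_coe.mp hξ))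
  have hXeq : X = T := by
    by_contra hneq
    obtain ⟨χ, hχT, hχX⟩ : ∃ χ ∈ T, χ ∉ X := by
      by_contra hcon
      push Not at hcon
      exact hneq (Finset.Subset.antisymm hXT hcon)
    have hχAB : χ ∈ inducedIrrAbove K A ∪ inducedIrrAbove K B := by
      rw [← hTc]; exact Finset.mem_coe.mpr hχT
    have hχB : χ ∈ inducedIrrAbove K B := by
      rcases hχAB with h | h
      · exfalso; exact hχX (hSAX (by rw [← Finset.mem_coe, hSAc]; exact h))
      · exact h
    have hχS : χ ∈ S := hBS hχB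
    have hχcX : Cfsg.conjFun χ ∉ X := by
      intro h
      apply hχX
      have := hXconj _ h
      rwa [conjFun_conjFun] at this
    have hχcB : Cfsg.conjFun χ ∈ inducedIrrAbove K B := inducedIrrAbove_conj_mem K B hχB
    obtain ⟨θ, hθ, hθ1, hθker, hχθ⟩ := hχB
    obtain ⟨t, htpos, ht⟩ := Cfsg.Agent.Helper3.irr_apply_one_eq_nat hθ
    have hdχ : d χ = K.index * t := by
      have h1 := hd χ hχS
      have h2 : χ 1 = (K.index : ℂ) * t := by
        rw [hχθ, Cfsg.Agent.Helper3.indFun_apply_one, ht]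
      rw [h2] at h1
      exact_mod_cast h1.symm
    have hb := hbound θ hθ hθker t ht
    have hineq : (2 * d χ * d φ : ℝ) < ∑ ξ ∈ X, ((d ξ : ℝ) ^ 2 / (n ξ : ℝ)) := by
      have h1 : ∑ ξ ∈ SA, ((d ξ : ℝ) ^ 2 / (n ξ : ℝ)) ≤ ∑ ξ ∈ X, ((d ξ : ℝ) ^ 2 / (n ξ : ℝ)) :=
        Finset.sum_le_sum_of_subset_of_nonneg hSAX (fun _ _ _ => by positivity)
      have h2 : (2 * (K.index : ℝ) * t + 1 : ℝ) < (A.relIndex K : ℝ) := by exact_mod_cast hb
      have h3 : (0 : ℝ) < (K.index : ℝ) := by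
        exact_mod_cast Nat.pos_of_ne_zero Subgroup.index_ne_zero_of_finite
      rw [hdχ, hdφ]
      push_cast
      nlinarith
    have hext := extend_coherent hS d n hd hn X hXS hXconj hXcoh χ hχS hχX hχcX φ
      (hSAX hφSA) (by rw [hdφ, hdχ]; exact Dvd.intro _ rfl) hineq
    set X' : Finset (L → ℂ) := X ∪ {χ, Cfsg.conjFun χ} with hX'
    have hX'c : (↑X' : Set (L → ℂ)) = ↑X ∪ {χ, Cfsg.conjFun χ} := by
      rw [hX']; push_cast; rfl
    have hχcT : Cfsg.conjFun χ ∈ T := by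
      rw [← Finset.mem_coe, hTc]; right; exact hχcB
    have hX'mem : X' ∈ 𝒳 := by
      rw [h𝒳, Finset.mem_filter, Finset.mem_powerset]
      refine ⟨?_, ?_, ?_, ?_⟩
      · intro ξ hξ
        rw [hX', Finset.mem_union, Finset.mem_insert, Finset.mem_singleton] at hξ
        rcases hξ with h | h | h
        · exact hXT h
        · rw [h]; exact hχT
        · rw [h]; exact hχcT
      · exact hSAX.trans Finset.subset_union_left
      · intro ψ hψ
        rw [hX', Finset.mem_union, Finset.mem_insert, Finset.mem_singleton] at hψ ⊢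
        rcases hψ with h | h | h
        · left; exact hXconj ψ h
        · right; right; rw [h]
        · right; left; rw [h, conjFun_conjFun]
      · rw [hX'c]; exact hext
    have hcard := hXmax X' hX'mem
    have hlt : X.card < X'.card := by
      apply Finset.card_lt_card
      rw [Finset.ssubset_iff_of_subset Finset.subset_union_left]
      refine ⟨χ, ?_, hχX⟩
      rw [Finset.mem_union, Finset.mem_insert]
      right; left; rfl
    omega
  rw [hXeq, hTc] at hXcoh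
  apply isCoherent_mono Set.subset_union_right hXcoh
  obtain ⟨mu, hmu, hmu1, hmudeg, hmuker⟩ :=
    exists_linear_nonprincipal hsolv (B.subgroupOf K) hBtop
  have hχ₀ : indFun K mu ∈ inducedIrrAbove K B :=
    ⟨mu, hmu, hmu1, fun a ha => hmuker a (Subgroup.mem_subgroupOf.mpr ha), rfl⟩
  refine ⟨indFun K mu - Cfsg.conjFun (indFun K mu), ?_, ?_⟩
  · rw [mem_zspanOn_iff]
    refine ⟨Submodule.sub_mem _ (Submodule.subset_span hχ₀)
      (Submodule.subset_span (inducedIrrAbove_conj_mem K B hχ₀)), ?_⟩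
    rw [Pi.sub_apply, cohSys_conj_one hS (hBS hχ₀), sub_self]
  · intro h
    exact hS.conj_ne _ (hBS hχ₀) (sub_eq_zero.mp h).symm

end Coh5

end Cfsg.Agent.Helper25
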