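import Mathlib
import Cfsg.Agent.Helper25.Coh5

/-!
# Tools for Peterfalvi (6.4) (helper25)

* `cohSys_subsystem`: a nonempty conjugation-closed subset of a coherence system is one.
* `coherent_inducedIrrAbove_abelian`: `S(H₁)` is coherent when `K/H₁` is abelian.
* `sup_commutator_ne_top`, `nilpotent_card_pow`: group-theoretic lemmas.
* `frob_index_dvd`: `[L:K] ∣ [N:H₁] - 1` in the Frobenius situation.
* `exists_normal_between`: a proper primary component when `[K:H₁]` is not a prime power.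
* `index_eq_prime_of_sup_commutator`: a `p`-group with abelianization of order `p` has order `p`.
-/

set_option autoImplicit false
set_option linter.style.haveILetI false
set_option linter.unusedVariables false
set_option linter.unusedSectionVars false
set_option maxHeartbeats 1000000

namespace Cfsg.Agent.Helper25

open Cfsg
open scoped commutatorElement

section Coh6

variable {L : Type*} [Group L] [Fintype L] {G : Type*} [Group G] [Fintype G]

theorem cohSys_subsystem {S : Set (L → ℂ)} {τ : (L → ℂ) → (G → ℂ)}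
    {R : (L → ℂ) → Finset (G → ℂ)} (hS : IsCoherenceSystem S τ R) {S' : Set (L → ℂ)}
    (hsub : S' ⊆ S) (hne : S'.Nonempty) (hconj : ∀ χ ∈ S', Cfsg.conjFun χ ∈ S') :
    IsCoherenceSystem S' τ R := by
  have hz : zspanOn S' ({1}ᶜ : Set L) ⊆ zspanOn S {1}ᶜ :=
    fun α hα => ⟨Submodule.span_mono hsub hα.1, hα.2⟩
  exact
  { nonempty := hne
    isCharacter := fun χ hχ => hS.isCharacter χ (hsub hχ)
    conj_mem := hconj
    conj_ne := fun χ hχ => hS.conj_ne χ (hsub hχ)
    isometry := ⟨fun α hα β hβ => hS.isometry.1 α (hz hα) β (hz hβ),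
      fun α hα n => hS.isometry.2.1 α (hz hα) n,
      fun α hα β hβ => hS.isometry.2.2.1 α (hz hα) β (hz hβ),
      fun α hα => hS.isometry.2.2.2 α (hz hα)⟩
    map_one := fun α hα => hS.map_one α (hz hα)
    orthogonal := fun χ hχ φ hφ h => hS.orthogonal χ (hsub hχ) φ (hsub hφ) h
    orthonormal := fun χ hχ => hS.orthonormal χ (hsub hχ)
    virtual := fun χ hχ => hS.virtual χ (hsub hχ)
    sum_eq := fun χ hχ => hS.sum_eq χ (hsub hχ)
    disjoint := fun χ hχ φ hφ => hS.disjoint χ (hsub hχ) φ (hsub hφ) }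

/-- `S(H₁)` is coherent when `K/H₁` is abelian (all its members have degree `[L:K]`). -/
theorem coherent_inducedIrrAbove_abelian (K : Subgroup L) [hK : K.Normal]
    (hsolv : Group.IsSolvable K) (τ : (L → ℂ) → (G → ℂ)) (R : (L → ℂ) → Finset (G → ℂ))
    (hS : IsCoherenceSystem (inducedIrrAbove K ⊥) τ R) (H₁ : Subgroup L) [H₁.Normal]
    (hab : ⁅K, K⁆ ≤ H₁) (hH₁K : H₁ < K) :
    IsCoherent (inducedIrrAbove K H₁) ({1}ᶜ : Set L) τ := by
  classical
  have hsub := inducedIrrAbove_subset_bot K H₁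
  haveI : (H₁.subgroupOf K).Normal := inferInstance
  have hHtop : H₁.subgroupOf K ≠ ⊤ := by
    intro h
    rw [Subgroup.subgroupOf_eq_top] at h
    exact (not_le_of_gt hH₁K) h
  have hne : (inducedIrrAbove K H₁).Nonempty := by
    obtain ⟨mu, hmu, hmu1, hmudeg, hmuker⟩ :=
      exists_linear_nonprincipal hsolv (H₁.subgroupOf K) hHtop
    exact ⟨indFun K mu, mu, hmu, hmu1, fun a ha => hmuker a (Subgroup.mem_subgroupOf.mpr ha), rfl⟩
  have hS' := cohSys_subsystem hS hsub hne (fun χ hχ => inducedIrrAbove_conj_mem K H₁ hχ)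
  apply uniform_degree_coherent hS'
  have hdeg : ∀ φ ∈ inducedIrrAbove K H₁, φ 1 = (K.index : ℂ) := by
    rintro φ ⟨θ, hθ, -, hker, rfl⟩
    rw [Cfsg.Agent.Helper3.indFun_apply_one]
    have h0 : charDegree θ = 1 :=
      Cfsg.Agent.Helper79.irr_linear_of_commutator_le_ker ⟨θ, hθ⟩ (fun x hx => hker x (hab (by
        rw [← Subgroup.map_subtype_commutator]
        exact Subgroup.mem_map_of_mem _ hx)))
    have h1 : θ 1 = 1 := by
      have := Cfsg.Agent.Helper80.irr_one_eq (⟨θ, hθ⟩ : IrrCharacter K)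
      rw [h0] at this
      simpa using this
    rw [h1, mul_one]
  intro φ hφ ψ hψ
  rw [hdeg φ hφ, hdeg ψ hψ]

/-- In a solvable group, a proper normal subgroup together with the commutator subgroup does not
generate the whole group. -/
theorem sup_commutator_ne_top {K : Type*} [Group K] (hsolv : Group.IsSolvable K)
    (N : Subgroup K) [hNn : N.Normal] (hN : N ≠ ⊤) [hfi : Finite K] : N ⊔ commutator K ≠ ⊤ := by
  intro hMt
  haveI : Nontrivial (K ⧸ N) := by
    apply Finite.one_lt_card_iff_nontrivial.mp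
    show 1 < N.index
    have h0 : N.index ≠ 0 := Subgroup.index_ne_zero_of_finite
    have h1 : N.index ≠ 1 := fun h => hN (Subgroup.index_eq_one.mp h)
    omega
  haveI := hsolv
  have h1 := Group.IsSolvable.commutator_lt_top_of_nontrivial (K ⧸ N)
  apply h1.ne
  have h2 : Subgroup.map (QuotientGroup.mk' N) (commutator K) = commutator (K ⧸ N) := by
    rw [commutator_def, commutator_def, Subgroup.map_commutator]
    rw [← MonoidHom.range_eq_map, MonoidHom.range_eq_top.mpr (QuotientGroup.mk'_surjective N)]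
  rw [← h2]
  have h3 : Subgroup.map (QuotientGroup.mk' N) (N ⊔ commutator K) = ⊤ := by
    rw [hMt, ← MonoidHom.range_eq_map, MonoidHom.range_eq_top.mpr (QuotientGroup.mk'_surjective N)]
  rw [Subgroup.map_sup] at h3
  have h4 : Subgroup.map (QuotientGroup.mk' N) N = ⊥ := by
    rw [QuotientGroup.map_mk'_self]
  rw [h4, bot_sup_eq] at h3
  exact h3

/-- A finite nilpotent group whose abelianization is a `p`-group is a `p`-group. -/
theorem nilpotent_card_pow {P : Type*} [Group P] [Finite P] (hnil : Group.IsNilpotent P)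
    (p a : ℕ) (hp : p.Prime) (hidx : (commutator P).index = p ^ a) :
    ∃ b, Nat.card P = p ^ b := by
  haveI := Fact.mk hp
  obtain ⟨S⟩ : Nonempty (Sylow p P) := inferInstance
  by_cases hS : (S : Subgroup P) = ⊤
  · obtain ⟨n, hn⟩ := IsPGroup.iff_card.mp S.isPGroup'
    refine ⟨n, ?_⟩
    rw [← hn]
    exact ((Subgroup.card_eq_iff_eq_top (S : Subgroup P)).mpr hS).symm
  · exfalso
    obtain ⟨H, hH, hSH⟩ := (eq_top_or_exists_le_coatom (S : Subgroup P)).resolve_left hS
    haveI hHn : H.Normal :=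
      Subgroup.NormalizerCondition.normal_of_coatom H Group.normalizerCondition_of_isNilpotent hH
    have hsolv : Group.IsSolvable P := inferInstance
    have h1 : H ⊔ commutator P ≠ ⊤ := sup_commutator_ne_top hsolv H hH.1
    have h2 : commutator P ≤ H := by
      have h3 : H ⊔ commutator P = H := by
        rcases eq_or_lt_of_le (le_sup_left : H ≤ H ⊔ commutator P) with h | h
        · exact h.symm
        · exact absurd (hH.2 _ h) h1
      rw [← h3]; exact le_sup_right
    have h4 : H.index ∣ p ^ a := hidx ▸ Subgroup.index_dvd_of_le h2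
    have h5 : H.index ≠ 1 := fun h => hH.1 (Subgroup.index_eq_one.mp h)
    have h6 : p ∣ H.index := by
      obtain ⟨i, -, hi⟩ := (Nat.dvd_prime_pow hp).mp h4
      rw [hi] at h5 ⊢
      cases i with
      | zero => simp at h5
      | succ i => exact dvd_pow_self p (Nat.succ_ne_zero i)
    have h7 : H.index ∣ (S : Subgroup P).index := Subgroup.index_dvd_of_le hSH
    exact S.not_dvd_index (h6.trans h7)

/-- In the Frobenius situation (`K/H₁` abelian, elements of `K ∖ H₁` centralised modulo `H₁` only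
from inside `K`), `[L:K]` divides `[N:H₁] - 1` for every normal `N` between `H₁` and `K`. -/
theorem frob_index_dvd (K H₁ N : Subgroup L) [hKn : K.Normal] [hH₁n : H₁.Normal] [hNn : N.Normal]
    (hH₁N : H₁ ≤ N) (hNK : N ≤ K) (hab : ⁅K, K⁆ ≤ H₁)
    (hfrob : ∀ k ∈ K, k ∉ H₁ → ∀ x : L, x * k * x⁻¹ * k⁻¹ ∈ H₁ → x ∈ K) :
    K.index ∣ H₁.relIndex N - 1 := by
  classical
  set π := QuotientGroup.mk' H₁ with hπ
  set Nb : Subgroup (L ⧸ H₁) := N.map π with hNb
  haveI hNbn : Nb.Normal := Subgroup.Normal.map hNn π (QuotientGroup.mk'_surjective H₁)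
  letI act : MulAction L Nb :=
    { smul := fun x q => ⟨π x * q.1 * (π x)⁻¹, hNbn.conj_mem q.1 q.2 (π x)⟩
      one_smul := fun q => Subtype.ext (by
        show π 1 * q.1 * (π 1)⁻¹ = q.1
        simp)
      mul_smul := fun x y q => Subtype.ext (by
        show π (x * y) * q.1 * (π (x * y))⁻¹ = π x * (π y * q.1 * (π y)⁻¹) * (π x)⁻¹
        rw [map_mul]; group) }
  have hsmul : ∀ (x : L) (q : Nb), ((x • q : Nb) : L ⧸ H₁) = π x * q.1 * (π x)⁻¹ :=
    fun x q => rfl
  have hstab1 : MulAction.stabilizer L (1 : Nb) = ⊤ := by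
    ext x
    simp [MulAction.mem_stabilizer_iff, Subtype.ext_iff, hsmul]
  have hstab : ∀ q : Nb, q ≠ 1 → MulAction.stabilizer L q = K := by
    intro q hq
    obtain ⟨n, hn, hnq⟩ := Subgroup.mem_map.mp q.2
    have hnH : n ∉ H₁ := by
      intro h
      apply hq
      apply Subtype.ext
      rw [← hnq]
      exact (QuotientGroup.eq_one_iff n).mpr h
    ext x
    rw [MulAction.mem_stabilizer_iff, Subtype.ext_iff, hsmul, ← hnq]
    have key : π x * π n * (π x)⁻¹ = π n ↔ x * n * x⁻¹ * n⁻¹ ∈ H₁ := by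
      rw [← (QuotientGroup.eq_one_iff (N := H₁) (x * n * x⁻¹ * n⁻¹))]
      show _ ↔ π (x * n * x⁻¹ * n⁻¹) = 1
      rw [map_mul, map_mul, map_mul, map_inv, map_inv, mul_inv_eq_one]
    rw [key]
    constructor
    · exact hfrob n (hNK hn) hnH x
    · intro hx
      apply hab
      have h1 : x * n * x⁻¹ * n⁻¹ = ⁅x, n⁆ := (commutatorElement_def x n).symm
      rw [h1]
      exact Subgroup.commutator_mem_commutator hx (hNK hn)
  have hcard := Nat.card_congr (MulAction.selfEquivSigmaOrbitsQuotientStabilizer L Nb)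
  haveI : Fintype (Quotient (MulAction.orbitRel L Nb)) := Fintype.ofFinite _
  rw [Nat.card_sigma] at hcard
  set ω₀ : Quotient (MulAction.orbitRel L Nb) := Quotient.mk'' (1 : Nb) with hω₀
  have hout0 : ω₀.out = 1 := by
    have h1 : ω₀.out ∈ MulAction.orbit L (1 : Nb) :=
      Quotient.mk_out (s := MulAction.orbitRel L Nb) (1 : Nb)
    obtain ⟨x, hx⟩ := h1
    rw [← hx]
    apply Subtype.ext
    show π x * ((1 : Nb) : L ⧸ H₁) * (π x)⁻¹ = _
    simp
  have hout : ∀ ω : Quotient (MulAction.orbitRel L Nb), ω ≠ ω₀ → ω.out ≠ 1 := by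
    intro ω hω h
    apply hω
    rw [← Quotient.out_eq ω, h]
  have hterm0 : Nat.card (L ⧸ MulAction.stabilizer L ω₀.out) = 1 := by
    rw [hout0, hstab1]
    exact Subgroup.index_top
  have hterm : ∀ ω : Quotient (MulAction.orbitRel L Nb), ω ≠ ω₀ →
      Nat.card (L ⧸ MulAction.stabilizer L ω.out) = K.index := by
    intro ω hω
    rw [hstab _ (hout ω hω)]
    rfl
  have hNbcard : Nat.card Nb = H₁.relIndex N := by
    have h1 := Subgroup.relIndex_comap (H := (⊥ : Subgroup (L ⧸ H₁))) π N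
    rw [Subgroup.relIndex_bot_left, MonoidHom.comap_bot, QuotientGroup.ker_mk'] at h1
    exact h1.symm
  rw [hNbcard, ← Finset.add_sum_erase Finset.univ _ (Finset.mem_univ ω₀), hterm0,
    Finset.sum_congr rfl (fun ω hω => hterm ω (Finset.ne_of_mem_erase hω)), Finset.sum_const,
    smul_eq_mul] at hcard
  rw [hcard]
  simp

/-- If `K/H₁` is abelian of non-prime-power order, some normal subgroup of `L` lies strictly
between `H₁` and `K`. -/
theorem exists_normal_between (K H₁ : Subgroup L) [hKn : K.Normal] [hH₁n : H₁.Normal]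
    (hH₁K : H₁ ≤ K) (hab : ⁅K, K⁆ ≤ H₁)
    (hnpp : ¬ ∃ p a : ℕ, p.Prime ∧ H₁.relIndex K = p ^ a) :
    ∃ N : Subgroup L, N.Normal ∧ H₁ < N ∧ N < K := by
  classical
  set r := H₁.relIndex K with hr
  have hr0 : r ≠ 0 := by rw [hr, Subgroup.relIndex]; exact Subgroup.index_ne_zero_of_finite
  have hr1 : r ≠ 1 := fun h => hnpp ⟨2, 0, Nat.prime_two, by rw [h]; rfl⟩
  set p := r.minFac with hp
  have hpp : p.Prime := Nat.minFac_prime hr1
  have hpr : p ∣ r := Nat.minFac_dvd r
  set a := r.factorization p with ha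
  set n := p ^ a with hn
  set r' := r / n with hr'
  have hrn : n * r' = r := Nat.ordProj_mul_ordCompl_eq_self r p
  have hcop : Nat.Coprime p r' := Nat.coprime_ordCompl hpp hr0
  have hr'1 : r' ≠ 1 := by
    intro h
    apply hnpp
    refine ⟨p, a, hpp, ?_⟩
    rw [← hrn, h, mul_one]
  have ha1 : 1 ≤ a := hpp.factorization_pos_of_dvd hr0 hpr
  set q := r'.minFac with hq
  have hqp : q.Prime := Nat.minFac_prime hr'1
  have hqr' : q ∣ r' := Nat.minFac_dvd r'
  have hqr : q ∣ r := hqr'.trans (Dvd.intro_left _ hrn)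
  have hqnp : q ≠ p := by
    intro h
    have h1 : p ∣ r' := h ▸ hqr'
    exact hpp.one_lt.ne' (Nat.Coprime.eq_one_of_dvd hcop h1)
  set π := QuotientGroup.mk' H₁ with hπ
  have hπ1 : ∀ x : L, π x = 1 ↔ x ∈ H₁ := fun x => QuotientGroup.eq_one_iff x
  have hcomm : ∀ x ∈ K, ∀ y ∈ K, Commute (π x) (π y) := by
    intro x hx y hy
    show π x * π y = π y * π x
    rw [← map_mul, ← map_mul]
    apply (QuotientGroup.eq).mpr
    have h1 : (x * y)⁻¹ * (y * x) = ⁅y⁻¹, x⁻¹⁆ := by rw [commutatorElement_def]; group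
    rw [h1]
    exact hab (Subgroup.commutator_mem_commutator (K.inv_mem hy) (K.inv_mem hx))
  let N : Subgroup L :=
    { carrier := {x | x ∈ K ∧ x ^ n ∈ H₁}
      mul_mem' := by
        rintro x y ⟨hx, hxn⟩ ⟨hy, hyn⟩
        refine ⟨K.mul_mem hx hy, ?_⟩
        rw [← hπ1, map_pow, map_mul, (hcomm x hx y hy).mul_pow, ← map_pow, ← map_pow,
          (hπ1 _).mpr hxn, (hπ1 _).mpr hyn, one_mul]
      one_mem' := ⟨K.one_mem, by rw [one_pow]; exact H₁.one_mem⟩
      inv_mem' := by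
        rintro x ⟨hx, hxn⟩
        exact ⟨K.inv_mem hx, by rw [inv_pow]; exact H₁.inv_mem hxn⟩ }
  have hNmem : ∀ x, x ∈ N ↔ x ∈ K ∧ x ^ n ∈ H₁ := fun x => Iff.rfl
  have hNn : N.Normal := ⟨by
    intro x hx g
    rw [hNmem] at hx ⊢
    refine ⟨hKn.conj_mem x hx.1 g, ?_⟩
    rw [conj_pow]
    exact hH₁n.conj_mem _ hx.2 g⟩
  have hH₁N : H₁ ≤ N := fun x hx => (hNmem x).mpr ⟨hH₁K hx, H₁.pow_mem hx n⟩
  have hNK : N ≤ K := fun x hx => ((hNmem x).mp hx).1
  haveI : (H₁.subgroupOf K).Normal := inferInstance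
  have hcardQ : Nat.card (↥K ⧸ H₁.subgroupOf K) = r := rfl
  have cauchy : ∀ s : ℕ, s.Prime → s ∣ r →
      ∃ k ∈ K, k ∉ H₁ ∧ k ^ s ∈ H₁ ∧ (∀ j : ℕ, k ^ j ∈ H₁ → s ∣ j) := by
    intro s hs hsr
    haveI := Fact.mk hs
    obtain ⟨z, hz⟩ := exists_prime_orderOf_dvd_card' (G := ↥K ⧸ H₁.subgroupOf K) s
      (hcardQ ▸ hsr)
    obtain ⟨k, rfl⟩ := QuotientGroup.mk_surjective z
    have hpow : ∀ j : ℕ, (k : L) ^ j ∈ H₁ ↔ ((k : ↥K ⧸ H₁.subgroupOf K)) ^ j = 1 := by
      intro j
      rw [← QuotientGroup.mk_pow, QuotientGroup.eq_one_iff, Subgroup.mem_subgroupOf]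
      rfl
    refine ⟨k, k.2, ?_, ?_, ?_⟩
    · intro h
      have h1 := (hpow 1).mp (by simpa using h)
      rw [pow_one] at h1
      rw [h1, orderOf_one] at hz
      exact hs.one_lt.ne hz
    · rw [hpow, ← hz]; exact pow_orderOf_eq_one _
    · intro j hj
      rw [← hz]
      exact orderOf_dvd_of_pow_eq_one ((hpow j).mp hj)
  refine ⟨N, hNn, lt_of_le_of_ne hH₁N ?_, lt_of_le_of_ne hNK ?_⟩
  · intro h
    obtain ⟨k, hkK, hkH, hkp, -⟩ := cauchy p hpp hpr
    apply hkH
    rw [h, hNmem]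
    refine ⟨hkK, ?_⟩
    have h1 : n = p * p ^ (a - 1) := by
      rw [hn, ← pow_succ']
      congr 1
      omega
    rw [h1, pow_mul]
    exact H₁.pow_mem hkp _
  · intro h
    obtain ⟨k, hkK, hkH, hkq, hkdvd⟩ := cauchy q hqp hqr
    have hkN : k ∈ N := h ▸ hkK
    have h1 := hkdvd n ((hNmem k).mp hkN).2
    have h2 := (Nat.prime_dvd_prime_iff_eq hqp hpp).mp (hqp.dvd_of_dvd_pow h1)
    exact hqnp h2

/-- A finite group `K` with normal subgroups `M' ≤ H' = M' K'` such that `[K:M'] = p ^ m` and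
`[K:H'] = p` has `m = 1`. -/
theorem index_eq_prime_of_sup_commutator {K : Type*} [Group K] [Finite K] (M' H' : Subgroup K)
    [M'.Normal] [H'.Normal] (hH : H' = M' ⊔ commutator K) (p m : ℕ) (hp : p.Prime)
    (hM : M'.index = p ^ m) (hH' : H'.index = p) : m = 1 := by
  classical
  haveI : Fintype (IrrCharacter K) := Fintype.ofFinite _
  have hMH : M' ≤ H' := hH ▸ le_sup_left
  obtain ⟨FM, hFMmem, hsM⟩ : ∃ FM : Finset (IrrCharacter K),
      (∀ χ : IrrCharacter K, χ ∈ FM ↔ ∀ n ∈ M', (χ : K → ℂ) n = (χ : K → ℂ) 1) ∧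
      ∑ χ ∈ FM, charDegree (χ : K → ℂ) ^ 2 = M'.index :=
    ⟨_, fun χ => by simp, Cfsg.Agent.Helper80.irr_sum_sq_of_le_ker (G := K) M'⟩
  obtain ⟨FH, hFHmem, hsH⟩ : ∃ FH : Finset (IrrCharacter K),
      (∀ χ : IrrCharacter K, χ ∈ FH ↔ ∀ n ∈ H', (χ : K → ℂ) n = (χ : K → ℂ) 1) ∧
      ∑ χ ∈ FH, charDegree (χ : K → ℂ) ^ 2 = H'.index :=
    ⟨_, fun χ => by simp, Cfsg.Agent.Helper80.irr_sum_sq_of_le_ker (G := K) H'⟩
  have hsub : FH ⊆ FM := fun χ hχ =>
    (hFMmem χ).mpr (fun n hn => (hFHmem χ).mp hχ n (hMH hn))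
  have hsplit := Finset.sum_sdiff hsub (f := fun χ : IrrCharacter K => charDegree (χ : K → ℂ) ^ 2)
  have hdvd : ∀ χ ∈ FM \ FH, p ^ 2 ∣ charDegree (χ : K → ℂ) ^ 2 := by
    intro χ hχ
    have hχM := (hFMmem χ).mp (Finset.mem_sdiff.mp hχ).1
    have hχH : ¬ ∀ n ∈ H', (χ : K → ℂ) n = (χ : K → ℂ) 1 :=
      fun h => (Finset.mem_sdiff.mp hχ).2 ((hFHmem χ).mpr h)
    have hne1 : charDegree (χ : K → ℂ) ≠ 1 := by
      intro h1
      apply hχH
      have hker : H' ≤ Cfsg.Agent.Helper79.charKer (Cfsg.Agent.Helper79.irr_isCharacter χ) := by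
        rw [hH]
        apply sup_le
        · intro x hx; exact hχM x hx
        · intro x hx
          exact Cfsg.Agent.Helper79.irr_commutator_le_ker_of_linear χ h1 x hx
      intro n hn
      exact hker hn
    have hdeg : charDegree (χ : K → ℂ) ∣ p ^ m := by
      have h1 := Cfsg.Agent.Helper80.irr_degree_mul_card_ker_dvd χ
      have h2 : Nat.card M' ∣ Nat.card {g : K // (χ : K → ℂ) g = (χ : K → ℂ) 1} := by
        rw [← Cfsg.Agent.Helper79.card_charKer (Cfsg.Agent.Helper79.irr_isCharacter χ)]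
        exact Subgroup.card_dvd_of_le (fun x hx => hχM x hx)
      have h3 : charDegree (χ : K → ℂ) * Nat.card M' ∣ Nat.card K :=
        (Nat.mul_dvd_mul_left _ h2).trans h1
      rw [← Subgroup.card_mul_index M', mul_comm (Nat.card M'), hM] at h3
      exact Nat.dvd_of_mul_dvd_mul_right Nat.card_pos h3
    obtain ⟨i, -, hi⟩ := (Nat.dvd_prime_pow hp).mp hdeg
    rw [hi] at hne1 ⊢
    cases i with
    | zero => simp at hne1
    | succ i => exact pow_dvd_pow_of_dvd (dvd_pow_self p (Nat.succ_ne_zero i)) 2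
  obtain ⟨c, hc⟩ := Finset.dvd_sum hdvd
  rw [hc, hsH, hsM, hH', hM] at hsplit
  have hp2 := hp.two_le
  rcases m with _ | _ | m
  · exfalso
    rw [pow_zero] at hsplit
    have : p ≤ 1 := by
      calc p ≤ p ^ 2 * c + p := Nat.le_add_left _ _
        _ = 1 := hsplit
    omega
  · rfl
  · exfalso
    have h1 : p ^ 2 ∣ p ^ (m + 1 + 1) := pow_dvd_pow p (by omega)
    rw [← hsplit] at h1
    have h2 : p ^ 2 ∣ p := (Nat.dvd_add_right (Dvd.intro _ rfl)).mp h1
    have h3 := Nat.le_of_dvd hp.pos h2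
    nlinarith

end Coh6

end Cfsg.Agent.Helper25
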