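import Mathlib
import Cfsg.Agent.Helper25.Coh6
import Cfsg.Agent.Helper75.CliffordCorr
import Cfsg.Agent.Helper79.Sep
import Cfsg.Agent.Helper15.CharInner
import Cfsg.Agent.S1492

/-!
# Tools for Peterfalvi (6.5) (helper25)

* `coherent_of_degree_chain`: a coherence system of irreducible characters whose degrees form a
  divisibility chain with enough mass below every degree is coherent.
* `indFun_trivial_on_iff`: `Z ≤ ker (Ind θ)` iff `Z ≤ ker θ` for `Z ⊴ L` inside `K ⊴ L`.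
* `mem_sdiff_inducedIrrAbove_iff`, `sdiff_inducedIrrAbove_eq_irr`.
* `coherent_sdiff_pgroup`: Peterfalvi (6.5) when `K` is a `p`-group.
-/

set_option autoImplicit false
set_option linter.style.haveILetI false
set_option linter.unusedVariables false
set_option linter.unusedSectionVars false
set_option maxHeartbeats 1000000

namespace Cfsg.Agent.Helper25

open Cfsg

section Coh7

variable {L : Type*} [Group L] [Fintype L] {G : Type*} [Group G] [Fintype G]

theorem coherent_of_degree_chain {S : Set (L → ℂ)} {τ : (L → ℂ) → (G → ℂ)}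
    {R : (L → ℂ) → Finset (G → ℂ)} (hS : IsCoherenceSystem S τ R)
    (d : (L → ℂ) → ℕ) (hd : ∀ φ ∈ S, φ 1 = (d φ : ℂ)) (hn : ∀ φ ∈ S, classInner φ φ = 1)
    (T : Finset (L → ℂ)) (hT : (↑T : Set (L → ℂ)) = S)
    (hdvd : ∀ χ ∈ T, ∀ φ ∈ T, d φ ≤ d χ → d φ ∣ d χ)
    (h3 : ∀ χ ∈ T, ∀ φ ∈ T, d φ < d χ → 3 * d φ ≤ d χ)
    (hmass : ∀ χ ∈ T, ∀ φ ∈ T, d φ < d χ →
      (d χ) ^ 2 ≤ ∑ ξ ∈ T.filter (fun ξ => d ξ < d χ), (d ξ) ^ 2) :
    IsCoherent S ({1}ᶜ : Set L) τ := by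
  classical
  have hTS : ∀ ξ ∈ T, ξ ∈ S := fun ξ hξ => by rw [← hT]; exact Finset.mem_coe.mpr hξ
  have hTne : T.Nonempty := by
    obtain ⟨χ, hχ⟩ := hS.nonempty
    exact ⟨χ, by rw [← Finset.mem_coe, hT]; exact hχ⟩
  have hTconj : ∀ ξ ∈ T, Cfsg.conjFun ξ ∈ T := fun ξ hξ => by
    rw [← Finset.mem_coe, hT]; exact hS.conj_mem ξ (hTS ξ hξ)
  have hdconj : ∀ ξ ∈ T, d (Cfsg.conjFun ξ) = d ξ := by
    intro ξ hξ
    have h1 := hd _ (hS.conj_mem ξ (hTS ξ hξ))
    rw [cohSys_conj_one hS (hTS ξ hξ), hd ξ (hTS ξ hξ)] at h1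
    exact_mod_cast h1.symm
  obtain ⟨φ₀, hφ₀T, hφ₀min⟩ := Finset.exists_min_image T d hTne
  set X₀ := T.filter (fun ξ => d ξ = d φ₀) with hX₀
  set n : (L → ℂ) → ℕ := fun _ => 1 with hndef
  have hn' : ∀ φ ∈ S, classInner φ φ = ((n φ : ℕ) : ℂ) := fun φ hφ => by
    rw [hn φ hφ]; simp [hndef]
  have hX₀conj : ∀ ψ ∈ X₀, Cfsg.conjFun ψ ∈ X₀ := by
    intro ξ hξ
    have hξ' := Finset.mem_filter.mp hξ
    exact Finset.mem_filter.mpr ⟨hTconj ξ hξ'.1, by rw [hdconj ξ hξ'.1]; exact hξ'.2⟩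
  have hX₀coh : IsCoherent (↑X₀ : Set (L → ℂ)) ({1}ᶜ : Set L) τ := by
    have hsub : (↑X₀ : Set (L → ℂ)) ⊆ S := fun ξ hξ =>
      hTS ξ (Finset.mem_filter.mp (Finset.mem_coe.mp hξ)).1
    have hS₀ := cohSys_subsystem hS hsub
      ⟨φ₀, Finset.mem_coe.mpr (Finset.mem_filter.mpr ⟨hφ₀T, rfl⟩)⟩
      (fun ξ hξ => Finset.mem_coe.mpr (hX₀conj ξ (Finset.mem_coe.mp hξ)))
    apply uniform_degree_coherent hS₀
    intro φ hφ ψ hψ
    have hφ' := Finset.mem_filter.mp (Finset.mem_coe.mp hφ)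
    have hψ' := Finset.mem_filter.mp (Finset.mem_coe.mp hψ)
    rw [hd φ (hTS φ hφ'.1), hd ψ (hTS ψ hψ'.1), hφ'.2, hψ'.2]
  let P : Finset (L → ℂ) → Prop := fun X =>
    X₀ ⊆ X ∧ (∀ ψ ∈ X, Cfsg.conjFun ψ ∈ X) ∧ IsCoherent (↑X : Set (L → ℂ)) ({1}ᶜ : Set L) τ
  have hPX₀ : P X₀ := ⟨Finset.Subset.refl _, hX₀conj, hX₀coh⟩
  set 𝒳 := T.powerset.filter P with h𝒳
  have hne𝒳 : 𝒳.Nonempty :=
    ⟨X₀, by rw [h𝒳, Finset.mem_filter, Finset.mem_powerset]; exact ⟨Finset.filter_subset _ _, hPX₀⟩⟩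
  obtain ⟨X, hX, hXmax⟩ := Finset.exists_max_image 𝒳 Finset.card hne𝒳
  rw [h𝒳, Finset.mem_filter, Finset.mem_powerset] at hX
  obtain ⟨hXT, hX₀X, hXconj, hXcoh⟩ := hX
  have hXS : (↑X : Set (L → ℂ)) ⊆ S := fun ξ hξ => hTS ξ (hXT (Finset.mem_coe.mp hξ))
  have hXeq : X = T := by
    by_contra hneq
    have hdiff : (T \ X).Nonempty := by
      rw [Finset.sdiff_nonempty]
      intro h
      exact hneq (Finset.Subset.antisymm hXT h)
    obtain ⟨χ, hχmem, hχmin⟩ := Finset.exists_min_image (T \ X) d hdiff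
    have hχT := (Finset.mem_sdiff.mp hχmem).1
    have hχX := (Finset.mem_sdiff.mp hχmem).2
    have hχcX : Cfsg.conjFun χ ∉ X := by
      intro h
      apply hχX
      have := hXconj _ h
      rwa [conjFun_conjFun] at this
    have hφ₀X : φ₀ ∈ X := hX₀X (Finset.mem_filter.mpr ⟨hφ₀T, rfl⟩)
    have hlt : d φ₀ < d χ := by
      rcases lt_or_eq_of_le (hφ₀min χ hχT) with h | h
      · exact h
      · exfalso; exact hχX (hX₀X (Finset.mem_filter.mpr ⟨hχT, h.symm⟩))
    have hlow : T.filter (fun ξ => d ξ < d χ) ⊆ X := by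
      intro ξ hξ
      obtain ⟨hξT, hξlt⟩ := Finset.mem_filter.mp hξ
      by_contra hξX
      have := hχmin ξ (Finset.mem_sdiff.mpr ⟨hξT, hξX⟩)
      omega
    have hineq : (2 * d χ * d φ₀ : ℝ) < ∑ ξ ∈ X, ((d ξ : ℝ) ^ 2 / (n ξ : ℝ)) := by
      have h1 := hmass χ hχT φ₀ hφ₀T hlt
      have h2 := h3 χ hχT φ₀ hφ₀T hlt
      have h4 : ∑ ξ ∈ T.filter (fun ξ => d ξ < d χ), (d ξ) ^ 2 ≤ ∑ ξ ∈ X, (d ξ) ^ 2 :=
        Finset.sum_le_sum_of_subset hlow
      have h5 : ∑ ξ ∈ X, ((d ξ : ℝ) ^ 2 / (n ξ : ℝ)) = ((∑ ξ ∈ X, (d ξ) ^ 2 : ℕ) : ℝ) := by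
        push_cast
        apply Finset.sum_congr rfl
        intro ξ _
        simp [hndef]
      rw [h5]
      have h6 : 2 * d χ * d φ₀ < ∑ ξ ∈ X, (d ξ) ^ 2 := by
        have h7 : 2 * d χ * d φ₀ < d χ ^ 2 := by
          have h8 : d χ * (3 * d φ₀) ≤ d χ * d χ := Nat.mul_le_mul_left _ h2
          rcases Nat.eq_zero_or_pos (d φ₀) with h0 | h0
          · rw [h0, mul_zero]
            exact pow_pos (by omega) 2
          · have h9 : 0 < d χ * d φ₀ := Nat.mul_pos (by omega) h0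
            nlinarith
        exact lt_of_lt_of_le h7 (h1.trans h4)
      exact_mod_cast h6
    have hext := extend_coherent hS d n hd hn' X hXS hXconj hXcoh χ (hTS χ hχT) hχX hχcX φ₀
      hφ₀X (hdvd χ hχT φ₀ hφ₀T hlt.le) hineq
    set X' : Finset (L → ℂ) := X ∪ {χ, Cfsg.conjFun χ} with hX'
    have hX'c : (↑X' : Set (L → ℂ)) = ↑X ∪ {χ, Cfsg.conjFun χ} := by
      rw [hX']; push_cast; rfl
    have hX'mem : X' ∈ 𝒳 := by
      rw [h𝒳, Finset.mem_filter, Finset.mem_powerset]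
      refine ⟨?_, ?_, ?_, ?_⟩
      · intro ξ hξ
        rw [hX', Finset.mem_union, Finset.mem_insert, Finset.mem_singleton] at hξ
        rcases hξ with h | h | h
        · exact hXT h
        · rw [h]; exact hχT
        · rw [h]; exact hTconj χ hχT
      · exact hX₀X.trans Finset.subset_union_left
      · intro ψ hψ
        rw [hX', Finset.mem_union, Finset.mem_insert, Finset.mem_singleton] at hψ ⊢
        rcases hψ with h | h | h
        · left; exact hXconj ψ h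
        · right; right; rw [h]
        · right; left; rw [h, conjFun_conjFun]
      · rw [hX'c]; exact hext
    have hcard := hXmax X' hX'mem
    have hlt' : X.card < X'.card := by
      apply Finset.card_lt_card
      rw [Finset.ssubset_iff_of_subset Finset.subset_union_left]
      refine ⟨χ, ?_, hχX⟩
      rw [Finset.mem_union, Finset.mem_insert]
      right; left; rfl
    omega
  rw [hXeq, hT] at hXcoh
  exact hXcoh

/-- For `Z ⊴ L` inside `K ⊴ L` and a character `θ` of `K`: `Ind θ` is trivial on `Z` iff `θ` is. -/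
theorem indFun_trivial_on_iff (K Z : Subgroup L) [hK : K.Normal] [hZ : Z.Normal] (hZK : Z ≤ K)
    {θ : K → ℂ} (hθ : IsCharacter K θ) :
    (∀ z ∈ Z, indFun K θ z = indFun K θ 1) ↔ (∀ a : K, (a : L) ∈ Z → θ a = θ 1) := by
  constructor
  · intro h a ha
    have h1 := Cfsg.Agent.Helper75.indFun_apply_mem K θ a
    have h2 := Cfsg.Agent.Helper75.indFun_apply_mem K θ (1 : K)
    have h3 : indFun K θ (a : L) = indFun K θ ((1 : K) : L) := by
      rw [Subgroup.coe_one]; exact h a ha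
    rw [h1, h2] at h3
    have hKne : (Nat.card K : ℂ)⁻¹ ≠ 0 := inv_ne_zero (by exact_mod_cast Nat.card_pos.ne')
    have h4 := mul_left_cancel₀ hKne h3
    have hone : ∀ x : L, Cfsg.Agent.Helper75.conjFun K x θ 1 = θ 1 := by
      intro x
      rw [Cfsg.Agent.Helper75.conjFun_apply]
      congr 1
      apply Subtype.ext
      simp
    have hdeg : θ 1 = (charDegree θ : ℂ) := Cfsg.Agent.Helper79.isCharacter_one_eq_charDegree hθ
    have hle : ∀ x : L, (Cfsg.Agent.Helper75.conjFun K x θ a).re ≤ (charDegree θ : ℝ) := by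
      intro x
      rw [Cfsg.Agent.Helper75.conjFun_apply]
      exact (Complex.re_le_norm _).trans (Cfsg.Agent.Helper80.isCharacter_norm_le hθ _)
    have hsum : ∑ x : L, ((charDegree θ : ℝ) - (Cfsg.Agent.Helper75.conjFun K x θ a).re) = 0 := by
      have h5 := congrArg Complex.re h4
      rw [Complex.re_sum, Complex.re_sum] at h5
      rw [Finset.sum_sub_distrib, h5]
      simp [hone, hdeg]
    have hzero := (Finset.sum_eq_zero_iff_of_nonneg (fun x _ => sub_nonneg.mpr (hle x))).mp hsum 1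
      (Finset.mem_univ _)
    rw [Cfsg.Agent.Helper75.conjFun_one] at hzero
    have hre : (θ a).re = (charDegree θ : ℝ) := by linarith
    have hnorm := Cfsg.Agent.Helper80.isCharacter_norm_le hθ a
    have him : (θ a).im = 0 := by
      have h6 : ‖θ a‖ ^ 2 = (θ a).re ^ 2 + (θ a).im ^ 2 := by
        rw [Complex.sq_norm, Complex.normSq_apply]; ring
      have h7 : ‖θ a‖ ^ 2 ≤ (charDegree θ : ℝ) ^ 2 := pow_le_pow_left₀ (norm_nonneg _) hnorm 2
      nlinarith [sq_nonneg (θ a).im]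
    rw [hdeg]
    apply Complex.ext
    · simp [hre]
    · simp [him]
  · intro h z hz
    exact Cfsg.Agent.Helper3.indFun_eq_of_normal_le K θ Z hZK h z hz

theorem mem_sdiff_inducedIrrAbove_iff (K Z : Subgroup L) [hK : K.Normal] [hZ : Z.Normal]
    (hZK : Z ≤ K) (φ : L → ℂ) :
    φ ∈ inducedIrrAbove K ⊥ \ inducedIrrAbove K Z ↔
      ∃ θ : K → ℂ, IsIrrCharacter K θ ∧ (∃ a : K, (a : L) ∈ Z ∧ θ a ≠ θ 1) ∧ φ = indFun K θ := by
  constructor
  · rintro ⟨⟨θ, hθ, hne, -, rfl⟩, hnot⟩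
    refine ⟨θ, hθ, ?_, rfl⟩
    by_contra hcon
    push Not at hcon
    exact hnot ⟨θ, hθ, hne, hcon, rfl⟩
  · rintro ⟨θ, hθ, ⟨a, haZ, hane⟩, rfl⟩
    refine ⟨⟨θ, hθ, ?_, fun b hb => ?_, rfl⟩, ?_⟩
    · intro h
      apply hane
      rw [h]
    · have h1 : b = 1 := Subtype.ext (by simpa using hb)
      rw [h1]
    · rintro ⟨θ', hθ', -, hker', heq⟩
      apply hane
      have h1 : ∀ z ∈ Z, indFun K θ z = indFun K θ 1 := by
        rw [heq]
        exact (indFun_trivial_on_iff K Z hZK (Cfsg.Agent.Helper80.isCharacter_of_irr hθ')).mpr hker'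
      exact (indFun_trivial_on_iff K Z hZK (Cfsg.Agent.Helper80.isCharacter_of_irr hθ)).mp h1 a haZ

theorem sdiff_inducedIrrAbove_conj_mem (K Z : Subgroup L) {φ : L → ℂ}
    (hφ : φ ∈ inducedIrrAbove K ⊥ \ inducedIrrAbove K Z) :
    Cfsg.conjFun φ ∈ inducedIrrAbove K ⊥ \ inducedIrrAbove K Z := by
  refine ⟨inducedIrrAbove_conj_mem K ⊥ hφ.1, fun h => hφ.2 ?_⟩
  have := inducedIrrAbove_conj_mem K Z h
  rwa [conjFun_conjFun] at this

/-- Peterfalvi (6.5), first part: `S ∖ S(Z)` is the set of irreducible characters of `L` not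
trivial on `Z`, if all its members are irreducible. -/
theorem sdiff_inducedIrrAbove_eq_irr (K Z : Subgroup L) [hK : K.Normal] [hZ : Z.Normal]
    (hZK : Z ≤ K)
    (hirr : ∀ χ ∈ inducedIrrAbove K ⊥ \ inducedIrrAbove K Z, IsIrrCharacter L χ) :
    inducedIrrAbove K ⊥ \ inducedIrrAbove K Z =
      {χ | IsIrrCharacter L χ ∧ ∃ z ∈ Z, χ z ≠ χ 1} := by
  classical
  ext χ
  constructor
  · intro hχ
    refine ⟨hirr χ hχ, ?_⟩
    obtain ⟨θ, hθ, ⟨a, haZ, hane⟩, rfl⟩ := (mem_sdiff_inducedIrrAbove_iff K Z hZK χ).mp hχ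
    by_contra hcon
    push Not at hcon
    exact hane ((indFun_trivial_on_iff K Z hZK
      (Cfsg.Agent.Helper80.isCharacter_of_irr hθ)).mp hcon a haZ)
  · rintro ⟨hχirr, z₀, hz₀, hne⟩
    haveI : Fintype (IrrCharacter K) := Fintype.ofFinite _
    have hχc : IsCharacter L χ := Cfsg.Agent.Helper80.isCharacter_of_irr hχirr
    have hΦ : IsCharacter K (fun k : K => χ k) := Cfsg.Agent.Helper79.isCharacter_restrict hχc K
    have hsum := Cfsg.Agent.Helper75.character_eq_sum_irr hΦ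
    have hex : ∃ θ : IrrCharacter K, classInner (fun k : K => χ k) (θ : K → ℂ) ≠ 0 ∧
        (θ : K → ℂ) ⟨z₀, hZK hz₀⟩ ≠ (θ : K → ℂ) 1 := by
      by_contra hcon
      push Not at hcon
      apply hne
      have e1 := congrFun hsum ⟨z₀, hZK hz₀⟩
      have e2 := congrFun hsum 1
      simp only [Finset.sum_apply, Pi.smul_apply, smul_eq_mul] at e1 e2
      have e3 : χ z₀ = ∑ c : IrrCharacter K,
          classInner (fun k : K => χ k) (c : K → ℂ) * (c : K → ℂ) ⟨z₀, hZK hz₀⟩ := e1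
      have e4 : χ 1 = ∑ c : IrrCharacter K,
          classInner (fun k : K => χ k) (c : K → ℂ) * (c : K → ℂ) 1 := by
        rw [← e2]; simp
      rw [e3, e4]
      apply Finset.sum_congr rfl
      intro θ _
      by_cases h0 : classInner (fun k : K => χ k) (θ : K → ℂ) = 0
      · rw [h0, zero_mul, zero_mul]
      · rw [hcon θ h0]
    obtain ⟨θ, hθinner, hθne⟩ := hex
    have hφmem : indFun K (θ : K → ℂ) ∈ inducedIrrAbove K ⊥ \ inducedIrrAbove K Z :=
      (mem_sdiff_inducedIrrAbove_iff K Z hZK _).mpr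
        ⟨θ, θ.2, ⟨⟨z₀, hZK hz₀⟩, hz₀, hθne⟩, rfl⟩
    have hφirr := hirr _ hφmem
    have hinner : classInner (indFun K (θ : K → ℂ)) χ ≠ 0 := by
      rw [Cfsg.Agent.Helper3.frobenius_reciprocity K (θ : K → ℂ) χ
        (Cfsg.Agent.Helper79.isCharacter_isClassFunction hχc),
        Cfsg.Agent.Helper75.classInner_conj_symm]
      intro h
      apply hθinner
      simpa using h
    have heq : indFun K (θ : K → ℂ) = χ := by
      by_contra hne'
      exact hinner (Cfsg.Agent.Helper15.irr_inner_ne hφirr hχirr hne')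
    rw [← heq]; exact hφmem

/-- `S ∖ S(Z)` is nonempty when `Z ≠ 1`. -/
theorem sdiff_inducedIrrAbove_nonempty (K Z : Subgroup L) [hK : K.Normal] [hZ : Z.Normal]
    (hZK : Z ≤ K) (hZ1 : Z ≠ ⊥) : (inducedIrrAbove K ⊥ \ inducedIrrAbove K Z).Nonempty := by
  classical
  obtain ⟨⟨z, hz⟩, hz1'⟩ := (Subgroup.ne_bot_iff_exists_ne_one (H := Z)).mp hZ1
  have hz1 : z ≠ 1 := fun h => hz1' (Subtype.ext h)
  have hex : ∃ θ : IrrCharacter K, (θ : K → ℂ) ⟨z, hZK hz⟩ ≠ (θ : K → ℂ) 1 := by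
    by_contra hcon
    push Not at hcon
    have h1 := Cfsg.Agent.Helper79.isConj_of_forall_irr_eq hcon
    have h2 : (⟨z, hZK hz⟩ : K) = 1 := isConj_one_left.mp h1
    exact hz1 (congrArg Subtype.val h2)
  obtain ⟨θ, hθ⟩ := hex
  exact ⟨indFun K (θ : K → ℂ), (mem_sdiff_inducedIrrAbove_iff K Z hZK _).mpr
    ⟨θ, θ.2, ⟨⟨z, hZK hz⟩, hz, hθ⟩, rfl⟩⟩

/-- Peterfalvi (6.5) when `K` is a `p`-group (`p` odd, `[L:K]` prime to `p`): `S ∖ S(Z)` is
coherent if `Z ≠ 1` is central in `K`, normal in `L`, and all members of `S ∖ S(Z)` are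
irreducible. -/
theorem coherent_sdiff_pgroup (K : Subgroup L) [hK : K.Normal] (τ : (L → ℂ) → (G → ℂ))
    (R : (L → ℂ) → Finset (G → ℂ)) (hS : IsCoherenceSystem (inducedIrrAbove K ⊥) τ R)
    (Z : Subgroup L) [hZ : Z.Normal] (hZ1 : Z ≠ ⊥) (hZK : Z ≤ K)
    (hZc : ∀ z ∈ Z, ∀ k ∈ K, z * k = k * z)
    (hirr : ∀ χ ∈ inducedIrrAbove K ⊥ \ inducedIrrAbove K Z, IsIrrCharacter L χ)
    (p m : ℕ) (hp : p.Prime) (hp3 : 3 ≤ p) (hKcard : Nat.card K = p ^ m)
    (hcop : Nat.Coprime K.index p) :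
    IsCoherent (inducedIrrAbove K ⊥ \ inducedIrrAbove K Z) ({1}ᶜ : Set L) τ := by
  classical
  set S₁ := inducedIrrAbove K ⊥ \ inducedIrrAbove K Z with hS₁def
  have hne := sdiff_inducedIrrAbove_nonempty K Z hZK hZ1
  have hS₁ : IsCoherenceSystem S₁ τ R := cohSys_subsystem hS Set.sdiff_subset hne
    (fun χ hχ => sdiff_inducedIrrAbove_conj_mem K Z hχ)
  have hfin : S₁.Finite := finite_of_orthogonal S₁ hS₁.orthogonal
    (fun χ hχ => cohSys_norm_ne hS₁ hχ)
  set T := hfin.toFinset with hTdef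
  have hT : (↑T : Set (L → ℂ)) = S₁ := hfin.coe_toFinset
  have hTS : ∀ ξ ∈ T, ξ ∈ S₁ := fun ξ hξ => by rw [← hT]; exact Finset.mem_coe.mpr hξ
  have hde : ∀ φ : L → ℂ, ∃ j : ℕ, φ ∈ S₁ →
      φ 1 = ((K.index * p ^ j : ℕ) : ℂ) ∧ p ^ (2 * j) ∣ Z.relIndex K := by
    intro φ
    by_cases hφ : φ ∈ S₁
    · obtain ⟨θ, hθ, -, rfl⟩ := (mem_sdiff_inducedIrrAbove_iff K Z hZK φ).mp hφ
      have hdvd1 : charDegree θ ∣ p ^ m := by
        have h1 := Cfsg.Agent.Helper80.irr_degree_mul_card_ker_dvd (⟨θ, hθ⟩ : IrrCharacter K)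
        rw [hKcard] at h1
        exact (Dvd.intro _ rfl).trans h1
      obtain ⟨j, -, hj⟩ := (Nat.dvd_prime_pow hp).mp hdvd1
      have hθ1 : θ 1 = ((p ^ j : ℕ) : ℂ) := by
        rw [← hj]
        exact Cfsg.Agent.Helper80.irr_one_eq ⟨θ, hθ⟩
      refine ⟨j, fun _ => ⟨?_, ?_⟩⟩
      · rw [Cfsg.Agent.Helper3.indFun_apply_one, hθ1]
        push_cast
        ring
      · have h2 := Cfsg.Agent.S1492.result θ hθ ⊥ ⊤ (Z.subgroupOf K) bot_le le_top
          (fun c _ b hb => by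
            rw [Subgroup.mem_bot] at hb ⊢
            rw [hb]; simp)
          (fun d hd c _ => by
            rw [Subgroup.mem_bot]
            have h3 := hZc _ (Subgroup.mem_subgroupOf.mp hd) _ c.2
            apply Subtype.ext
            simp only [Subgroup.coe_mul, Subgroup.coe_inv, Subgroup.coe_one]
            rw [h3]; group)
          (fun b hb => by
            rw [Subgroup.mem_bot] at hb
            rw [hb])
        rw [hθ1, Complex.norm_natCast, Subgroup.card_top] at h2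
        have h4 : (p ^ j) ^ 2 * Nat.card K * Nat.card (Z.subgroupOf K) ≤ Nat.card K ^ 2 := by
          exact_mod_cast h2
        have h5 : Nat.card (Z.subgroupOf K) * (Z.subgroupOf K).index = Nat.card K :=
          Subgroup.card_mul_index _
        have h6 : (p ^ j) ^ 2 ≤ Z.relIndex K := by
          have hpos : 0 < Nat.card K * Nat.card (Z.subgroupOf K) :=
            Nat.mul_pos Nat.card_pos Nat.card_pos
          have h7 : (p ^ j) ^ 2 * (Nat.card K * Nat.card (Z.subgroupOf K)) ≤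
              Z.relIndex K * (Nat.card K * Nat.card (Z.subgroupOf K)) := by
            calc (p ^ j) ^ 2 * (Nat.card K * Nat.card (Z.subgroupOf K))
                = (p ^ j) ^ 2 * Nat.card K * Nat.card (Z.subgroupOf K) := by ring
              _ ≤ Nat.card K ^ 2 := h4
              _ = Nat.card K * (Nat.card (Z.subgroupOf K) * (Z.subgroupOf K).index) := by
                  rw [h5]; ring
              _ = Z.relIndex K * (Nat.card K * Nat.card (Z.subgroupOf K)) := by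
                  rw [Subgroup.relIndex]; ring
          exact Nat.le_of_mul_le_mul_right h7 hpos
        have h8 : Z.relIndex K ∣ p ^ m := hKcard ▸ Subgroup.relIndex_dvd_card Z K
        obtain ⟨b, -, hb⟩ := (Nat.dvd_prime_pow hp).mp h8
        rw [hb] at h6 ⊢
        rw [← pow_mul, mul_comm] at h6
        exact pow_dvd_pow p ((Nat.pow_le_pow_iff_right hp.one_lt).mp h6)
    · exact ⟨0, fun h => absurd h hφ⟩
  choose jf hjf using hde
  set e := K.index with he
  have hepos : 0 < e := Nat.pos_of_ne_zero Subgroup.index_ne_zero_of_finite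
  set d : (L → ℂ) → ℕ := fun φ => e * p ^ jf φ with hd_def
  have hd : ∀ φ ∈ S₁, φ 1 = (d φ : ℂ) := fun φ hφ => (hjf φ hφ).1
  have hn : ∀ φ ∈ S₁, classInner φ φ = 1 := fun φ hφ =>
    Cfsg.Agent.Helper15.irr_inner_self (hirr φ hφ)
  have hp1 : 1 < p := hp.one_lt
  have hjle : ∀ φ χ : L → ℂ, d φ ≤ d χ → jf φ ≤ jf χ := by
    intro φ χ h
    have h1 : p ^ jf φ ≤ p ^ jf χ := Nat.le_of_mul_le_mul_left h hepos
    exact (Nat.pow_le_pow_iff_right hp1).mp h1
  have hjlt : ∀ φ χ : L → ℂ, d φ < d χ → jf φ < jf χ := by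
    intro φ χ h
    have h1 : p ^ jf φ < p ^ jf χ := Nat.lt_of_mul_lt_mul_left h
    exact (Nat.pow_lt_pow_iff_right hp1).mp h1
  have hdsq : ∀ ξ : L → ℂ, d ξ ^ 2 = e ^ 2 * p ^ (2 * jf ξ) := by
    intro ξ
    show (e * p ^ jf ξ) ^ 2 = e ^ 2 * p ^ (2 * jf ξ)
    rw [mul_pow, ← pow_mul, mul_comm (jf ξ) 2]
  apply coherent_of_degree_chain hS₁ d hd hn T hT
  · intro χ _ φ _ h
    exact Nat.mul_dvd_mul_left e (pow_dvd_pow p (hjle φ χ h))
  · intro χ _ φ _ h
    have h1 := hjlt φ χ h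
    calc 3 * d φ = e * (3 * p ^ jf φ) := by
          show 3 * (e * p ^ jf φ) = e * (3 * p ^ jf φ)
          ring
      _ ≤ e * (p * p ^ jf φ) := Nat.mul_le_mul_left e (Nat.mul_le_mul_right _ hp3)
      _ = e * p ^ (jf φ + 1) := by rw [pow_succ']
      _ ≤ e * p ^ jf χ := Nat.mul_le_mul_left e (Nat.pow_le_pow_right hp.pos h1)
  · intro χ hχT φ hφT hlt
    have htotal : ∑ ξ ∈ T, (d ξ) ^ 2 = e * (Z.relIndex K * (Nat.card Z - 1)) := by
      haveI : Fintype (IrrCharacter L) := Fintype.ofFinite _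
      have hseq := sdiff_inducedIrrAbove_eq_irr K Z hZK hirr
      obtain ⟨FZ, hFZmem, hsZ⟩ : ∃ FZ : Finset (IrrCharacter L),
          (∀ χ : IrrCharacter L, χ ∈ FZ ↔ ∀ n ∈ Z, (χ : L → ℂ) n = (χ : L → ℂ) 1) ∧
          ∑ χ ∈ FZ, charDegree (χ : L → ℂ) ^ 2 = Z.index :=
        ⟨_, fun χ => by simp, Cfsg.Agent.Helper80.irr_sum_sq_of_le_ker (G := L) Z⟩
      obtain ⟨FB, hFBmem, hsB⟩ : ∃ FB : Finset (IrrCharacter L),
          (∀ χ : IrrCharacter L, χ ∈ FB ↔
            ∀ n ∈ (⊥ : Subgroup L), (χ : L → ℂ) n = (χ : L → ℂ) 1) ∧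
          ∑ χ ∈ FB, charDegree (χ : L → ℂ) ^ 2 = (⊥ : Subgroup L).index :=
        ⟨_, fun χ => by simp, Cfsg.Agent.Helper80.irr_sum_sq_of_le_ker (G := L) ⊥⟩
      have hFB : FB = Finset.univ := by
        ext χ'
        rw [hFBmem]
        simp only [Finset.mem_univ, iff_true]
        intro n hn
        rw [Subgroup.mem_bot] at hn
        rw [hn]
      rw [hFB, Subgroup.index_bot] at hsB
      have hTimg : T = (Finset.univ \ FZ).image (fun χ : IrrCharacter L => (χ : L → ℂ)) := by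
        ext ξ
        rw [Finset.mem_image, ← Finset.mem_coe, hT, hS₁def, hseq]
        constructor
        · rintro ⟨hξirr, z, hz, hzne⟩
          refine ⟨⟨ξ, hξirr⟩, ?_, rfl⟩
          rw [Finset.mem_sdiff, hFZmem]
          exact ⟨Finset.mem_univ _, fun h => hzne (h z hz)⟩
        · rintro ⟨χ', hχ', rfl⟩
          rw [Finset.mem_sdiff, hFZmem] at hχ'
          refine ⟨χ'.2, ?_⟩
          by_contra hcon
          push Not at hcon
          exact hχ'.2 hcon
      have hdeq : ∀ χ' : IrrCharacter L, (χ' : L → ℂ) ∈ S₁ →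
          d (χ' : L → ℂ) = charDegree (χ' : L → ℂ) := by
        intro χ' h
        have h1 := hd _ h
        rw [Cfsg.Agent.Helper80.irr_one_eq χ'] at h1
        exact_mod_cast h1.symm
      rw [hTimg, Finset.sum_image (fun a _ b _ h => Subtype.ext h)]
      have h1 : ∑ χ' ∈ Finset.univ \ FZ, d (χ' : L → ℂ) ^ 2 =
          ∑ χ' ∈ Finset.univ \ FZ, charDegree (χ' : L → ℂ) ^ 2 := by
        apply Finset.sum_congr rfl
        intro χ' hχ'
        rw [hdeq χ' (by
          rw [← hT, hTimg]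
          exact Finset.mem_coe.mpr (Finset.mem_image_of_mem _ hχ'))]
      rw [h1]
      have h2 := Finset.sum_sdiff (Finset.subset_univ FZ)
        (f := fun χ' : IrrCharacter L => charDegree (χ' : L → ℂ) ^ 2)
      rw [hsZ, hsB] at h2
      have h3 : Nat.card Z * Z.index = Nat.card L := Subgroup.card_mul_index Z
      have h4 : Z.index = Z.relIndex K * e := (Subgroup.relIndex_mul_index hZK).symm
      rw [← h3] at h2
      have hZpos : 0 < Nat.card Z := Nat.card_pos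
      have h5 : ∑ χ' ∈ Finset.univ \ FZ, charDegree (χ' : L → ℂ) ^ 2 =
          Nat.card Z * Z.index - Z.index := by omega
      rw [h5, h4, Nat.mul_sub_one]
      have h6 : e * (Z.relIndex K * Nat.card Z) = Nat.card Z * (Z.relIndex K * e) := by ring
      have h7 : e * Z.relIndex K = Z.relIndex K * e := by ring
      rw [Nat.mul_sub, h6, ← mul_assoc, h7]
    have hsplit := Finset.sum_filter_add_sum_filter_not T (fun ξ => d ξ < d χ)
      (fun ξ => (d ξ) ^ 2)
    rw [htotal] at hsplit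
    have hhigh : e ^ 2 * p ^ (2 * jf χ) ∣ ∑ ξ ∈ T.filter (fun ξ => ¬ d ξ < d χ), (d ξ) ^ 2 := by
      apply Finset.dvd_sum
      intro ξ hξ
      have h1 : d χ ≤ d ξ := not_lt.mp (Finset.mem_filter.mp hξ).2
      have h2 := hjle χ ξ h1
      rw [hdsq ξ]
      exact Nat.mul_dvd_mul_left _ (pow_dvd_pow p (by omega))
    have hlow : e ^ 2 ∣ ∑ ξ ∈ T.filter (fun ξ => d ξ < d χ), (d ξ) ^ 2 := by
      apply Finset.dvd_sum
      intro ξ _
      rw [hdsq ξ]
      exact Dvd.intro _ rfl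
    obtain ⟨c, hc⟩ := hhigh
    obtain ⟨M', hM'⟩ := hlow
    rw [hc, hM'] at hsplit
    have h1 : e * M' + e * (p ^ (2 * jf χ) * c) = Z.relIndex K * (Nat.card Z - 1) := by
      apply Nat.eq_of_mul_eq_mul_left hepos
      rw [← hsplit]
      ring
    have hpdvd : p ^ (2 * jf χ) ∣ Z.relIndex K := (hjf χ (hTS χ hχT)).2
    have h2 : p ^ (2 * jf χ) ∣ e * M' := by
      have h3 : p ^ (2 * jf χ) ∣ e * M' + e * (p ^ (2 * jf χ) * c) :=
        h1 ▸ Dvd.dvd.mul_right hpdvd _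
      exact (Nat.dvd_add_left (Dvd.intro (e * c) (by ring))).mp h3
    have h4 : p ^ (2 * jf χ) ∣ M' :=
      (Nat.Coprime.pow_left (2 * jf χ) hcop.symm).dvd_of_dvd_mul_left h2
    have hM'pos : 0 < M' := by
      have h5 : (d φ) ^ 2 ≤ ∑ ξ ∈ T.filter (fun ξ => d ξ < d χ), (d ξ) ^ 2 :=
        Finset.single_le_sum (f := fun ξ => (d ξ) ^ 2) (fun _ _ => Nat.zero_le _)
          (Finset.mem_filter.mpr ⟨hφT, hlt⟩)
      have h6 : 0 < (d φ) ^ 2 := by
        rw [hdsq φ]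
        positivity
      rw [hM'] at h5
      rcases Nat.eq_zero_or_pos M' with h0 | h0
      · rw [h0, mul_zero] at h5
        omega
      · exact h0
    have h7 : p ^ (2 * jf χ) ≤ M' := Nat.le_of_dvd hM'pos h4
    rw [hM', hdsq χ]
    exact Nat.mul_le_mul_left _ h7

end Coh7

end Cfsg.Agent.Helper25
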