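import Mathlib
import Cfsg.Agent.Helper25.Coh7
import Cfsg.Agent.S1528
import Cfsg.Agent.Helper79.PSing
import Cfsg.Agent.Helper3.IndFun
import Cfsg.Agent.Helper3.Exceptional
import Cfsg.Agent.Helper4.IndNormal
import Cfsg.Agent.Helper4.IndicatorSub
import Cfsg.Agent.Helper14.ZSpan
import Cfsg.Prelude.Def_OddOrderLocal

/-!
# Coherence systems from irreducible characters; TI subgroups with Frobenius normaliser (helper25)

* `exists_cohSys_of_irr`: a conjugation-closed set of non-real irreducible characters with a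
  linear isometry on the combinations vanishing at `1` carries a coherence system
  (`R χ = {a, -b}` where `τ (χ - conj χ) = a - b`).
* `isLinearIsometryOn_indFun_TI`: induction from the normaliser of a TI-set is a linear isometry
  on the integer combinations (vanishing at `1`) of characters supported on the TI-set.
* `isIrrCharacter_indFun_of_frob`: for a Frobenius-type normal subgroup `K` of `L`, the functions
  induced from non-principal irreducible characters of `K` are irreducible.
-/

set_option autoImplicit false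
set_option linter.style.haveILetI false
set_option linter.unusedVariables false
set_option linter.unusedSectionVars false
set_option maxHeartbeats 1000000

namespace Cfsg.Agent.Helper25

open Cfsg

section Coh8

variable {L : Type*} [Group L] [Fintype L] {G : Type*} [Group G] [Fintype G]

theorem conjFun_one_of_isCharacter {χ : L → ℂ} (h : IsCharacter L χ) :
    Cfsg.conjFun χ 1 = χ 1 := by
  unfold Cfsg.conjFun
  rw [Cfsg.Agent.Helper79.isCharacter_one_eq_charDegree h]
  simp

theorem isIrrCharacter_conjFun_of_irr {χ : L → ℂ} (h : IsIrrCharacter L χ) :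
    IsIrrCharacter L (Cfsg.conjFun χ) :=
  Cfsg.Agent.Helper79.isIrrCharacter_conj h

theorem sub_conjFun_mem_zspanOn {S : Set (L → ℂ)} (hchar : ∀ χ ∈ S, IsCharacter L χ)
    (hconj : ∀ χ ∈ S, Cfsg.conjFun χ ∈ S) {χ : L → ℂ} (hχ : χ ∈ S) :
    χ - Cfsg.conjFun χ ∈ zspanOn S ({1}ᶜ : Set L) := by
  refine ⟨Submodule.sub_mem _ (Submodule.subset_span hχ) (Submodule.subset_span (hconj χ hχ)), ?_⟩
  intro x hx
  have hx1 : x = 1 := by simpa using hx
  rw [hx1, Pi.sub_apply, conjFun_one_of_isCharacter (hchar χ hχ), sub_self]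

/-- A conjugation-closed set of non-real irreducible characters, with a linear isometry on its
integer combinations vanishing at `1`, carries a coherence system. -/
theorem exists_cohSys_of_irr {S : Set (L → ℂ)} {τ : (L → ℂ) → (G → ℂ)}
    (hne : S.Nonempty) (hirr : ∀ χ ∈ S, IsIrrCharacter L χ)
    (hconj : ∀ χ ∈ S, Cfsg.conjFun χ ∈ S) (hconj_ne : ∀ χ ∈ S, Cfsg.conjFun χ ≠ χ)
    (hiso : IsLinearIsometryOn (zspanOn S ({1}ᶜ : Set L)) τ)
    (hone : ∀ α ∈ zspanOn S ({1}ᶜ : Set L), τ α 1 = 0) :
    ∃ R : (L → ℂ) → Finset (G → ℂ), IsCoherenceSystem S τ R := by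
  classical
  have hchar : ∀ χ ∈ S, IsCharacter L χ := fun χ hχ =>
    Cfsg.Agent.Helper80.isCharacter_of_irr (hirr χ hχ)
  have hmem : ∀ χ ∈ S, χ - Cfsg.conjFun χ ∈ zspanOn S ({1}ᶜ : Set L) := fun χ hχ =>
    sub_conjFun_mem_zspanOn hchar hconj hχ
  have hcirr : ∀ χ ∈ S, IsIrrCharacter L (Cfsg.conjFun χ) := fun χ hχ => hirr _ (hconj χ hχ)
  have hin : ∀ χ ∈ S, ∀ φ ∈ S, classInner χ φ = if χ = φ then 1 else 0 := by
    intro χ hχ φ hφ
    by_cases h : χ = φ
    · rw [if_pos h, h]; exact Cfsg.Agent.Helper15.irr_inner_self (hirr φ hφ)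
    · rw [if_neg h]; exact Cfsg.Agent.Helper15.irr_inner_ne (hirr χ hχ) (hirr φ hφ) h
  have hnorm : ∀ χ ∈ S, classInner (χ - Cfsg.conjFun χ) (χ - Cfsg.conjFun χ) = 2 := by
    intro χ hχ
    rw [Cfsg.Agent.Helper75.classInner_sub_left, Cfsg.Agent.Helper75.classInner_sub_right,
      Cfsg.Agent.Helper75.classInner_sub_right, hin χ hχ χ hχ, hin χ hχ _ (hconj χ hχ),
      hin _ (hconj χ hχ) χ hχ, hin _ (hconj χ hχ) _ (hconj χ hχ), if_pos rfl, if_pos rfl,
      if_neg (hconj_ne χ hχ), if_neg (fun h => hconj_ne χ hχ h.symm)]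
    norm_num
  have hex : ∀ χ : L → ℂ, ∃ a b : IrrCharacter G, χ ∈ S →
      (a ≠ b ∧ τ (χ - Cfsg.conjFun χ) = (a : G → ℂ) - (b : G → ℂ)) := by
    intro χ
    by_cases hχ : χ ∈ S
    · have h2 : classInner (τ (χ - Cfsg.conjFun χ)) (τ (χ - Cfsg.conjFun χ)) = 2 := by
        rw [hiso.2.2.1 _ (hmem χ hχ) _ (hmem χ hχ)]; exact hnorm χ hχ
      obtain ⟨a, b, hab, h⟩ := Cfsg.Agent.Helper4.genChar_norm_two
        (hiso.2.2.2 _ (hmem χ hχ)) h2 (hone _ (hmem χ hχ))
      exact ⟨a, b, fun _ => ⟨hab, h⟩⟩
    · exact ⟨Cfsg.Agent.Helper80.trivIrr G, Cfsg.Agent.Helper80.trivIrr G, fun h => absurd h hχ⟩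
  choose a b hab using hex
  have haa : ∀ x y : IrrCharacter G,
      classInner (x : G → ℂ) (y : G → ℂ) = if x = y then 1 else 0 :=
    fun x y => Cfsg.Agent.Helper15.irr_inner x y
  have hane : ∀ x y : IrrCharacter G, x ≠ y → (x : G → ℂ) ≠ -(y : G → ℂ) := by
    intro x y hxy h
    have h1 := haa x x
    rw [if_pos rfl] at h1
    have h2 : classInner (x : G → ℂ) (-(y : G → ℂ)) = 0 := by
      rw [Cfsg.Agent.Helper75.classInner_neg_right, haa x y, if_neg hxy, neg_zero]
    rw [← h, h1] at h2
    exact one_ne_zero h2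
  refine ⟨fun χ => {(a χ : G → ℂ), -(b χ : G → ℂ)}, ?_⟩
  exact
  { nonempty := hne
    isCharacter := hchar
    conj_mem := hconj
    conj_ne := hconj_ne
    isometry := hiso
    map_one := hone
    orthogonal := fun χ hχ φ hφ h => by rw [hin χ hχ φ hφ, if_neg h]
    orthonormal := by
      intro χ hχ α hα β hβ
      obtain ⟨hne', -⟩ := hab χ hχ
      simp only [Finset.mem_insert, Finset.mem_singleton] at hα hβ
      rcases hα with rfl | rfl <;> rcases hβ with rfl | rfl
      · rw [if_pos rfl, haa, if_pos rfl]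
      · rw [if_neg (hane _ _ hne'), Cfsg.Agent.Helper75.classInner_neg_right, haa, if_neg hne',
          neg_zero]
      · rw [if_neg (fun h => hane _ _ hne' h.symm), Cfsg.Agent.Helper75.classInner_neg_left, haa,
          if_neg (fun h => hne' h.symm), neg_zero]
      · rw [if_pos rfl, Cfsg.Agent.Helper75.classInner_neg_left,
          Cfsg.Agent.Helper75.classInner_neg_right, haa, if_pos rfl, neg_neg]
    virtual := by
      intro χ hχ α hα
      simp only [Finset.mem_insert, Finset.mem_singleton] at hα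
      rcases hα with rfl | rfl
      · exact ⟨(a χ : G → ℂ), 0, Cfsg.Agent.Helper80.isCharacter_of_irr (a χ).2,
          Cfsg.Agent.Helper79.isCharacter_zero, by simp⟩
      · exact ⟨0, (b χ : G → ℂ), Cfsg.Agent.Helper79.isCharacter_zero,
          Cfsg.Agent.Helper80.isCharacter_of_irr (b χ).2, by simp⟩
    sum_eq := by
      intro χ hχ
      obtain ⟨hne', h⟩ := hab χ hχ
      rw [Finset.sum_pair (hane _ _ hne'), h, sub_eq_add_neg]
    disjoint := by
      intro χ hχ φ hφ h1 h2 α hα β hβ
      obtain ⟨hab1, hτ1⟩ := hab χ hχ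
      obtain ⟨hab2, hτ2⟩ := hab φ hφ
      have hφχ : φ ≠ χ := by
        intro h
        rw [hin φ hφ χ hχ, if_pos h] at h1
        exact one_ne_zero h1
      have hφχ' : φ ≠ Cfsg.conjFun χ := by
        intro h
        rw [hin φ hφ _ (hconj χ hχ), if_pos h] at h2
        exact one_ne_zero h2
      have h3 : classInner (Cfsg.conjFun φ) χ = 0 := by
        rw [hin _ (hconj φ hφ) χ hχ, if_neg]
        intro h
        apply hφχ'
        rw [← h, conjFun_conjFun]
      have h4 : classInner (Cfsg.conjFun φ) (Cfsg.conjFun χ) = 0 := by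
        rw [hin _ (hconj φ hφ) _ (hconj χ hχ), if_neg]
        intro h
        apply hφχ
        rw [← conjFun_conjFun φ, h, conjFun_conjFun]
      have h5 : classInner (τ (φ - Cfsg.conjFun φ)) (τ (χ - Cfsg.conjFun χ)) = 0 := by
        rw [hiso.2.2.1 _ (hmem φ hφ) _ (hmem χ hχ), Cfsg.Agent.Helper75.classInner_sub_left,
          Cfsg.Agent.Helper75.classInner_sub_right, Cfsg.Agent.Helper75.classInner_sub_right,
          h1, h2, h3, h4]
        simp
      rw [hτ1, hτ2, Cfsg.Agent.Helper75.classInner_sub_left,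
        Cfsg.Agent.Helper75.classInner_sub_right, Cfsg.Agent.Helper75.classInner_sub_right,
        haa, haa, haa, haa] at h5
      have hca : a φ ≠ a χ := by
        intro h
        have hcb : a φ ≠ b χ := fun h' => hab1 (h.symm.trans h')
        have hda : b φ ≠ a χ := fun h' => hab2 (h.trans h'.symm)
        rw [if_pos h, if_neg hcb, if_neg hda] at h5
        by_cases hdb : b φ = b χ
        · rw [if_pos hdb] at h5; norm_num at h5
        · rw [if_neg hdb] at h5; norm_num at h5
      have hdb : b φ ≠ b χ := by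
        intro h
        have hcb : a φ ≠ b χ := fun h' => hab2 (h'.trans h.symm)
        have hda : b φ ≠ a χ := fun h' => hab1 (h'.symm.trans h)
        rw [if_neg hca, if_neg hcb, if_neg hda, if_pos h] at h5
        norm_num at h5
      rw [if_neg hca, if_neg hdb] at h5
      have hcb : a φ ≠ b χ := by
        intro h
        rw [if_pos h] at h5
        by_cases hda : b φ = a χ
        · rw [if_pos hda] at h5; norm_num at h5
        · rw [if_neg hda] at h5; norm_num at h5
      have hda : b φ ≠ a χ := by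
        intro h
        rw [if_neg hcb, if_pos h] at h5
        norm_num at h5
      simp only [Finset.mem_insert, Finset.mem_singleton] at hα hβ
      rcases hα with rfl | rfl <;> rcases hβ with rfl | rfl
      · rw [haa, if_neg hca]
      · rw [Cfsg.Agent.Helper75.classInner_neg_right, haa, if_neg hcb, neg_zero]
      · rw [Cfsg.Agent.Helper75.classInner_neg_left, haa, if_neg hda, neg_zero]
      · rw [Cfsg.Agent.Helper75.classInner_neg_left, Cfsg.Agent.Helper75.classInner_neg_right, haa,
          if_neg hdb, neg_zero, neg_zero] }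

theorem zspan_apply_eq_zero {X : Type*} {S : Set (X → ℂ)} {x : X} (h : ∀ χ ∈ S, χ x = 0)
    {α : X → ℂ} (hα : α ∈ zspan S) : α x = 0 := by
  induction hα using Submodule.span_induction with
  | mem χ hχ => exact h χ hχ
  | zero => rfl
  | add a b _ _ ha hb => rw [Pi.add_apply, ha, hb, add_zero]
  | smul n a _ ha => rw [Pi.smul_apply, ha, smul_zero]

theorem isGeneralizedCharacter_of_mem_zspan {S : Set (L → ℂ)} (hchar : ∀ χ ∈ S, IsCharacter L χ)
    {α : L → ℂ} (hα : α ∈ zspan S) : IsGeneralizedCharacter L α := by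
  induction hα using Submodule.span_induction with
  | mem χ hχ => exact ⟨χ, 0, hchar χ hχ, Cfsg.Agent.Helper79.isCharacter_zero, by simp⟩
  | zero => exact Cfsg.Agent.Helper14.ZS.genChar_zero
  | add a b _ _ ha hb => exact Cfsg.Agent.Helper14.ZS.genChar_add ha hb
  | smul n a _ ha => exact Cfsg.Agent.Helper14.ZS.genChar_zsmul ha n

theorem isClassFunction_of_isGeneralizedCharacter {α : L → ℂ} (hα : IsGeneralizedCharacter L α) :
    IsClassFunction L α := by
  obtain ⟨a, b, ha, hb, rfl⟩ := hα
  intro g h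
  rw [Pi.sub_apply, Pi.sub_apply, Cfsg.Agent.Helper79.isCharacter_isClassFunction ha g h,
    Cfsg.Agent.Helper79.isCharacter_isClassFunction hb g h]

/-- Induction from the normaliser of a TI-set `T` is a linear isometry on the integer
combinations, vanishing at `1`, of characters of the normaliser that vanish off `T`. -/
theorem isLinearIsometryOn_indFun_TI (T : Set G) (hTI : IsTISubset T)
    [Fintype (Subgroup.normalizer T)] (S : Set (Subgroup.normalizer T → ℂ))
    (hchar : ∀ χ ∈ S, IsCharacter (Subgroup.normalizer T) χ)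
    (hvan : ∀ χ ∈ S, ∀ x : Subgroup.normalizer T, (x : G) ∉ T → χ x = 0) :
    IsLinearIsometryOn (zspanOn S ({1}ᶜ : Set (Subgroup.normalizer T)))
      (fun α => indFun (Subgroup.normalizer T) α) ∧
    ∀ α ∈ zspanOn S ({1}ᶜ : Set (Subgroup.normalizer T)),
      indFun (Subgroup.normalizer T) α 1 = 0 := by
  have h1 : ∀ α ∈ zspanOn S ({1}ᶜ : Set (Subgroup.normalizer T)), α 1 = 0 :=
    fun α hα => hα.2 1 (by simp)
  have hv : ∀ α ∈ zspanOn S ({1}ᶜ : Set (Subgroup.normalizer T)),
      ∀ x : Subgroup.normalizer T, (x : G) ∉ T → α x = 0 :=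
    fun α hα x hx => zspan_apply_eq_zero (fun χ hχ => hvan χ hχ x hx) hα.1
  have hg : ∀ α ∈ zspanOn S ({1}ᶜ : Set (Subgroup.normalizer T)),
      IsGeneralizedCharacter (Subgroup.normalizer T) α :=
    fun α hα => isGeneralizedCharacter_of_mem_zspan hchar hα.1
  refine ⟨⟨?_, ?_, ?_, ?_⟩, ?_⟩
  · intro α _ β _
    exact Cfsg.Agent.Helper3.indFun_add _ α β
  · intro α _ n
    show indFun (Subgroup.normalizer T) (n • α) = n • indFun (Subgroup.normalizer T) α
    rw [zsmul_eq_smul_cast, zsmul_eq_smul_cast, Cfsg.Agent.Helper3.indFun_smul]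
  · intro α hα β hβ
    exact Cfsg.Agent.Helper3.classInner_indFun_TI T hTI α β
      (isClassFunction_of_isGeneralizedCharacter (hg β hβ)) (hv α hα) (hv β hβ) (h1 α hα)
  · intro α hα
    obtain ⟨a, b, ha, hb, rfl⟩ := hg α hα
    show IsGeneralizedCharacter G (indFun (Subgroup.normalizer T) (a - b))
    rw [Cfsg.Agent.Helper3.indFun_sub]
    exact ⟨_, _, Cfsg.Agent.Helper3.isCharacter_indFun _ a ha,
      Cfsg.Agent.Helper3.isCharacter_indFun _ b hb, rfl⟩
  · intro α hα
    rw [Cfsg.Agent.Helper3.indFun_apply_one, h1 α hα, mul_zero]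

/-- For a normal subgroup `K` of `L` such that every element commuting with a non-identity
element of `K` lies in `K`, the function induced from a non-principal irreducible character
of `K` is an irreducible character of `L`. -/
theorem isIrrCharacter_indFun_of_frob (K : Subgroup L) [hK : K.Normal]
    (hC : ∀ n ∈ K, n ≠ 1 → Subgroup.centralizer ({n} : Set L) ≤ K)
    {θ : K → ℂ} (hθ : IsIrrCharacter K θ) (hθ1 : θ ≠ fun _ => 1) :
    IsIrrCharacter L (indFun K θ) := by
  classical
  have hT : ∀ g : L, g ∈ K ↔ Cfsg.Agent.Helper75.conjFun K g θ = θ := by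
    intro g
    constructor
    · intro hg
      funext h
      rw [Cfsg.Agent.Helper75.conjFun_apply]
      have hcl := Cfsg.Agent.Helper79.isCharacter_isClassFunction
        (Cfsg.Agent.Helper80.isCharacter_of_irr hθ) h ⟨g, hg⟩
      rw [← hcl]
      congr 1
    · exact Cfsg.Agent.S1528.inertia_aux K hC hθ hθ1 g
  have hf : classInner (Cfsg.Agent.Helper75.resTo (le_refl K) θ) θ ≠ 0 := by
    have h1 : Cfsg.Agent.Helper75.resTo (le_refl K) θ = θ := by
      funext n
      rfl
    rw [h1, Cfsg.Agent.Helper15.irr_inner_self hθ]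
    exact one_ne_zero
  exact (Cfsg.Agent.Helper79.indFun_irr_of_over (le_refl K) hθ hT hθ hf).1

/-- The members of `inducedIrrAbove K A` vanish off the normal subgroup `K`. -/
theorem inducedIrrAbove_apply_eq_zero (K A : Subgroup L) [hK : K.Normal] {φ : L → ℂ}
    (hφ : φ ∈ inducedIrrAbove K A) {x : L} (hx : x ∉ K) : φ x = 0 := by
  obtain ⟨θ, -, -, -, rfl⟩ := hφ
  apply Cfsg.Agent.Helper4.indFun_eq_zero_of_forall_not_mem
  intro y hy
  apply hx
  have := hK.conj_mem _ hy y
  simpa [mul_assoc] using this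

/-- the members of `inducedIrrAbove K A` are characters. -/
theorem inducedIrrAbove_isCharacter (K A : Subgroup L) {φ : L → ℂ}
    (hφ : φ ∈ inducedIrrAbove K A) : IsCharacter L φ := by
  obtain ⟨θ, hθ, -, -, rfl⟩ := hφ
  exact Cfsg.Agent.Helper3.isCharacter_indFun K θ (Cfsg.Agent.Helper80.isCharacter_of_irr hθ)

/-- In a group of odd order with a Frobenius-type proper normal subgroup `K`, the set of
functions induced from non-principal irreducible characters of `K`, with a linear isometry on
its integer combinations vanishing at `1`, carries a coherence system. -/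
theorem exists_cohSys_inducedIrrAbove_of_frob (K : Subgroup L) [hK : K.Normal]
    (hC : ∀ n ∈ K, n ≠ 1 → Subgroup.centralizer ({n} : Set L) ≤ K)
    (hK1 : K ≠ ⊥) (hKtop : K ≠ ⊤) (hodd : Odd (Nat.card L)) {τ : (L → ℂ) → (G → ℂ)}
    (hiso : IsLinearIsometryOn (zspanOn (inducedIrrAbove K ⊥) ({1}ᶜ : Set L)) τ)
    (hone : ∀ α ∈ zspanOn (inducedIrrAbove K ⊥) ({1}ᶜ : Set L), τ α 1 = 0) :
    ∃ R : (L → ℂ) → Finset (G → ℂ), IsCoherenceSystem (inducedIrrAbove K ⊥) τ R := by
  classical
  have hirr : ∀ χ ∈ inducedIrrAbove K ⊥, IsIrrCharacter L χ := by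
    rintro χ ⟨θ, hθ, hne, -, rfl⟩
    exact isIrrCharacter_indFun_of_frob K hC hθ hne
  have hne : (inducedIrrAbove K (⊥ : Subgroup L)).Nonempty := by
    have h := sdiff_inducedIrrAbove_nonempty K K (le_refl K) hK1
    obtain ⟨φ, hφ⟩ := h
    exact ⟨φ, hφ.1⟩
  refine exists_cohSys_of_irr hne hirr (fun χ hχ => inducedIrrAbove_conj_mem K ⊥ hχ) ?_ hiso hone
  intro χ hχ hconj
  have h1 : χ = fun _ => 1 := by
    apply Cfsg.Agent.Helper4.irr_eq_one_of_real_of_odd hodd (hirr χ hχ)
    intro g
    exact congrFun hconj g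
  obtain ⟨x, hx⟩ : ∃ x : L, x ∉ K := by
    by_contra hcon
    push Not at hcon
    exact hKtop ((Subgroup.eq_top_iff' K).mpr hcon)
  have h2 := inducedIrrAbove_apply_eq_zero K ⊥ hχ hx
  rw [h1] at h2
  exact one_ne_zero h2

end Coh8

section Frob8

variable {G : Type*} [Group G]

/-- The Frobenius centraliser condition for `H` in `G` passes to `H` inside its normaliser. -/
theorem centralizer_subgroupOf_normalizer_le (H : Subgroup G)
    (hC : ∀ k ∈ H, k ≠ 1 → Subgroup.centralizer ({k} : Set G) ≤ H) :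
    ∀ n ∈ H.subgroupOf (Subgroup.normalizer (H : Set G)), n ≠ 1 →
      Subgroup.centralizer ({n} : Set (Subgroup.normalizer (H : Set G))) ≤
        H.subgroupOf (Subgroup.normalizer (H : Set G)) := by
  intro n hn hn1 x hx
  rw [Subgroup.mem_subgroupOf] at hn ⊢
  apply hC (n : G) hn (fun h => hn1 (Subtype.ext h))
  rw [Subgroup.mem_centralizer_iff]
  intro y hy
  rw [Set.mem_singleton_iff] at hy
  subst hy
  have := (Subgroup.mem_centralizer_iff.mp hx) n (Set.mem_singleton n)
  exact congrArg Subtype.val this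

/-- A finite group with a non-commutative normal subgroup `K` of odd order satisfying the
Frobenius centraliser condition has odd order (an involution outside `K` would invert `K`). -/
theorem odd_card_of_frob_of_not_comm {L : Type*} [Group L] [Finite L] (K : Subgroup L)
    [hK : K.Normal] (hC : ∀ n ∈ K, n ≠ 1 → Subgroup.centralizer ({n} : Set L) ≤ K)
    (hKodd : Odd (Nat.card K)) (hna : ¬ ∀ a b : K, a * b = b * a) : Odd (Nat.card L) := by
  by_contra hodd
  rw [Nat.not_odd_iff_even] at hodd
  haveI : Fact (Nat.Prime 2) := ⟨Nat.prime_two⟩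
  obtain ⟨t, ht⟩ := exists_prime_orderOf_dvd_card' 2 (even_iff_two_dvd.mp hodd)
  have htK : t ∉ K := by
    intro h
    have h1 : orderOf (⟨t, h⟩ : K) = 2 := by
      rw [← ht]
      exact Subgroup.orderOf_mk t h
    have h2 : 2 ∣ Nat.card K := by
      rw [← h1]
      exact orderOf_dvd_natCard _
    exact (Nat.not_even_iff_odd.mpr hKodd) (even_iff_two_dvd.mpr h2)
  have ht2 : t * t = 1 := by
    have := pow_orderOf_eq_one t
    rw [ht, pow_two] at this
    exact this
  have htinv : t⁻¹ = t := inv_eq_of_mul_eq_one_left ht2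
  set φ : K →* K := (MulAut.conjNormal t : K ≃* K).toMonoidHom with hφ
  have hφapp : ∀ k : K, ((φ k : K) : L) = t * (k : L) * t⁻¹ := by
    intro k
    rw [hφ]
    exact MulAut.conjNormal_apply t k
  have hfpf : MonoidHom.FixedPointFree φ := by
    intro k hk
    by_contra hk1
    apply htK
    apply hC (k : L) k.2 (fun h => hk1 (Subtype.ext h))
    rw [Subgroup.mem_centralizer_iff]
    intro y hy
    rw [Set.mem_singleton_iff] at hy
    subst hy
    have h1 : t * (k : L) * t⁻¹ = (k : L) := by
      rw [← hφapp k, hk]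
    calc (k : L) * t = (t * (k : L) * t⁻¹) * t := by rw [h1]
      _ = t * (k : L) := by group
  have hinv : Function.Involutive φ := by
    intro k
    apply Subtype.ext
    rw [hφapp, hφapp, htinv]
    calc t * (t * (k : L) * t) * t = (t * t) * (k : L) * (t * t) := by group
      _ = (k : L) := by rw [ht2]; simp
  exact hna (fun a b => (MonoidHom.FixedPointFree.commute_all_of_involutive hfpf hinv a b).eq)

end Frob8

end Cfsg.Agent.Helper25
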