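import Mathlib
import Cfsg.Prelude.Def_OddOrderChar

set_option autoImplicit false

namespace Cfsg.Agent.Helper25

open Cfsg

/-- power trick: if `a`, `u` commute with coprime orders then some power of `a * u` equals `a`. -/
theorem exists_pow_eq_left {G : Type*} [Group G] {a u : G} (hc : Commute a u)
    (hcop : (orderOf a).Coprime (orderOf u)) :
    ∃ k : ℕ, k ≡ 1 [MOD orderOf a] ∧ k ≡ 0 [MOD orderOf u] ∧ (a * u) ^ k = a := by
  obtain ⟨k, hk1, hk0⟩ := Nat.chineseRemainder hcop 1 0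
  refine ⟨k, hk1, hk0, ?_⟩
  rw [hc.mul_pow]
  have h1 : a ^ k = a := by
    have := (pow_eq_pow_iff_modEq (x := a) (n := k) (m := 1)).mpr hk1
    simpa using this
  have h2 : u ^ k = 1 := by
    have := (pow_eq_pow_iff_modEq (x := u) (n := k) (m := 0)).mpr hk0
    simpa using this
  rw [h1, h2, mul_one]

/-- If `K` normalizes `N` elementwise, every element of `N ⊔ K` is a product `n * k`. -/
theorem exists_mul_of_mem_sup_of_normalizes {G : Type*} [Group G] {N K : Subgroup G}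
    (hN : ∀ k ∈ K, ∀ n ∈ N, k * n * k⁻¹ ∈ N) {x : G} (hx : x ∈ N ⊔ K) :
    ∃ n ∈ N, ∃ k ∈ K, x = n * k := by
  let M : Subgroup G :=
    { carrier := {x | ∃ n ∈ N, ∃ k ∈ K, x = n * k}
      one_mem' := ⟨1, N.one_mem, 1, K.one_mem, by simp⟩
      mul_mem' := by
        rintro _ _ ⟨n1, hn1, k1, hk1, rfl⟩ ⟨n2, hn2, k2, hk2, rfl⟩
        exact ⟨n1 * (k1 * n2 * k1⁻¹), N.mul_mem hn1 (hN k1 hk1 n2 hn2), k1 * k2,
          K.mul_mem hk1 hk2, by group⟩
      inv_mem' := by
        rintro _ ⟨n, hn, k, hk, rfl⟩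
        exact ⟨k⁻¹ * n⁻¹ * k⁻¹⁻¹, hN k⁻¹ (K.inv_mem hk) n⁻¹ (N.inv_mem hn), k⁻¹,
          K.inv_mem hk, by group⟩ }
  have h : N ⊔ K ≤ M :=
    sup_le (fun n hn => ⟨n, hn, 1, K.one_mem, by simp⟩)
      (fun k hk => ⟨1, N.one_mem, k, hk, by simp⟩)
  exact h hx

section Dade

variable {G : Type*} [Group G] {A : Set G} {L : Subgroup G} {H : G → Subgroup G}

theorem dade_mem_inf (hD : DadeHypothesis A L H) {a : G} (ha : a ∈ A) :
    a ∈ L ⊓ Subgroup.centralizer ({a} : Set G) :=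
  ⟨hD.subset ha, by simp [Subgroup.mem_centralizer_iff]⟩

theorem dade_commute (hD : DadeHypothesis A L H) {a u : G} (ha : a ∈ A) (hu : u ∈ H a) :
    Commute a u := by
  have := hD.le_centralizer a ha hu
  rw [Subgroup.mem_centralizer_iff] at this
  exact this a rfl

theorem dade_coprime_orderOf [Finite G] (hD : DadeHypothesis A L H) {a b u : G} (ha : a ∈ A) (hb : b ∈ A)
    (hu : u ∈ H a) : (orderOf b).Coprime (orderOf u) := by
  have h1 : orderOf b ∣ Nat.card ↥(L ⊓ Subgroup.centralizer ({b} : Set G)) :=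
    Subgroup.orderOf_dvd_natCard _ (dade_mem_inf hD hb)
  have h2 : orderOf u ∣ Nat.card (H a) := Subgroup.orderOf_dvd_natCard _ hu
  exact Nat.Coprime.coprime_dvd_left h1 (Nat.Coprime.coprime_dvd_right h2 (hD.coprime a ha b hb).symm)

/-- Key lemma: a conjugation between elements of the cosets `a · H a` and `b · H b` conjugates
`a` to `b` and the `H`-parts to each other. -/
theorem dade_conj_eq [Finite G] (hD : DadeHypothesis A L H) {a b u v g : G} (ha : a ∈ A) (hb : b ∈ A)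
    (hu : u ∈ H a) (hv : v ∈ H b) (h : g * (a * u) * g⁻¹ = b * v) :
    g * a * g⁻¹ = b ∧ g * u * g⁻¹ = v := by
  have hau := dade_commute hD ha hu
  have hbv := dade_commute hD hb hv
  have c1 := dade_coprime_orderOf hD ha ha hu
  have c2 := dade_coprime_orderOf hD hb hb hv
  have c3 := dade_coprime_orderOf hD ha hb hu
  have c4 := dade_coprime_orderOf hD hb ha hv
  have o1 : orderOf (a * u) = orderOf a * orderOf u :=
    hau.orderOf_mul_eq_mul_orderOf_of_coprime c1
  have o2 : orderOf (b * v) = orderOf b * orderOf v :=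
    hbv.orderOf_mul_eq_mul_orderOf_of_coprime c2
  have o3 : orderOf (g * (a * u) * g⁻¹) = orderOf (a * u) := by
    have := (MulAut.conj g).orderOf_eq (a * u)
    simpa [MulAut.conj_apply] using this
  have e : orderOf a * orderOf u = orderOf b * orderOf v := by rw [← o1, ← o2, ← h, o3]
  have d1 : orderOf a ∣ orderOf b := c4.dvd_of_dvd_mul_right (e ▸ dvd_mul_right _ _)
  have d2 : orderOf b ∣ orderOf a := c3.dvd_of_dvd_mul_right (e.symm ▸ dvd_mul_right _ _)
  have eab : orderOf a = orderOf b := Nat.dvd_antisymm d1 d2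
  have euv : orderOf u = orderOf v := by
    have hpos : 0 < orderOf b := orderOf_pos b
    rw [eab] at e
    exact Nat.eq_of_mul_eq_mul_left hpos e
  obtain ⟨k, hk1, hk0, hk⟩ := exists_pow_eq_left hau c1
  have hk' : (b * v) ^ k = b := by
    rw [hbv.mul_pow]
    have h1 : b ^ k = b := by
      have := (pow_eq_pow_iff_modEq (x := b) (n := k) (m := 1)).mpr (eab ▸ hk1)
      simpa using this
    have h2 : v ^ k = 1 := by
      have := (pow_eq_pow_iff_modEq (x := v) (n := k) (m := 0)).mpr (euv ▸ hk0)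
      simpa using this
    rw [h1, h2, mul_one]
  have hga : g * a * g⁻¹ = b := by
    rw [← hk, ← hk', ← h, conj_pow]
  refine ⟨hga, ?_⟩
  have h3 : g * u * g⁻¹ = (g * a * g⁻¹)⁻¹ * (g * (a * u) * g⁻¹) := by group
  rw [h3, hga, h]; group

/-- `L`-conjugation carries `H a` into `H (x a x⁻¹)`. -/
theorem dade_conj_mem_H [Finite G] (hD : DadeHypothesis A L H) {a x u : G} (ha : a ∈ A) (hx : x ∈ L)
    (hu : u ∈ H a) : x * u * x⁻¹ ∈ H (x * a * x⁻¹) := by
  set a' := x * a * x⁻¹ with ha'def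
  have ha' : a' ∈ A := hD.conj_mem x hx a ha
  have hau := dade_commute hD ha hu
  -- m = x u x⁻¹ centralizes a'
  have hm : x * u * x⁻¹ ∈ Subgroup.centralizer ({a'} : Set G) := by
    rw [Subgroup.mem_centralizer_iff]
    intro y hy
    rw [Set.mem_singleton_iff] at hy
    subst hy
    have : a * u = u * a := hau
    calc x * a * x⁻¹ * (x * u * x⁻¹) = x * (a * u) * x⁻¹ := by group
      _ = x * (u * a) * x⁻¹ := by rw [this]
      _ = x * u * x⁻¹ * (x * a * x⁻¹) := by group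
  rw [← hD.sup_eq a' ha'] at hm
  have hnorm : ∀ k ∈ L ⊓ Subgroup.centralizer ({a'} : Set G), ∀ n ∈ H a', k * n * k⁻¹ ∈ H a' :=
    fun k hk n hn => hD.conj_mem_H a' ha' k hk.2 n hn
  obtain ⟨n, hn, c, hc, hmc⟩ := exists_mul_of_mem_sup_of_normalizes hnorm hm
  -- (n * c)^j ∈ H a' * c^j
  have hpow : ∀ j : ℕ, ∃ n' ∈ H a', (n * c) ^ j = n' * c ^ j := by
    intro j
    induction j with
    | zero => exact ⟨1, (H a').one_mem, by simp⟩
    | succ j ih =>
      obtain ⟨n', hn', e⟩ := ih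
      refine ⟨n' * (c ^ j * n * (c ^ j)⁻¹), (H a').mul_mem hn' (hnorm _ (Subgroup.pow_mem _ hc j) n hn), ?_⟩
      rw [pow_succ, e, pow_succ]; group
  obtain ⟨n', hn', e⟩ := hpow (orderOf (x * u * x⁻¹))
  rw [← hmc, pow_orderOf_eq_one] at e
  have hck : c ^ orderOf (x * u * x⁻¹) ∈ H a' ⊓ (L ⊓ Subgroup.centralizer ({a'} : Set G)) := by
    have : c ^ orderOf (x * u * x⁻¹) = n'⁻¹ := by
      rw [eq_inv_iff_mul_eq_one]
      have h4 : n' * c ^ orderOf (x * u * x⁻¹) = 1 := e.symm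
      calc c ^ orderOf (x * u * x⁻¹) * n' = n'⁻¹ * (n' * c ^ orderOf (x * u * x⁻¹)) * n' := by group
        _ = 1 := by rw [h4]; group
    exact ⟨this ▸ (H a').inv_mem hn', Subgroup.pow_mem _ hc _⟩
  rw [hD.inf_eq_bot a' ha', Subgroup.mem_bot] at hck
  have o1 : orderOf (x * u * x⁻¹) = orderOf u := by
    have := (MulAut.conj x).orderOf_eq u
    simpa [MulAut.conj_apply] using this
  have d1 : orderOf c ∣ Nat.card (H a) := by
    have : orderOf c ∣ orderOf u := o1 ▸ orderOf_dvd_of_pow_eq_one hck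
    exact this.trans (Subgroup.orderOf_dvd_natCard _ hu)
  have d2 : orderOf c ∣ Nat.card ↥(L ⊓ Subgroup.centralizer ({a'} : Set G)) :=
    Subgroup.orderOf_dvd_natCard _ hc
  have hc1 : orderOf c = 1 := Nat.eq_one_of_dvd_coprimes (hD.coprime a ha a' ha') d1 d2
  rw [orderOf_eq_one_iff] at hc1
  rw [hmc, hc1, mul_one]
  exact hn

end Dade

end Cfsg.Agent.Helper25
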