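import Cfsg.Agent.Helper25.CN3

/-!
# Fixed-point-free actions (helper25)

The norm / partition argument: a group `R ⋊ ⟨b⟩` (with `b` of prime order acting without fixed points
on `R`) cannot act fixed-point-freely on an abelian group of order prime to `|R|`.
-/

set_option autoImplicit false
set_option linter.style.haveILetI false
set_option linter.unusedVariables false

namespace Cfsg.Agent.Helper25

theorem exists_commute_of_fpf {G : Type*} [Group G] [Finite G] (V : Subgroup G) [hVn : V.Normal]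
    (hVab : ∀ a ∈ V, ∀ b ∈ V, a * b = b * a)
    (R : Subgroup G) (b : G) (r : ℕ) (hr : r.Prime) (hb : orderOf b = r)
    (hbR : ∀ x ∈ R, b * x * b⁻¹ ∈ R)
    (hfpfR : ∀ x ∈ R, x ≠ 1 → ∀ v ∈ V, x * v = v * x → v = 1)
    (hfpfb : ∀ x ∈ R, ∀ v ∈ V, (x * b * x⁻¹) * v = v * (x * b * x⁻¹) → v = 1)
    (hR1 : R ≠ ⊥)
    (hcop : ∀ v ∈ V, v ^ Nat.card R = 1 → v = 1)
    (hV1 : V ≠ ⊥) : ∃ d ∈ R, d ≠ 1 ∧ b * d = d * b := by
  classical
  by_contra hno
  push Not at hno
  apply hV1
  rw [Subgroup.eq_bot_iff_forall]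
  intro v₀ hv₀
  apply hcop v₀ hv₀
  obtain ⟨n, rfl⟩ : ∃ n, r = n + 1 := ⟨r - 1, (Nat.succ_pred_eq_of_pos hr.pos).symm⟩
  letI : CommGroup V :=
    { (inferInstance : Group V) with mul_comm := fun a c => Subtype.ext (hVab a a.2 c c.2) }
  haveI : Fintype R := Fintype.ofFinite R
  let φ : G →* MulAut V := MulAut.conjNormal
  set v : V := ⟨v₀, hv₀⟩ with hv
  have hfix : ∀ (g : G) (w : V), φ g w = w → (g * (w : G) = (w : G) * g) := by
    intro g w h
    have := congrArg Subtype.val h
    rw [MulAut.conjNormal_apply] at this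
    exact mul_inv_eq_iff_eq_mul.mp this
  have hNR : ∀ w : V, ∏ x : R, φ (x : G) w = 1 := by
    intro w
    obtain ⟨⟨y, hy⟩, hy1⟩ := Subgroup.ne_bot_iff_exists_ne_one.mp hR1
    have hy1' : y ≠ 1 := fun h => hy1 (Subtype.ext h)
    have hfixed : φ y (∏ x : R, φ (x : G) w) = ∏ x : R, φ (x : G) w := by
      rw [map_prod]
      have : ∀ x : R, φ y (φ (x : G) w) = φ (((⟨y, hy⟩ : R) * x : R) : G) w := by
        intro x
        rw [Subgroup.coe_mul, map_mul]
        rfl
      simp_rw [this]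
      exact Equiv.prod_comp (Equiv.mulLeft (⟨y, hy⟩ : R)) (fun x : R => φ (x : G) w)
    have := hfpfR y hy hy1' _ (∏ x : R, φ (x : G) w).2 (hfix y _ hfixed)
    exact Subtype.ext this
  have hNc : ∀ x ∈ R, ∏ i ∈ Finset.range (n + 1), φ ((x * b * x⁻¹) ^ i) v = 1 := by
    intro x hx
    set c := x * b * x⁻¹ with hc
    have hcr : c ^ (n + 1) = 1 := by
      rw [hc, conj_pow, ← hb, pow_orderOf_eq_one]; group
    have hfixed : φ c (∏ i ∈ Finset.range (n + 1), φ (c ^ i) v)
        = ∏ i ∈ Finset.range (n + 1), φ (c ^ i) v := by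
      rw [map_prod]
      have h1 : ∀ i, φ c (φ (c ^ i) v) = φ (c ^ (i + 1)) v := by
        intro i
        rw [pow_succ', map_mul φ c (c ^ i)]
        rfl
      simp_rw [h1]
      have e1 := Finset.prod_range_succ (fun i => φ (c ^ i) v) (n + 1)
      have e2 := Finset.prod_range_succ' (fun i => φ (c ^ i) v) (n + 1)
      rw [e1] at e2
      simp only [hcr, pow_zero] at e2
      exact (mul_right_cancel e2).symm
    have := hfpfb x hx _ (∏ i ∈ Finset.range (n + 1), φ (c ^ i) v).2 (hfix c _ hfixed)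
    exact Subtype.ext this
  have hstar : ∀ x ∈ R, ∏ i ∈ Finset.range n, φ ((x * b * x⁻¹) ^ (i + 1)) v = v⁻¹ := by
    intro x hx
    have h := hNc x hx
    rw [Finset.prod_range_succ'] at h
    simp only [pow_zero, map_one, MulAut.one_apply] at h
    exact eq_inv_of_mul_eq_one_left h
  have hbk : ∀ k : ℕ, ∀ x ∈ R, b ^ k * x * (b ^ k)⁻¹ ∈ R := by
    intro k
    induction k with
    | zero => intro y hy; simpa using hy
    | succ k ih =>
      intro y hy
      have := hbR _ (ih y hy)
      have e : b ^ (k + 1) * y * (b ^ (k + 1))⁻¹ = b * (b ^ k * y * (b ^ k)⁻¹) * b⁻¹ := by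
        rw [pow_succ']; group
      rw [e]
      exact this
  have hrows : ∏ x : R, ∏ i ∈ Finset.range n, φ (((x : G) * b * (x : G)⁻¹) ^ (i + 1)) v
      = v⁻¹ ^ Fintype.card R := by
    rw [Finset.prod_congr rfl (fun (x : R) _ => hstar (x : G) x.2), Finset.prod_const,
      Finset.card_univ]
  have hcols : ∏ x : R, ∏ i ∈ Finset.range n, φ (((x : G) * b * (x : G)⁻¹) ^ (i + 1)) v = 1 := by
    rw [Finset.prod_comm]
    apply Finset.prod_eq_one
    intro i hi
    have hilt : i + 1 < n + 1 := by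
      have := Finset.mem_range.mp hi
      omega
    let σ : R → R := fun x =>
      ⟨(x : G) * (b ^ (i + 1) * (x : G)⁻¹ * (b ^ (i + 1))⁻¹),
        R.mul_mem x.2 (hbk _ _ (R.inv_mem x.2))⟩
    have hσinj : Function.Injective σ := by
      intro x x' hxx'
      have h0 : (x : G) * (b ^ (i + 1) * (x : G)⁻¹ * (b ^ (i + 1))⁻¹)
          = (x' : G) * (b ^ (i + 1) * (x' : G)⁻¹ * (b ^ (i + 1))⁻¹) := congrArg Subtype.val hxx'
      have h1 : ((x' : G)⁻¹ * (x : G)) * b ^ (i + 1) = b ^ (i + 1) * ((x' : G)⁻¹ * (x : G)) := by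
        have e1 : ((x' : G)⁻¹ * (x : G)) * b ^ (i + 1)
            = (x' : G)⁻¹ * ((x : G) * (b ^ (i + 1) * (x : G)⁻¹ * (b ^ (i + 1))⁻¹)) * b ^ (i + 1) * (x : G) := by
          group
        rw [e1, h0]
        group
      have hcopj : (i + 1).Coprime (orderOf b) := by
        rw [hb]
        exact ((Nat.Prime.coprime_iff_not_dvd hr).mpr
          (Nat.not_dvd_of_pos_of_lt (Nat.succ_pos i) hilt)).symm
      obtain ⟨m, hm⟩ := exists_pow_eq_self_of_coprime hcopj
      have h2 : Commute ((x' : G)⁻¹ * (x : G)) (b ^ (i + 1)) := h1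
      have h3 : Commute ((x' : G)⁻¹ * (x : G)) b := by
        have := h2.pow_right m
        rwa [hm] at this
      have ht : (x' : G)⁻¹ * (x : G) = 1 := by
        by_contra hne
        exact hno _ (R.mul_mem (R.inv_mem x'.2) x.2) hne h3.eq.symm
      apply Subtype.ext
      have := inv_mul_eq_one.mp ht
      exact this.symm
    have hσbij : Function.Bijective σ := Finite.injective_iff_bijective.mp hσinj
    have key : ∀ x : R, φ (((x : G) * b * (x : G)⁻¹) ^ (i + 1)) v
        = φ ((σ x : R) : G) (φ (b ^ (i + 1)) v) := by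
      intro x
      rw [← MulAut.mul_apply, ← map_mul]
      congr 2
      show ((x : G) * b * (x : G)⁻¹) ^ (i + 1)
        = (x : G) * (b ^ (i + 1) * (x : G)⁻¹ * (b ^ (i + 1))⁻¹) * b ^ (i + 1)
      rw [conj_pow]
      group
    simp_rw [key]
    have hcomp := Equiv.prod_comp (Equiv.ofBijective σ hσbij)
      (fun y : R => φ (y : G) (φ (b ^ (i + 1)) v))
    simp only [Equiv.ofBijective_apply] at hcomp
    rw [hcomp]
    exact hNR _
  rw [hrows] at hcols
  have h1 : v ^ Fintype.card R = 1 := by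
    rw [inv_pow] at hcols
    exact inv_eq_one.mp hcols
  have h2 := congrArg Subtype.val h1
  rw [Nat.card_eq_fintype_card]
  simpa using h2

end Cfsg.Agent.Helper25
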