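import Mathlib
import Cfsg.Prelude.Def_OddOrderLocal
import Cfsg.Agent.Helper78.StructConst
import Cfsg.Agent.Helper80.CharIrr
import Cfsg.Agent.Helper79.Basic
import Cfsg.Agent.Helper3.CharBasic

/-!
# Character congruences for a TI Sylow subgroup (helper25)

Peterfalvi (6.6)(a): if `P` is a TI Sylow `p`-subgroup of `G` whose normaliser `L` has odd order,
`Z ≠ 1` is a subgroup of `Z(P)` normal in `L`, and `ψ ∈ Irr G` is constant on `Z ∖ 1`, then
`ψ z ∈ ℤ` and `ψ 1 ≡ ψ z (mod |P|)` for `z ∈ Z ∖ 1`.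

* `sum_eq_card_mul_of_free_action`: the sum of an invariant algebraic-integer valued function
  over a finite set with a free action of `H` is `|H|` times an algebraic integer.
* `ti_sylow_degree_congr`: the congruence.
-/

set_option autoImplicit false
set_option linter.style.haveILetI false
set_option linter.unusedVariables false
set_option linter.unusedSectionVars false
set_option maxHeartbeats 1000000

namespace Cfsg.Agent.Helper25

open Cfsg

section FreeAction

theorem card_dvd_card_of_free_action {H X : Type*} [Group H] [MulAction H X]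
    (hfree : ∀ (h : H) (x : X), h • x = x → h = 1) : Nat.card H ∣ Nat.card X := by
  have e := MulAction.selfEquivOrbitsQuotientProd (G := H) (X := X) (fun b => by
    ext h
    rw [MulAction.mem_stabilizer_iff, Subgroup.mem_bot]
    exact ⟨hfree h b, fun h1 => by rw [h1, one_smul]⟩)
  rw [Nat.card_congr e, Nat.card_prod]
  exact Dvd.intro_left _ rfl

theorem sum_eq_card_mul_of_free_action {H X : Type*} [Group H] [Finite H] [Fintype X]
    [MulAction H X] (hfree : ∀ (h : H) (x : X), h • x = x → h = 1) (F : X → ℂ)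
    (hF : ∀ (h : H) (x : X), F (h • x) = F x) (hint : ∀ x, IsIntegral ℤ (F x)) :
    ∃ r : ℂ, IsIntegral ℤ r ∧ ∑ x, F x = (Nat.card H : ℂ) * r := by
  classical
  have hdvd : ∀ b : ℂ, Nat.card H ∣ (Finset.univ.filter (fun a : X => F a = b)).card := by
    intro b
    let S : SubMulAction H X := ⟨{a | F a = b}, fun h a ha => by
      show F (h • a) = b
      rw [hF]; exact ha⟩
    have h1 : Nat.card S = (Finset.univ.filter (fun a : X => F a = b)).card :=
      Nat.subtype_card _ (fun x => by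
        rw [Finset.mem_filter]
        exact ⟨fun h => h.2, fun h => ⟨Finset.mem_univ _, h⟩⟩)
    rw [← h1]
    apply card_dvd_card_of_free_action
    intro h x hx
    apply hfree h (x : X)
    have := congrArg Subtype.val hx
    exact this
  have hsum : ∑ x, F x = ∑ b ∈ Finset.univ.image F,
      (Finset.univ.filter (fun a : X => F a = b)).card • b := by
    have := Finset.sum_comp (s := Finset.univ) (fun b : ℂ => b) F
    exact this
  refine ⟨∑ b ∈ Finset.univ.image F,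
    (((Finset.univ.filter (fun a : X => F a = b)).card / Nat.card H : ℕ) : ℂ) * b, ?_, ?_⟩
  · apply IsIntegral.sum
    intro b hb
    obtain ⟨a, -, rfl⟩ := Finset.mem_image.mp hb
    have hnat : ∀ k : ℕ, IsIntegral ℤ (k : ℂ) := fun k => by
      have := isIntegral_algebraMap (R := ℤ) (A := ℂ) (x := (k : ℤ))
      simpa using this
    exact (hnat _).mul (hint a)
  · rw [hsum, Finset.mul_sum]
    apply Finset.sum_congr rfl
    intro b _
    obtain ⟨k, hk⟩ := hdvd b
    rw [hk, Nat.mul_div_cancel_left _ Nat.card_pos, nsmul_eq_mul]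
    push_cast
    ring

end FreeAction

section Congr

theorem eq_one_of_conj_eq_inv_of_odd {G : Type*} [Group G] {u x : G} (hu : Odd (orderOf u))
    (hx : Odd (orderOf x)) (h : u * x * u⁻¹ = x⁻¹) : x = 1 := by
  have h3 : u * x = x⁻¹ * u := by rw [← h]; group
  have h4 : u * x⁻¹ = x * u := by
    have h' : u * x⁻¹ * u⁻¹ = x := by
      have h'' : u * x⁻¹ * u⁻¹ = (u * x * u⁻¹)⁻¹ := by group
      rw [h'', h, inv_inv]
    calc u * x⁻¹ = (u * x⁻¹ * u⁻¹) * u := by group
      _ = x * u := by rw [h']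
  have h2 : Commute (u * u) x := by
    show u * u * x = x * (u * u)
    calc u * u * x = u * (u * x) := by group
      _ = u * (x⁻¹ * u) := by rw [h3]
      _ = (u * x⁻¹) * u := by group
      _ = x * u * u := by rw [h4]
      _ = x * (u * u) := by group
  obtain ⟨k, hk⟩ := hu
  have h5 : (u * u) ^ (k + 1) = u := by
    have h5' : (u * u) ^ (k + 1) = u ^ (orderOf u) * u := by
      rw [hk, ← pow_two, ← pow_mul, ← pow_succ]
      congr 1
    rw [h5', pow_orderOf_eq_one, one_mul]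
  have h6 : Commute u x := by
    rw [← h5]; exact h2.pow_left _
  have h7 : x = x⁻¹ := by
    rw [← h, h6.eq]; group
  have h8 : x * x = 1 := by
    nth_rewrite 2 [h7]; exact mul_inv_cancel x
  have h9 : orderOf x ∣ 2 := orderOf_dvd_of_pow_eq_one (by rw [pow_two]; exact h8)
  have h10 : orderOf x = 1 := by
    rcases (Nat.dvd_prime Nat.prime_two).mp h9 with h | h
    · exact h
    · rw [h] at hx; exact absurd hx (by decide)
  exact orderOf_eq_one_iff.mp h10

/-- The action of `A × A` on the complement of a subgroup `N ≥ A` by `(a, b) • u = a u b⁻¹`. -/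
@[reducible] def twoSidedCompl {G : Type*} [Group G] (A N : Subgroup G) (hAN : A ≤ N) :
    MulAction (A × A) {u : G // u ∉ N} where
  smul c u := ⟨(c.1 : G) * u.1 * (c.2 : G)⁻¹, fun h => u.2 (by
      have h1 : (u.1 : G) = (c.1 : G)⁻¹ * ((c.1 : G) * u.1 * (c.2 : G)⁻¹) * (c.2 : G) := by group
      rw [h1]
      exact N.mul_mem (N.mul_mem (N.inv_mem (hAN c.1.2)) h) (hAN c.2.2))⟩
  one_smul u := Subtype.ext (by
    show (((1 : A × A).1 : A) : G) * u.1 * (((1 : A × A).2 : A) : G)⁻¹ = u.1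
    simp)
  mul_smul c c' u := Subtype.ext (by
    show (((c * c').1 : A) : G) * u.1 * (((c * c').2 : A) : G)⁻¹ =
      (c.1 : G) * ((c'.1 : G) * u.1 * (c'.2 : G)⁻¹) * (c.2 : G)⁻¹
    simp [mul_assoc])

theorem int_dvd_of_isIntegral_div {a : ℤ} {b : ℕ} (hb : b ≠ 0)
    (h : IsIntegral ℤ ((a : ℂ) / (b : ℂ))) : (b : ℤ) ∣ a := by
  have h1 : ((a : ℂ) / (b : ℂ)) = algebraMap ℚ ℂ ((a : ℚ) / (b : ℚ)) := by
    simp
  rw [h1, isIntegral_algebraMap_iff (algebraMap ℚ ℂ).injective] at h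
  obtain ⟨y, hy⟩ := IsIntegrallyClosed.isIntegral_iff.mp h
  have hb' : (b : ℚ) ≠ 0 := by exact_mod_cast hb
  have h2 : (a : ℚ) = (b : ℚ) * (y : ℚ) := by
    have : (y : ℚ) = (a : ℚ) / (b : ℚ) := by simpa using hy
    rw [this]; field_simp
  have h3 : a = (b : ℤ) * y := by exact_mod_cast h2
  exact ⟨y, h3⟩

/-- Peterfalvi (6.6)(a): for a TI Sylow `p`-subgroup `P` whose normaliser has odd order, a subgroup
`Z` of `Z(P)` normal in the normaliser, and an irreducible character `ψ` of `G` constant on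
`Z ∖ 1`: the value `ψ z` (`z ∈ Z ∖ 1`) is an integer congruent to `ψ 1` modulo `|P|`. -/
theorem ti_sylow_degree_congr {G : Type*} [Group G] [Fintype G] (p : ℕ) [Fact p.Prime]
    (P : Sylow p G) (hTI : IsTISubset ((P : Subgroup G) : Set G))
    (hodd : Odd (Nat.card (Subgroup.normalizer ((P : Subgroup G) : Set G))))
    (Z : Subgroup G) (hZP : Z ≤ P)
    (hZn : ∀ x ∈ Subgroup.normalizer ((P : Subgroup G) : Set G), ∀ z ∈ Z, x * z * x⁻¹ ∈ Z)
    (hZc : ∀ z ∈ Z, ∀ y ∈ (P : Subgroup G), z * y = y * z)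
    (ψ : G → ℂ) (hψ : IsIrrCharacter G ψ)
    (hconst : ∀ z ∈ Z, ∀ z' ∈ Z, z ≠ 1 → z' ≠ 1 → ψ z = ψ z') (z : G) (hz : z ∈ Z)
    (hz1 : z ≠ 1) :
    ∃ n d : ℤ, ψ z = n ∧ ψ 1 = d ∧ (Nat.card (P : Subgroup G) : ℤ) ∣ d - n := by
  classical
  obtain ⟨N, hN⟩ : ∃ N : Subgroup G, N = Subgroup.normalizer ((P : Subgroup G) : Set G) :=
    ⟨_, rfl⟩
  rw [← hN] at hodd hZn
  have hPN : (P : Subgroup G) ≤ N := by rw [hN]; exact Subgroup.le_normalizer
  have hTI' : ∀ u : G, u ∉ N → ∀ x ∈ (P : Subgroup G), u * x * u⁻¹ ∈ (P : Subgroup G) →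
      x = 1 := by
    intro u hu x hx hux
    rw [hN] at hu
    exact hTI u hu x hx hux
  have hcl := Cfsg.Agent.Helper79.isCharacter_isClassFunction
    (Cfsg.Agent.Helper80.isCharacter_of_irr hψ)
  have hint := Cfsg.Agent.Helper80.isCharacter_isIntegral
    (Cfsg.Agent.Helper80.isCharacter_of_irr hψ)
  have hoddN : ∀ u ∈ N, Odd (orderOf u) := by
    intro u hu
    have h1 : orderOf (⟨u, hu⟩ : N) ∣ Nat.card N := orderOf_dvd_natCard _
    rw [Subgroup.orderOf_mk] at h1
    exact Odd.of_dvd_nat hodd h1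
  have hzN : z ∈ N := hPN (hZP hz)
  have hzinv : z⁻¹ ∈ Z := Z.inv_mem hz
  have hzinv1 : z⁻¹ ≠ 1 := by simpa using hz1
  have hψinv : ψ z⁻¹ = ψ z := hconst z⁻¹ hzinv z hz hzinv1 hz1
  -- the functional equation
  have hSA := Cfsg.Agent.Helper80.irr_sum_conj_mul (⟨ψ, hψ⟩ : IrrCharacter G) z z
  have hSB := Cfsg.Agent.Helper80.irr_sum_conj_mul (⟨ψ, hψ⟩ : IrrCharacter G) z⁻¹ z
  simp only at hSA hSB
  rw [hψinv] at hSB
  have hAB : ∑ u : G, ψ (u * z * u⁻¹ * z) = ∑ u : G, ψ (u * z⁻¹ * u⁻¹ * z) := by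
    rw [hSA, hSB]
  -- the sums outside the normaliser
  have hout : ∀ z' ∈ Z, ∃ r : ℂ, IsIntegral ℤ r ∧
      ∑ u ∈ Finset.univ.filter (fun u : G => u ∉ N), ψ (u * z' * u⁻¹ * z) =
        (Nat.card (↥(P : Subgroup G) × ↥(P : Subgroup G)) : ℂ) * r := by
    intro z' hz'
    letI := twoSidedCompl (P : Subgroup G) N hPN
    have hfree : ∀ (c : ↥(P : Subgroup G) × ↥(P : Subgroup G)) (u : {u : G // u ∉ N}),
        c • u = u → c = 1 := by
      intro c u hcu
      have h1 : (c.1 : G) * u.1 * (c.2 : G)⁻¹ = u.1 := congrArg Subtype.val hcu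
      have h2 : u.1 * (c.2 : G) * u.1⁻¹ = (c.1 : G) := by
        calc u.1 * (c.2 : G) * u.1⁻¹ = ((c.1 : G) * u.1 * (c.2 : G)⁻¹) * (c.2 : G) * u.1⁻¹ := by
              rw [h1]
          _ = (c.1 : G) := by group
      have h3 : (c.2 : G) = 1 := hTI' u.1 u.2 c.2 c.2.2 (by rw [h2]; exact c.1.2)
      have h4 : (c.1 : G) = 1 := by rw [← h2, h3]; group
      exact Prod.ext (Subtype.ext h4) (Subtype.ext h3)
    have hinv : ∀ (c : ↥(P : Subgroup G) × ↥(P : Subgroup G)) (u : {u : G // u ∉ N}),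
        ψ ((c • u : {u : G // u ∉ N}).1 * z' * (c • u : {u : G // u ∉ N}).1⁻¹ * z) =
          ψ (u.1 * z' * u.1⁻¹ * z) := by
      intro c u
      have e1 : ((c • u : {u : G // u ∉ N}) : G) = (c.1 : G) * u.1 * (c.2 : G)⁻¹ := rfl
      have hc2 : z' * (c.2 : G) = (c.2 : G) * z' := hZc z' hz' _ c.2.2
      have hc1 : z * (c.1 : G) = (c.1 : G) * z := hZc z hz _ c.1.2
      have k1 : (c.2 : G)⁻¹ * z' * (c.2 : G) = z' := by
        rw [mul_assoc, hc2, ← mul_assoc, inv_mul_cancel, one_mul]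
      have k2 : (c.1 : G)⁻¹ * z = z * (c.1 : G)⁻¹ := by
        calc (c.1 : G)⁻¹ * z = (c.1 : G)⁻¹ * (z * (c.1 : G)) * (c.1 : G)⁻¹ := by group
          _ = (c.1 : G)⁻¹ * ((c.1 : G) * z) * (c.1 : G)⁻¹ := by rw [hc1]
          _ = z * (c.1 : G)⁻¹ := by group
      have k3 : ((c.1 : G) * u.1 * (c.2 : G)⁻¹) * z' * ((c.1 : G) * u.1 * (c.2 : G)⁻¹)⁻¹ * z =
          (c.1 : G) * (u.1 * z' * u.1⁻¹ * z) * (c.1 : G)⁻¹ := by
        calc ((c.1 : G) * u.1 * (c.2 : G)⁻¹) * z' * ((c.1 : G) * u.1 * (c.2 : G)⁻¹)⁻¹ * z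
            = (c.1 : G) * u.1 * ((c.2 : G)⁻¹ * z' * (c.2 : G)) * u.1⁻¹ * ((c.1 : G)⁻¹ * z) := by
              group
          _ = (c.1 : G) * u.1 * z' * u.1⁻¹ * (z * (c.1 : G)⁻¹) := by rw [k1, k2]
          _ = (c.1 : G) * (u.1 * z' * u.1⁻¹ * z) * (c.1 : G)⁻¹ := by group
      rw [e1, k3, hcl]
    obtain ⟨r, hr, hsum⟩ := sum_eq_card_mul_of_free_action hfree
      (fun u : {u : G // u ∉ N} => ψ (u.1 * z' * u.1⁻¹ * z)) hinv (fun u => hint _)
    refine ⟨r, hr, ?_⟩
    rw [← hsum]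
    exact Finset.sum_subtype _ (fun x => by simp) _
  -- the sums inside the normaliser
  have hinA : ∀ u ∈ N, ψ (u * z * u⁻¹ * z) = ψ z := by
    intro u hu
    have hw : u * z * u⁻¹ * z ∈ Z := Z.mul_mem (hZn u hu z hz) hz
    apply hconst _ hw z hz _ hz1
    intro h
    have h1 : u * z * u⁻¹ = z⁻¹ := eq_inv_of_mul_eq_one_left h
    exact hz1 (eq_one_of_conj_eq_inv_of_odd (hoddN u hu) (hoddN z hzN) h1)
  have hinB : ∀ u ∈ N, ψ (u * z⁻¹ * u⁻¹ * z) = if z * u = u * z then ψ 1 else ψ z := by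
    intro u hu
    by_cases hc : z * u = u * z
    · rw [if_pos hc]
      have h1 : u * z⁻¹ = z⁻¹ * u := by
        calc u * z⁻¹ = z⁻¹ * (z * u) * z⁻¹ := by group
          _ = z⁻¹ * (u * z) * z⁻¹ := by rw [hc]
          _ = z⁻¹ * u := by group
      have h2 : u * z⁻¹ * u⁻¹ * z = 1 := by
        calc u * z⁻¹ * u⁻¹ * z = (u * z⁻¹) * u⁻¹ * z := by group
          _ = (z⁻¹ * u) * u⁻¹ * z := by rw [h1]
          _ = 1 := by group
      rw [h2]
    · rw [if_neg hc]
      have hw : u * z⁻¹ * u⁻¹ * z ∈ Z := Z.mul_mem (hZn u hu z⁻¹ hzinv) hz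
      apply hconst _ hw z hz _ hz1
      intro h
      apply hc
      have h1 : u * z⁻¹ * u⁻¹ = z⁻¹ := eq_inv_of_mul_eq_one_left h
      have h2 : u * z⁻¹ = z⁻¹ * u := by
        calc u * z⁻¹ = (u * z⁻¹ * u⁻¹) * u := by group
          _ = z⁻¹ * u := by rw [h1]
      calc z * u = z * (u * z⁻¹) * z := by group
        _ = z * (z⁻¹ * u) * z := by rw [h2]
        _ = u * z := by group
  -- splitting the sums
  have hsplit : ∀ f : G → ℂ, ∑ u : G, f u =
      ∑ u ∈ Finset.univ.filter (fun u : G => u ∈ N), f u +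
        ∑ u ∈ Finset.univ.filter (fun u : G => u ∉ N), f u :=
    fun f => (Finset.sum_filter_add_sum_filter_not Finset.univ _ f).symm
  obtain ⟨rA, hrA, hRA⟩ := hout z hz
  obtain ⟨rB, hrB, hRB⟩ := hout z⁻¹ hzinv
  rw [hsplit, hsplit (fun u => ψ (u * z⁻¹ * u⁻¹ * z)), hRA, hRB] at hAB
  have hNcard : (Finset.univ.filter (fun u : G => u ∈ N)).card = Nat.card N :=
    (Nat.subtype_card _ (fun x => by simp)).symm
  have hinA' : ∑ u ∈ Finset.univ.filter (fun u : G => u ∈ N), ψ (u * z * u⁻¹ * z) =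
      (Nat.card N : ℂ) * ψ z := by
    rw [Finset.sum_congr rfl (fun u hu => hinA u (Finset.mem_filter.mp hu).2), Finset.sum_const,
      nsmul_eq_mul, hNcard]
  obtain ⟨C, hC⟩ : ∃ C : Subgroup G, C = N ⊓ Subgroup.centralizer ({z} : Set G) := ⟨_, rfl⟩
  have hCcard : ((Finset.univ.filter (fun u : G => u ∈ N)).filter
      (fun u => z * u = u * z)).card = Nat.card C := by
    refine (Nat.subtype_card _ (fun x => ?_)).symm
    rw [hC, Finset.mem_filter, Finset.mem_filter, Subgroup.mem_inf, Subgroup.mem_centralizer_iff]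
    constructor
    · rintro ⟨⟨-, h1⟩, h2⟩
      refine ⟨h1, fun w hw => ?_⟩
      rw [Set.mem_singleton_iff] at hw
      rw [hw]; exact h2
    · rintro ⟨h1, h2⟩
      exact ⟨⟨Finset.mem_univ _, h1⟩, h2 z (Set.mem_singleton z)⟩
  have hinB' : ∑ u ∈ Finset.univ.filter (fun u : G => u ∈ N), ψ (u * z⁻¹ * u⁻¹ * z) =
      (Nat.card C : ℂ) * ψ 1 + ((Nat.card N : ℂ) - (Nat.card C : ℂ)) * ψ z := by
    rw [Finset.sum_congr rfl (fun u hu => hinB u (Finset.mem_filter.mp hu).2), Finset.sum_ite,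
      Finset.sum_const, Finset.sum_const, nsmul_eq_mul, nsmul_eq_mul, hCcard]
    have h2 : ((Finset.univ.filter (fun u : G => u ∈ N)).filter
        (fun u => ¬ z * u = u * z)).card + Nat.card C = Nat.card N := by
      rw [← hCcard, add_comm, Finset.card_filter_add_card_filter_not, hNcard]
    have h3 : (((Finset.univ.filter (fun u : G => u ∈ N)).filter
        (fun u => ¬ z * u = u * z)).card : ℂ) = (Nat.card N : ℂ) - (Nat.card C : ℂ) := by
      rw [← h2]; push_cast; ring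
    rw [h3]
  rw [hinA', hinB'] at hAB
  -- degrees and integrality of `ψ z`
  obtain ⟨dn, hdpos, hd⟩ := Cfsg.Agent.Helper3.irr_apply_one_eq_nat hψ
  have hZcard : 2 ≤ Nat.card Z := by
    have hZne : Z ≠ ⊥ := by
      intro h
      rw [h, Subgroup.mem_bot] at hz
      exact hz1 hz
    have := (Subgroup.one_lt_card_iff_ne_bot Z).mpr hZne
    omega
  obtain ⟨m, hm⟩ := Cfsg.Agent.Helper78.exists_nat_sum_subgroup (⟨ψ, hψ⟩ : IrrCharacter G) Z
  simp only at hm
  have hsumZ : ∑ s : Z, ψ s = ψ 1 + ((Nat.card Z : ℂ) - 1) * ψ z := by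
    have e2 : ∑ s ∈ (Finset.univ : Finset Z).erase 1, ψ (s : G) =
        ((Nat.card Z : ℂ) - 1) * ψ z := by
      rw [Finset.sum_congr rfl (fun (s : Z) hs => hconst (s : G) s.2 z hz
        (fun h => (Finset.ne_of_mem_erase hs) (Subtype.ext h)) hz1), Finset.sum_const,
        nsmul_eq_mul, Finset.card_erase_of_mem (Finset.mem_univ _), Finset.card_univ,
        ← Nat.card_eq_fintype_card, Nat.cast_sub (by omega)]
      simp
    rw [← Finset.add_sum_erase Finset.univ (fun s : Z => ψ (s : G)) (Finset.mem_univ (1 : Z)), e2]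
    simp
  have hnint : ∃ n : ℤ, ψ z = n := by
    have hb : Nat.card Z - 1 ≠ 0 := by omega
    have h1 : ψ z = (((Nat.card Z : ℤ) * m - dn : ℤ) : ℂ) / ((Nat.card Z - 1 : ℕ) : ℂ) := by
      rw [eq_div_iff (by exact_mod_cast hb)]
      have h' := hm
      rw [hsumZ, hd] at h'
      push_cast [Nat.cast_sub (by omega : 1 ≤ Nat.card Z)]
      linear_combination h'
    have h2 := int_dvd_of_isIntegral_div hb (by rw [← h1]; exact hint z)
    obtain ⟨k, hk⟩ := h2
    refine ⟨k, ?_⟩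
    rw [h1, hk]
    have hb' : ((Nat.card Z - 1 : ℕ) : ℂ) ≠ 0 := by exact_mod_cast hb
    push_cast
    field_simp
  obtain ⟨n, hn⟩ := hnint
  -- `|P|` divides `|C|` with cofactor prime to `p`
  have hPC : (P : Subgroup G) ≤ C := by
    rw [hC]
    refine le_inf hPN ?_
    intro y hy
    rw [Subgroup.mem_centralizer_iff]
    intro w hw
    rw [Set.mem_singleton_iff] at hw
    rw [hw]
    exact hZc z hz y hy
  obtain ⟨c', hc'⟩ := Subgroup.card_dvd_of_le hPC
  have hpp : p.Prime := Fact.out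
  have hcop : Nat.Coprime (Nat.card (P : Subgroup G)) c' := by
    have hPcard := P.card_eq_multiplicity
    rw [hPcard]
    apply Nat.Coprime.pow_left
    rw [Nat.Prime.coprime_iff_not_dvd hpp]
    intro hdvd
    have h1 : p ^ ((Nat.card G).factorization p + 1) ∣ Nat.card G := by
      have h2 : p ^ ((Nat.card G).factorization p + 1) ∣ Nat.card C := by
        rw [hc', hPcard, pow_succ]
        exact Nat.mul_dvd_mul_left _ hdvd
      exact h2.trans (Subgroup.card_subgroup_dvd_card C)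
    exact Nat.pow_succ_factorization_not_dvd Nat.card_pos.ne' hpp h1
  -- the main equation
  have hPP : (Nat.card (↥(P : Subgroup G) × ↥(P : Subgroup G)) : ℂ) =
      (Nat.card (P : Subgroup G) : ℂ) * (Nat.card (P : Subgroup G) : ℂ) := by
    rw [Nat.card_prod]; push_cast; ring
  rw [hPP, hc', hd, hn] at hAB
  have hPne : (Nat.card (P : Subgroup G) : ℂ) ≠ 0 := by exact_mod_cast Nat.card_pos.ne'
  have hkey : (((c' : ℤ) * (n - dn) : ℤ) : ℂ) / ((Nat.card (P : Subgroup G) : ℕ) : ℂ) =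
      rB - rA := by
    rw [div_eq_iff hPne]
    push_cast at hAB ⊢
    apply mul_left_cancel₀ hPne
    linear_combination hAB
  have hdvd := int_dvd_of_isIntegral_div Nat.card_pos.ne' (by rw [hkey]; exact hrB.sub hrA)
  have hcop' : IsCoprime ((Nat.card (P : Subgroup G) : ℕ) : ℤ) (c' : ℤ) :=
    Nat.isCoprime_iff_coprime.mpr hcop
  have hfin : ((Nat.card (P : Subgroup G) : ℕ) : ℤ) ∣ n - dn :=
    hcop'.dvd_of_dvd_mul_left hdvd
  refine ⟨n, dn, hn, by rw [hd]; simp, ?_⟩
  rw [dvd_sub_comm]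
  exact hfin

end Congr

end Cfsg.Agent.Helper25
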