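import Mathlib
import Cfsg.Agent.Helper14.ZSpan
import Cfsg.Agent.Helper25.Coh8
import Cfsg.Agent.Helper4.GenChar1

/-!
# Extension steps for coherence without coherence systems (helper25)

Variants of Peterfalvi (6.3), following the structure of the proof of `S1530` (helper14).

* `coh_extend`: the extension principle: if `τ (q χ - m θ) = q Δ - m τ₁ θ` with `Δ` a virtual
  character of norm one orthogonal to `τ₁ T`, then `τ₁` extends to `T ∪ {χ}` by `χ ↦ Δ`.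
* `coh_reflect`: for a two-element set `{θ, θ'}` of equal degrees, the extension `τ₁` may be
  replaced by its composite with the reflection `θ ↦ -θ'`, `θ' ↦ -θ`.
* `coh_insert`: the unified extension step (degrees `q · d χ = m · d θ`), with a divisibility
  hypothesis replacing `d θ ∣ d χ`.
-/

set_option autoImplicit false
set_option linter.style.haveILetI false
set_option linter.unusedVariables false
set_option linter.unusedSectionVars false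
set_option maxHeartbeats 1000000

namespace Cfsg.Agent.Helper25

open Cfsg

section Sib2

variable {L : Type*} [Group L] [Fintype L] {G : Type*} [Group G] [Fintype G]

/-- The extension principle. -/
theorem coh_extend (T : Finset (L → ℂ)) (χ : L → ℂ)
    (hirr : ∀ ξ ∈ insert χ T, IsIrrCharacter L ξ) (hχT : χ ∉ T)
    (d : (L → ℂ) → ℕ) (hd : ∀ ξ ∈ insert χ T, ξ 1 = (d ξ : ℂ))
    (τ : (L → ℂ) → (G → ℂ))
    (hτ : IsLinearIsometryOn (zspanOn (↑(insert χ T) : Set (L → ℂ)) ({1}ᶜ : Set L)) τ)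
    (τ₁ : (L → ℂ) → (G → ℂ)) (hτ₁ : IsLinearIsometryOn (zspan (↑T : Set (L → ℂ))) τ₁)
    (hτ₁τ : ∀ α ∈ zspanOn (↑T : Set (L → ℂ)) ({1}ᶜ : Set L), τ₁ α = τ α)
    (θ : L → ℂ) (hθ : θ ∈ T) (q m : ℕ) (hq : 0 < q) (hqm : q * d χ = m * d θ)
    (Δ : G → ℂ) (hΔgen : IsGeneralizedCharacter G Δ) (hΔnorm : classInner Δ Δ = 1)
    (hΔorth : ∀ ξ ∈ T, classInner Δ (τ₁ ξ) = 0)
    (hβ : τ ((q : ℤ) • χ - (m : ℤ) • θ) = (q : ℤ) • Δ - (m : ℤ) • τ₁ θ) :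
    ∃ τ₂ : (L → ℂ) → (G → ℂ),
      IsLinearIsometryOn (zspan (↑(insert χ T) : Set (L → ℂ))) τ₂ ∧
      (∀ α ∈ zspanOn (↑(insert χ T) : Set (L → ℂ)) ({1}ᶜ : Set L), τ₂ α = τ α) ∧
      τ₂ χ = Δ ∧ ∀ z ∈ zspan (↑T : Set (L → ℂ)), τ₂ z = τ₁ z := by
  classical
  have hχI : χ ∈ insert χ T := Finset.mem_insert_self χ T
  have hθI : θ ∈ insert χ T := Finset.mem_insert_of_mem hθ
  have hχ : IsIrrCharacter L χ := hirr χ hχI
  have hirrT : ∀ ξ ∈ T, IsIrrCharacter L ξ := fun ξ h => hirr ξ (Finset.mem_insert_of_mem h)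
  have hsub : (↑T : Set (L → ℂ)) ⊆ (↑(insert χ T) : Set (L → ℂ)) := by
    intro x hx
    exact Finset.mem_coe.mpr (Finset.mem_insert_of_mem (Finset.mem_coe.mp hx))
  have hSsp : ∀ ξ ∈ T, ξ ∈ zspan (↑T : Set (L → ℂ)) := fun ξ h =>
    Submodule.subset_span (Finset.mem_coe.mpr h)
  have hTsp : ∀ ξ ∈ insert χ T, ξ ∈ zspan (↑(insert χ T) : Set (L → ℂ)) := fun ξ h =>
    Submodule.subset_span (Finset.mem_coe.mpr h)
  have hχχ := Cfsg.Agent.Helper15.irr_inner_self hχ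
  have hχorth : ∀ z ∈ zspan (↑T : Set (L → ℂ)), classInner z χ = 0 := by
    intro z hz
    exact Cfsg.Agent.Helper14.ZS.zspan_orth (X := (↑T : Set (L → ℂ))) (Y := {χ}) (by
      intro x hx y hy
      rw [Set.mem_singleton_iff] at hy
      subst hy
      exact Cfsg.Agent.Helper15.irr_inner_ne (hirrT x (Finset.mem_coe.mp hx)) hχ
        (fun h => hχT (h ▸ Finset.mem_coe.mp hx))) z hz χ
      (Submodule.subset_span (Set.mem_singleton χ))
  have hχorth' : ∀ z ∈ zspan (↑T : Set (L → ℂ)), classInner χ z = 0 := by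
    intro z hz
    rw [Cfsg.Agent.Helper15.classInner_conj_symm, hχorth z hz, map_zero]
  have hΔorth₁ : ∀ z ∈ zspan (↑T : Set (L → ℂ)), classInner Δ (τ₁ z) = 0 :=
    Cfsg.Agent.Helper14.ZS.iso_orth_left hτ₁ Δ (fun x hx => hΔorth x (Finset.mem_coe.mp hx))
  have hΔorth₁' : ∀ z ∈ zspan (↑T : Set (L → ℂ)), classInner (τ₁ z) Δ = 0 := by
    intro z hz
    rw [Cfsg.Agent.Helper15.classInner_conj_symm, hΔorth₁ z hz, map_zero]
  have huniq : ∀ (n n' : ℤ) (z z' : L → ℂ), z ∈ zspan (↑T : Set (L → ℂ)) →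
      z' ∈ zspan (↑T : Set (L → ℂ)) → n • χ + z = n' • χ + z' → n = n' ∧ z = z' := by
    intro n n' z z' hz hz' h
    have h1 := congrArg (fun f => classInner f χ) h
    simp only [Cfsg.Agent.Helper15.classInner_add_left,
      Cfsg.Agent.Helper14.Coh.classInner_zsmul_left, hχorth z hz, hχorth z' hz', hχχ] at h1
    have hn : n = n' := by
      have h2 : (n : ℂ) = n' := by linear_combination h1
      exact_mod_cast h2
    subst hn
    exact ⟨rfl, add_left_cancel h⟩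
  obtain ⟨τ₂, hτ₂⟩ : ∃ τ₂ : (L → ℂ) → (G → ℂ), ∀ (n : ℤ) (z : L → ℂ),
      z ∈ zspan (↑T : Set (L → ℂ)) → τ₂ (n • χ + z) = n • Δ + τ₁ z := by
    refine ⟨fun θ => if h : ∃ n : ℤ, ∃ z ∈ zspan (↑T : Set (L → ℂ)), θ = n • χ + z then
      h.choose • Δ + τ₁ h.choose_spec.choose else 0, ?_⟩
    intro n z hz
    have h : ∃ n' : ℤ, ∃ z' ∈ zspan (↑T : Set (L → ℂ)), n • χ + z = n' • χ + z' :=
      ⟨n, z, hz, rfl⟩
    simp only [dif_pos h]
    obtain ⟨h1, h2⟩ := huniq n _ z _ hz h.choose_spec.choose_spec.1 h.choose_spec.choose_spec.2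
    exact congrArg₂ (· + ·) (congrArg (· • Δ) h1.symm) (congrArg τ₁ h2.symm)
  have hdec : ∀ θ ∈ zspan (↑(insert χ T) : Set (L → ℂ)),
      ∃ n : ℤ, ∃ z ∈ zspan (↑T : Set (L → ℂ)), θ = n • χ + z := by
    intro θ hθ
    unfold zspan at hθ
    rw [Finset.coe_insert] at hθ
    exact Submodule.mem_span_insert.mp hθ
  have hβT : (q : ℤ) • χ - (m : ℤ) • θ ∈
      zspanOn (↑(insert χ T) : Set (L → ℂ)) ({1}ᶜ : Set L) := by
    refine ⟨Submodule.sub_mem _ (Submodule.smul_mem _ _ (hTsp χ hχI))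
      (Submodule.smul_mem _ _ (hTsp θ hθI)), fun w hw => ?_⟩
    have hw1 : w = 1 := by simpa using hw
    subst hw1
    rw [Pi.sub_apply, Pi.smul_apply, Pi.smul_apply, zsmul_eq_mul, zsmul_eq_mul, hd χ hχI,
      hd θ hθI]
    have hqm' : (q : ℂ) * (d χ : ℂ) = (m : ℂ) * (d θ : ℂ) := by exact_mod_cast hqm
    push_cast
    linear_combination hqm'
  refine ⟨τ₂, ⟨?_, ?_, ?_, ?_⟩, ?_, ?_, ?_⟩
  · intro θ hθ θ' hθ'
    obtain ⟨n, z, hz, rfl⟩ := hdec θ hθ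
    obtain ⟨n', z', hz', rfl⟩ := hdec θ' hθ'
    have e : n • χ + z + (n' • χ + z') = (n + n') • χ + (z + z') := by
      rw [add_smul]
      abel
    rw [e, hτ₂ _ _ (Submodule.add_mem _ hz hz'), hτ₂ n z hz, hτ₂ n' z' hz', hτ₁.1 z hz z' hz',
      add_smul]
    abel
  · intro θ hθ k
    obtain ⟨n, z, hz, rfl⟩ := hdec θ hθ
    have e : k • (n • χ + z) = (k * n) • χ + k • z := by
      rw [smul_add, mul_smul]
    rw [e, hτ₂ _ _ (Submodule.smul_mem _ k hz), hτ₂ n z hz, hτ₁.2.1 z hz k, smul_add, mul_smul]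
  · intro θ hθ θ' hθ'
    obtain ⟨n, z, hz, rfl⟩ := hdec θ hθ
    obtain ⟨n', z', hz', rfl⟩ := hdec θ' hθ'
    rw [hτ₂ n z hz, hτ₂ n' z' hz']
    simp only [Cfsg.Agent.Helper15.classInner_add_left, Cfsg.Agent.Helper15.classInner_add_right,
      Cfsg.Agent.Helper14.Coh.classInner_zsmul_left,
      Cfsg.Agent.Helper14.ZS.classInner_zsmul_right]
    rw [hΔnorm, hΔorth₁ z' hz', hΔorth₁' z hz, hτ₁.2.2.1 z hz z' hz', hχχ, hχorth' z' hz',
      hχorth z hz]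
  · intro θ hθ
    obtain ⟨n, z, hz, rfl⟩ := hdec θ hθ
    rw [hτ₂ n z hz]
    exact Cfsg.Agent.Helper14.ZS.genChar_add (Cfsg.Agent.Helper14.ZS.genChar_zsmul hΔgen n)
      (hτ₁.2.2.2 z hz)
  · intro α hα
    obtain ⟨n, z, hz, rfl⟩ := hdec α hα.1
    rw [hτ₂ n z hz]
    have h1 : (n • χ + z) 1 = 0 := hα.2 1 (by simp)
    have hw : (q : ℤ) • z + (n * (m : ℤ)) • θ ∈
        zspanOn (↑T : Set (L → ℂ)) ({1}ᶜ : Set L) := by
      refine ⟨Submodule.add_mem _ (Submodule.smul_mem _ _ hz)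
        (Submodule.smul_mem _ _ (hSsp θ hθ)), fun w hw => ?_⟩
      have hw1 : w = 1 := by simpa using hw
      subst hw1
      rw [Pi.add_apply, Pi.smul_apply, Pi.smul_apply, zsmul_eq_mul, zsmul_eq_mul, hd θ hθI]
      rw [Pi.add_apply, Pi.smul_apply, zsmul_eq_mul, hd χ hχI] at h1
      have hqm' : (q : ℂ) * (d χ : ℂ) = (m : ℂ) * (d θ : ℂ) := by exact_mod_cast hqm
      push_cast
      linear_combination (q : ℂ) * h1 - (n : ℂ) * hqm'
    have hnβ := Cfsg.Agent.Helper14.ZS.zspanOn_zsmul hβT n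
    have hwT := Cfsg.Agent.Helper14.ZS.zspanOn_mono hsub hw
    have e : (q : ℤ) • (n • χ + z) = ((q : ℤ) • z + (n * (m : ℤ)) • θ) +
        n • ((q : ℤ) • χ - (m : ℤ) • θ) := by
      module
    have h2 : τ ((q : ℤ) • (n • χ + z)) = (q : ℤ) • (n • Δ + τ₁ z) := by
      rw [e, hτ.1 _ hwT _ hnβ, hτ.2.1 _ hβT n, ← hτ₁τ _ hw,
        hτ₁.1 _ (Submodule.smul_mem _ _ hz) _ (Submodule.smul_mem _ _ (hSsp θ hθ)),
        hτ₁.2.1 z hz, hτ₁.2.1 θ (hSsp θ hθ), hβ]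
      module
    have h3 : τ ((q : ℤ) • (n • χ + z)) = (q : ℤ) • τ (n • χ + z) := hτ.2.1 _ hα q
    have h4 : (q : ℤ) • τ (n • χ + z) = (q : ℤ) • (n • Δ + τ₁ z) := by rw [← h3, h2]
    have hq' : ((q : ℕ) : ℤ) ≠ 0 := by exact_mod_cast hq.ne'
    exact (smul_right_injective (G → ℂ) hq' h4).symm
  · have h := hτ₂ 1 0 (Submodule.zero_mem _)
    rw [one_smul, one_smul, add_zero, Cfsg.Agent.Helper14.ZS.iso_zero hτ₁, add_zero] at h
    exact h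
  · intro z hz
    have h := hτ₂ 0 z hz
    rw [zero_smul, zero_smul, zero_add, zero_add] at h
    exact h

/-- For a two-element set `{θ, θ'}` of irreducible characters of equal degree, an extension `τ₁`
may be replaced by the one with `θ ↦ -τ₁ θ'`, `θ' ↦ -τ₁ θ`. -/
theorem coh_reflect (θ θ' : L → ℂ) (hθ : IsIrrCharacter L θ) (hθ' : IsIrrCharacter L θ')
    (hne : θ' ≠ θ) (hdeg : θ' 1 = θ 1) (τ : (L → ℂ) → (G → ℂ)) (τ₁ : (L → ℂ) → (G → ℂ))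
    (hτ₁ : IsLinearIsometryOn (zspan (↑({θ, θ'} : Finset (L → ℂ)) : Set (L → ℂ))) τ₁)
    (hτ₁τ : ∀ α ∈ zspanOn (↑({θ, θ'} : Finset (L → ℂ)) : Set (L → ℂ)) ({1}ᶜ : Set L),
      τ₁ α = τ α) :
    ∃ τ₁' : (L → ℂ) → (G → ℂ),
      IsLinearIsometryOn (zspan (↑({θ, θ'} : Finset (L → ℂ)) : Set (L → ℂ))) τ₁' ∧
      (∀ α ∈ zspanOn (↑({θ, θ'} : Finset (L → ℂ)) : Set (L → ℂ)) ({1}ᶜ : Set L),
        τ₁' α = τ α) ∧
      τ₁' θ = -τ₁ θ' ∧ τ₁' θ' = -τ₁ θ := by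
  classical
  obtain ⟨T, hT⟩ : ∃ T : Set (L → ℂ), T = (↑({θ, θ'} : Finset (L → ℂ)) : Set (L → ℂ)) :=
    ⟨_, rfl⟩
  rw [← hT] at hτ₁ hτ₁τ ⊢
  have hmemT : ∀ x, x ∈ T ↔ x = θ ∨ x = θ' := by
    intro x
    rw [hT]
    simp
  have hθT : θ ∈ zspan T := Submodule.subset_span ((hmemT θ).mpr (Or.inl rfl))
  have hθ'T : θ' ∈ zspan T := Submodule.subset_span ((hmemT θ').mpr (Or.inr rfl))
  have hirrT : ∀ x ∈ T, IsIrrCharacter L x := by
    intro x hx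
    rcases (hmemT x).mp hx with rfl | rfl
    · exact hθ
    · exact hθ'
  have h11 := Cfsg.Agent.Helper15.irr_inner_self hθ
  have h22 := Cfsg.Agent.Helper15.irr_inner_self hθ'
  have h12 : classInner θ θ' = 0 := Cfsg.Agent.Helper15.irr_inner_ne hθ hθ' (Ne.symm hne)
  have h21 : classInner θ' θ = 0 := Cfsg.Agent.Helper15.irr_inner_ne hθ' hθ hne
  obtain ⟨c, hc⟩ : ∃ c : (L → ℂ) → ℂ, ∀ z, c z = classInner z θ + classInner z θ' :=
    ⟨fun z => classInner z θ + classInner z θ', fun z => rfl⟩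
  have hgθ : IsGeneralizedCharacter L θ :=
    ⟨θ, 0, Cfsg.Agent.Helper80.isCharacter_of_irr hθ, Cfsg.Agent.Helper79.isCharacter_zero, by simp⟩
  have hgθ' : IsGeneralizedCharacter L θ' :=
    ⟨θ', 0, Cfsg.Agent.Helper80.isCharacter_of_irr hθ', Cfsg.Agent.Helper79.isCharacter_zero,
      by simp⟩
  have hcint : ∀ z ∈ zspan T, ∃ k : ℤ, c z = k := by
    intro z hz
    have hzg := isGeneralizedCharacter_of_mem_zspan
      (fun x hx => Cfsg.Agent.Helper80.isCharacter_of_irr (hirrT x hx)) hz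
    obtain ⟨k1, hk1⟩ := genChar_inner_int hzg hgθ
    obtain ⟨k2, hk2⟩ := genChar_inner_int hzg hgθ'
    exact ⟨k1 + k2, by rw [hc, hk1, hk2]; push_cast; ring⟩
  have hcadd : ∀ a b, c (a + b) = c a + c b := by
    intro a b
    rw [hc, hc, hc, Cfsg.Agent.Helper75.classInner_add_left,
      Cfsg.Agent.Helper75.classInner_add_left]
    ring
  have hcsmul : ∀ (n : ℤ) a, c (n • a) = (n : ℂ) * c a := by
    intro n a
    rw [hc, hc, Cfsg.Agent.Helper14.Coh.classInner_zsmul_left,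
      Cfsg.Agent.Helper14.Coh.classInner_zsmul_left]
    ring
  have hc1 : ∀ z ∈ zspan T, z 1 = c z * θ 1 := by
    intro z hz
    induction hz using Submodule.span_induction with
    | mem x hx =>
      rcases (hmemT x).mp hx with rfl | rfl
      · rw [hc, h11, h12]; ring
      · rw [hc, h21, h22, hdeg]; ring
    | zero =>
      rw [hc, Cfsg.Agent.Helper75.classInner_zero_left, Cfsg.Agent.Helper75.classInner_zero_left]
      simp
    | add a b _ _ ha hb => rw [Pi.add_apply, ha, hb, hcadd]; ring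
    | smul n a _ ha => rw [Pi.smul_apply, ha, hcsmul, zsmul_eq_mul]; ring
  obtain ⟨u, hu⟩ : ∃ u : G → ℂ, u = τ₁ θ + τ₁ θ' := ⟨_, rfl⟩
  have hcu : ∀ z ∈ zspan T, classInner (τ₁ z) u = c z := by
    intro z hz
    rw [hu, Cfsg.Agent.Helper75.classInner_add_right, hτ₁.2.2.1 z hz θ hθT,
      hτ₁.2.2.1 z hz θ' hθ'T, hc]
  have huc : ∀ z ∈ zspan T, classInner u (τ₁ z) = (starRingEnd ℂ) (c z) := by
    intro z hz
    rw [Cfsg.Agent.Helper75.classInner_conj_symm, hcu z hz]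
  have huu : classInner u u = 2 := by
    rw [hu, Cfsg.Agent.Helper75.classInner_add_left, Cfsg.Agent.Helper75.classInner_add_right,
      Cfsg.Agent.Helper75.classInner_add_right, hτ₁.2.2.1 θ hθT θ hθT, hτ₁.2.2.1 θ hθT θ' hθ'T,
      hτ₁.2.2.1 θ' hθ'T θ hθT, hτ₁.2.2.1 θ' hθ'T θ' hθ'T, h11, h12, h21, h22]
    norm_num
  have hcθ : c θ = 1 := by rw [hc, h11, h12]; ring
  have hcθ' : c θ' = 1 := by rw [hc, h21, h22]; ring
  refine ⟨fun z => τ₁ z - c z • u, ⟨?_, ?_, ?_, ?_⟩, ?_, ?_, ?_⟩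
  · intro a ha b hb
    show τ₁ (a + b) - c (a + b) • u = (τ₁ a - c a • u) + (τ₁ b - c b • u)
    rw [hτ₁.1 a ha b hb, hcadd, add_smul]
    abel
  · intro a ha n
    show τ₁ (n • a) - c (n • a) • u = n • (τ₁ a - c a • u)
    rw [hτ₁.2.1 a ha n, hcsmul, smul_sub, mul_smul, Int.cast_smul_eq_zsmul]
  · intro a ha b hb
    show classInner (τ₁ a - c a • u) (τ₁ b - c b • u) = classInner a b
    obtain ⟨k, hk⟩ := hcint b hb
    rw [Cfsg.Agent.Helper75.classInner_sub_left, Cfsg.Agent.Helper75.classInner_sub_right,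
      Cfsg.Agent.Helper75.classInner_sub_right, Cfsg.Agent.Helper75.classInner_smul_left,
      Cfsg.Agent.Helper75.classInner_smul_left, Cfsg.Agent.Helper75.classInner_smul_right,
      Cfsg.Agent.Helper75.classInner_smul_right, hτ₁.2.2.1 a ha b hb, hcu a ha, huc b hb, huu,
      hk]
    simp only [map_intCast]
    ring
  · intro a ha
    show IsGeneralizedCharacter G (τ₁ a - c a • u)
    obtain ⟨k, hk⟩ := hcint a ha
    rw [hk, Int.cast_smul_eq_zsmul, hu]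
    exact Cfsg.Agent.Helper14.ZS.genChar_sub (hτ₁.2.2.2 a ha)
      (Cfsg.Agent.Helper14.ZS.genChar_zsmul
        (Cfsg.Agent.Helper14.ZS.genChar_add (hτ₁.2.2.2 θ hθT) (hτ₁.2.2.2 θ' hθ'T)) k)
  · intro α hα
    show τ₁ α - c α • u = τ α
    have h1 : α 1 = 0 := hα.2 1 (by simp)
    have h2 := hc1 α hα.1
    rw [h1] at h2
    have hθ1 : θ 1 ≠ 0 := Cfsg.Agent.Helper3.irr_apply_one_ne_zero hθ
    have h3 : c α = 0 := by
      rcases mul_eq_zero.mp h2.symm with h | h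
      · exact h
      · exact absurd h hθ1
    rw [h3, zero_smul, sub_zero, hτ₁τ α hα]
  · show τ₁ θ - c θ • u = -τ₁ θ'
    rw [hcθ, one_smul, hu]
    abel
  · show τ₁ θ' - c θ' • u = -τ₁ θ
    rw [hcθ', one_smul, hu]
    abel

/-- The unified extension step: `q · d χ = m · d θ` with `θ ∈ T`, a divisibility hypothesis on the
multiplicities in `τ (q χ - m θ)` of the irreducible characters orthogonal to `τ (ℤ[T, 1ᶜ])`, and
enough mass in `T` (or the two-element special case). -/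
theorem coh_insert (T : Finset (L → ℂ)) (χ : L → ℂ)
    (hirr : ∀ ξ ∈ insert χ T, IsIrrCharacter L ξ) (hχT : χ ∉ T)
    (d : (L → ℂ) → ℕ) (hd : ∀ ξ ∈ insert χ T, ξ 1 = (d ξ : ℂ))
    (τ : (L → ℂ) → (G → ℂ))
    (hτ : IsLinearIsometryOn (zspanOn (↑(insert χ T) : Set (L → ℂ)) ({1}ᶜ : Set L)) τ)
    (hτ1 : ∀ α ∈ zspanOn (↑(insert χ T) : Set (L → ℂ)) ({1}ᶜ : Set L), τ α 1 = 0)
    (τ₁ : (L → ℂ) → (G → ℂ)) (hτ₁ : IsLinearIsometryOn (zspan (↑T : Set (L → ℂ))) τ₁)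
    (hτ₁τ : ∀ α ∈ zspanOn (↑T : Set (L → ℂ)) ({1}ᶜ : Set L), τ₁ α = τ α)
    (θ : L → ℂ) (hθ : θ ∈ T) (q m : ℕ) (hq : 0 < q) (hm : 0 < m) (hqm : q * d χ = m * d θ)
    (hdiv : ∀ ψ : G → ℂ, IsIrrCharacter G ψ →
      (∀ γ ∈ zspanOn (↑T : Set (L → ℂ)) ({1}ᶜ : Set L), classInner (τ γ) ψ = 0) →
      ∃ k : ℤ, classInner (τ ((q : ℤ) • χ - (m : ℤ) • θ)) ψ = (q : ℂ) * k)
    (hmass : 2 * m * d θ ^ 2 < ∑ ξ ∈ T, d ξ ^ 2 ∨
      (m = 1 ∧ ∃ θ' ∈ T, θ' ≠ θ ∧ T = {θ, θ'} ∧ d θ' = d θ)) :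
    ∃ τ₂ : (L → ℂ) → (G → ℂ),
      IsLinearIsometryOn (zspan (↑(insert χ T) : Set (L → ℂ))) τ₂ ∧
      ∀ α ∈ zspanOn (↑(insert χ T) : Set (L → ℂ)) ({1}ᶜ : Set L), τ₂ α = τ α := by
  classical
  have hsub : (↑T : Set (L → ℂ)) ⊆ (↑(insert χ T) : Set (L → ℂ)) := by
    intro x hx
    exact Finset.mem_coe.mpr (Finset.mem_insert_of_mem (Finset.mem_coe.mp hx))
  have hχI : χ ∈ insert χ T := Finset.mem_insert_self χ T
  have hθI : θ ∈ insert χ T := Finset.mem_insert_of_mem hθ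
  have hχ : IsIrrCharacter L χ := hirr χ hχI
  have hirrT : ∀ ξ ∈ T, IsIrrCharacter L ξ := fun ξ h => hirr ξ (Finset.mem_insert_of_mem h)
  have hdpos : ∀ ξ ∈ insert χ T, 0 < d ξ := by
    intro ξ hξ
    have h1 := hd ξ hξ
    have h2 := Cfsg.Agent.Helper3.irr_apply_one_ne_zero (hirr ξ hξ)
    rw [h1] at h2
    have h3 : d ξ ≠ 0 := by
      intro h
      apply h2
      rw [h]
      simp
    omega
  have hθ1 : θ 1 = (d θ : ℂ) := hd θ hθI
  have hχ1 : χ 1 = (d χ : ℂ) := hd χ hχI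
  have hθne : θ ≠ χ := fun h => hχT (h ▸ hθ)
  have hSsp : ∀ ξ ∈ T, ξ ∈ zspan (↑T : Set (L → ℂ)) := fun ξ h =>
    Submodule.subset_span (Finset.mem_coe.mpr h)
  have hTsp : ∀ ξ ∈ insert χ T, ξ ∈ zspan (↑(insert χ T) : Set (L → ℂ)) := fun ξ h =>
    Submodule.subset_span (Finset.mem_coe.mpr h)
  have hqm' : (q : ℂ) * (d χ : ℂ) = (m : ℂ) * (d θ : ℂ) := by exact_mod_cast hqm
  obtain ⟨β, hβ⟩ : ∃ β : L → ℂ, β = (q : ℤ) • χ - (m : ℤ) • θ := ⟨_, rfl⟩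
  have hβT : β ∈ zspanOn (↑(insert χ T) : Set (L → ℂ)) ({1}ᶜ : Set L) := by
    rw [hβ]
    refine ⟨Submodule.sub_mem _ (Submodule.smul_mem _ _ (hTsp χ hχI))
      (Submodule.smul_mem _ _ (hTsp θ hθI)), fun w hw => ?_⟩
    have hw1 : w = 1 := by simpa using hw
    subst hw1
    rw [Pi.sub_apply, Pi.smul_apply, Pi.smul_apply, zsmul_eq_mul, zsmul_eq_mul, hχ1, hθ1]
    push_cast
    linear_combination hqm'
  have hγ : ∀ ξ ∈ T, (d θ : ℤ) • ξ - (d ξ : ℤ) • θ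
      ∈ zspanOn (↑T : Set (L → ℂ)) ({1}ᶜ : Set L) := by
    intro ξ hξ
    refine ⟨Submodule.sub_mem _ (Submodule.smul_mem _ _ (hSsp ξ hξ))
      (Submodule.smul_mem _ _ (hSsp θ hθ)), fun z hz => ?_⟩
    have hz1 : z = 1 := by simpa using hz
    subst hz1
    rw [Pi.sub_apply, Pi.smul_apply, Pi.smul_apply, hd ξ (Finset.mem_insert_of_mem hξ), hθ1,
      zsmul_eq_mul, zsmul_eq_mul]
    push_cast
    ring
  have hτ₁γ : ∀ ξ ∈ T, τ ((d θ : ℤ) • ξ - (d ξ : ℤ) • θ)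
      = (d θ : ℤ) • τ₁ ξ - (d ξ : ℤ) • τ₁ θ := by
    intro ξ hξ
    rw [← hτ₁τ _ (hγ ξ hξ), Cfsg.Agent.Helper14.ZS.iso_sub hτ₁
      (Submodule.smul_mem _ _ (hSsp ξ hξ)) (Submodule.smul_mem _ _ (hSsp θ hθ)),
      hτ₁.2.1 ξ (hSsp ξ hξ), hτ₁.2.1 θ (hSsp θ hθ)]
  have hon : ∀ ξ ∈ T, ∀ ξ' ∈ T, classInner (τ₁ ξ) (τ₁ ξ') = if ξ = ξ' then 1 else 0 := by
    intro ξ hξ ξ' hξ'
    rw [hτ₁.2.2.1 ξ (hSsp ξ hξ) ξ' (hSsp ξ' hξ')]
    by_cases h : ξ = ξ'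
    · subst h
      rw [if_pos rfl]
      exact Cfsg.Agent.Helper15.irr_inner_self (hirrT ξ hξ)
    · rw [if_neg h]
      exact Cfsg.Agent.Helper15.irr_inner_ne (hirrT ξ hξ) (hirrT ξ' hξ') h
  have hgenβ : IsGeneralizedCharacter G (τ β) := hτ.2.2.2 β hβT
  have hgen₁ : ∀ ξ ∈ T, IsGeneralizedCharacter G (τ₁ ξ) := fun ξ h => hτ₁.2.2.2 ξ (hSsp ξ h)
  have hcz : ∀ ξ, ∃ z : ℤ, ξ ∈ T → classInner (τ β) (τ₁ ξ) = z := by
    intro ξ
    by_cases h : ξ ∈ T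
    · obtain ⟨z, hz⟩ := Cfsg.Agent.Helper14.ZS.genChar_inner_genChar_int hgenβ (hgen₁ ξ h)
      exact ⟨z, fun _ => hz⟩
    · exact ⟨0, fun h' => absurd h' h⟩
  choose cz hcz using hcz
  have hχχ := Cfsg.Agent.Helper15.irr_inner_self hχ
  have hθθ := Cfsg.Agent.Helper15.irr_inner_self (hirrT θ hθ)
  have hχθ := Cfsg.Agent.Helper15.irr_inner_ne hχ (hirrT θ hθ) (Ne.symm hθne)
  have hθχ := Cfsg.Agent.Helper15.irr_inner_ne (hirrT θ hθ) hχ hθne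
  have hrel : ∀ ξ ∈ T, ξ ≠ θ → (d θ : ℤ) * cz ξ = (cz θ + m) * d ξ := by
    intro ξ hξ hne
    have h1 := hτ.2.2.1 β hβT _ (Cfsg.Agent.Helper14.ZS.zspanOn_mono hsub (hγ ξ hξ))
    rw [hτ₁γ ξ hξ] at h1
    rw [Cfsg.Agent.Helper75.classInner_sub_right, Cfsg.Agent.Helper14.ZS.classInner_zsmul_right,
      Cfsg.Agent.Helper14.ZS.classInner_zsmul_right, hcz ξ hξ, hcz θ hθ] at h1
    have hχξ := Cfsg.Agent.Helper15.irr_inner_ne hχ (hirrT ξ hξ) (fun h => hχT (h ▸ hξ))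
    have hθξ := Cfsg.Agent.Helper15.irr_inner_ne (hirrT θ hθ) (hirrT ξ hξ) (Ne.symm hne)
    have h2 : classInner β ((d θ : ℤ) • ξ - (d ξ : ℤ) • θ) = (m : ℂ) * (d ξ : ℂ) := by
      rw [hβ]
      simp only [Cfsg.Agent.Helper3.classInner_sub_left, Cfsg.Agent.Helper75.classInner_sub_right,
        Cfsg.Agent.Helper14.Coh.classInner_zsmul_left,
        Cfsg.Agent.Helper14.ZS.classInner_zsmul_right, hχξ, hθξ, hχθ, hθθ]
      push_cast
      ring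
    rw [h2] at h1
    have h3 : (((d θ : ℤ) * cz ξ : ℤ) : ℂ) = (((cz θ + m) * d ξ : ℤ) : ℂ) := by
      push_cast
      push_cast at h1
      linear_combination h1
    exact_mod_cast h3
  obtain ⟨P, hP⟩ : ∃ P : G → ℂ, P = ∑ ξ ∈ T, cz ξ • τ₁ ξ := ⟨_, rfl⟩
  obtain ⟨Δ, hΔ⟩ : ∃ Δ : G → ℂ, Δ = τ β - P := ⟨_, rfl⟩
  have hgenP : IsGeneralizedCharacter G P := by
    rw [hP]
    exact Cfsg.Agent.Helper14.ZS.genChar_sum _ _
      (fun ξ hξ => Cfsg.Agent.Helper14.ZS.genChar_zsmul (hgen₁ ξ hξ) _)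
  have hgenΔ : IsGeneralizedCharacter G Δ := by
    rw [hΔ]
    exact Cfsg.Agent.Helper14.ZS.genChar_sub hgenβ hgenP
  have hPin : ∀ ξ ∈ T, classInner P (τ₁ ξ) = cz ξ := by
    intro ξ hξ
    rw [hP, Cfsg.Agent.Helper15.classInner_sum_left, Finset.sum_eq_single ξ]
    · rw [Cfsg.Agent.Helper14.Coh.classInner_zsmul_left, hon ξ hξ ξ hξ, if_pos rfl, mul_one]
    · intro ξ' hξ' hne
      rw [Cfsg.Agent.Helper14.Coh.classInner_zsmul_left, hon ξ' hξ' ξ hξ, if_neg hne, mul_zero]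
    · intro h
      exact absurd hξ h
  have hΔorth : ∀ ξ ∈ T, classInner Δ (τ₁ ξ) = 0 := by
    intro ξ hξ
    rw [hΔ, Cfsg.Agent.Helper3.classInner_sub_left, hcz ξ hξ, hPin ξ hξ, sub_self]
  have hΔP : classInner Δ P = 0 := by
    rw [hP, Cfsg.Agent.Helper15.classInner_sum_right]
    apply Finset.sum_eq_zero
    intro ξ hξ
    rw [Cfsg.Agent.Helper14.ZS.classInner_zsmul_right, hΔorth ξ hξ, mul_zero]
  have hnormβ : classInner (τ β) (τ β) = (q : ℂ) ^ 2 + (m : ℂ) ^ 2 := by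
    rw [hτ.2.2.1 β hβT β hβT, hβ]
    simp only [Cfsg.Agent.Helper3.classInner_sub_left, Cfsg.Agent.Helper75.classInner_sub_right,
      Cfsg.Agent.Helper14.Coh.classInner_zsmul_left,
      Cfsg.Agent.Helper14.ZS.classInner_zsmul_right, hχχ, hθθ, hχθ, hθχ]
    push_cast
    ring
  have hΔnorm : classInner Δ Δ = (q : ℂ) ^ 2 + (m : ℂ) ^ 2 - ∑ ξ ∈ T, (cz ξ : ℂ) ^ 2 := by
    have h1 : classInner Δ Δ = classInner Δ (τ β) := by
      have h := Cfsg.Agent.Helper75.classInner_sub_right Δ (τ β) P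
      rw [← hΔ, hΔP, sub_zero] at h
      exact h
    have h2 : classInner Δ (τ β) = classInner (τ β) (τ β) - classInner P (τ β) := by
      rw [hΔ]
      exact Cfsg.Agent.Helper3.classInner_sub_left _ _ _
    have h3 : classInner P (τ β) = ∑ ξ ∈ T, (cz ξ : ℂ) ^ 2 := by
      rw [hP, Cfsg.Agent.Helper15.classInner_sum_left]
      apply Finset.sum_congr rfl
      intro ξ hξ
      rw [Cfsg.Agent.Helper14.Coh.classInner_zsmul_left, Cfsg.Agent.Helper15.classInner_conj_symm,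
        hcz ξ hξ]
      simp [sq]
    rw [h1, h2, hnormβ, h3]
  obtain ⟨zΔ, hzΔ⟩ := Cfsg.Agent.Helper14.ZS.genChar_inner_genChar_int hgenΔ hgenΔ
  have hnormZ : zΔ = (q : ℤ) ^ 2 + (m : ℤ) ^ 2 - ∑ ξ ∈ T, (cz ξ) ^ 2 := by
    have h1 : ((zΔ : ℤ) : ℂ) = (((q : ℤ) ^ 2 + (m : ℤ) ^ 2 - ∑ ξ ∈ T, (cz ξ) ^ 2 : ℤ) : ℂ) := by
      rw [← hzΔ, hΔnorm]
      push_cast
      rfl
    exact_mod_cast h1
  obtain ⟨y, hy⟩ : ∃ y : ℤ, y = cz θ + m := ⟨_, rfl⟩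
  have hczθ : (d θ : ℤ) * cz θ = y * d θ - m * d θ := by
    rw [hy]
    ring
  have hsumd : ∑ ξ ∈ T, (d ξ : ℤ) ^ 2
      = (d θ : ℤ) ^ 2 + ∑ ξ ∈ T.erase θ, (d ξ : ℤ) ^ 2 :=
    (Finset.add_sum_erase T _ hθ).symm
  have hsumc : ∑ ξ ∈ T, ((d θ : ℤ) * cz ξ) ^ 2
      = ((d θ : ℤ) * cz θ) ^ 2 + y ^ 2 * ∑ ξ ∈ T.erase θ, (d ξ : ℤ) ^ 2 := by
    rw [← Finset.add_sum_erase T _ hθ, Finset.mul_sum]
    congr 1
    apply Finset.sum_congr rfl
    intro ξ hξ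
    rw [hrel ξ (Finset.mem_of_mem_erase hξ) (Finset.ne_of_mem_erase hξ), ← hy]
    ring
  have hkey : (d θ : ℤ) ^ 2 * ((q : ℤ) ^ 2 - zΔ)
      = y * (y * ∑ ξ ∈ T, (d ξ : ℤ) ^ 2 - 2 * m * (d θ : ℤ) ^ 2) := by
    have h1 : (d θ : ℤ) ^ 2 * ∑ ξ ∈ T, (cz ξ) ^ 2 = ∑ ξ ∈ T, ((d θ : ℤ) * cz ξ) ^ 2 := by
      rw [Finset.mul_sum]
      apply Finset.sum_congr rfl
      intro ξ _
      ring
    have h4 : (d θ : ℤ) ^ 2 * zΔ
        = (d θ : ℤ) ^ 2 * ((q : ℤ) ^ 2 + (m : ℤ) ^ 2) - ∑ ξ ∈ T, ((d θ : ℤ) * cz ξ) ^ 2 := by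
      rw [← h1, hnormZ]
      ring
    rw [hsumc, hczθ] at h4
    rw [hsumd]
    linear_combination (-1 : ℤ) * h4
  -- (1) divisibility of the multiplicities of `Δ`
  letI : Fintype (IrrCharacter G) := Fintype.ofFinite _
  have hqC : (q : ℂ) ≠ 0 := by exact_mod_cast hq.ne'
  have hΔdiv : ∀ ψ : IrrCharacter G, ∃ k : ℤ, classInner Δ (ψ : G → ℂ) = (q : ℂ) * k := by
    intro ψ
    by_cases hcase : ∀ ξ ∈ T, classInner (τ₁ ξ) (ψ : G → ℂ) = 0
    · have h1 : ∀ z ∈ zspan (↑T : Set (L → ℂ)), classInner (τ₁ z) (ψ : G → ℂ) = 0 := by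
        intro z hz
        rw [Cfsg.Agent.Helper15.classInner_conj_symm,
          Cfsg.Agent.Helper14.ZS.iso_orth_left hτ₁ (ψ : G → ℂ) (fun x hx => by
            rw [Cfsg.Agent.Helper15.classInner_conj_symm, hcase x (Finset.mem_coe.mp hx),
              map_zero]) z hz, map_zero]
      obtain ⟨k, hk⟩ := hdiv (ψ : G → ℂ) ψ.2
        (fun γ hγ' => by rw [← hτ₁τ γ hγ']; exact h1 γ hγ'.1)
      rw [← hβ] at hk
      refine ⟨k, ?_⟩
      have hPψ : classInner P (ψ : G → ℂ) = 0 := by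
        rw [hP, Cfsg.Agent.Helper15.classInner_sum_left]
        apply Finset.sum_eq_zero
        intro ξ hξ
        rw [Cfsg.Agent.Helper14.Coh.classInner_zsmul_left, hcase ξ hξ, mul_zero]
      rw [hΔ, Cfsg.Agent.Helper3.classInner_sub_left, hk, hPψ, sub_zero]
    · push Not at hcase
      obtain ⟨ξ₀, hξ₀, hne⟩ := hcase
      have hn1 : classInner (τ₁ ξ₀) (τ₁ ξ₀) = 1 := by
        rw [hon ξ₀ hξ₀ ξ₀ hξ₀, if_pos rfl]
      obtain ⟨ψ', hψ'⟩ := Cfsg.Agent.Helper4.genChar_norm_one (hgen₁ ξ₀ hξ₀) hn1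
      have hψψ' : ψ' = ψ := by
        by_contra hcon
        apply hne
        rcases hψ' with h | h
        · rw [h, Cfsg.Agent.Helper15.irr_inner, if_neg hcon]
        · rw [h, Cfsg.Agent.Helper75.classInner_neg_left, Cfsg.Agent.Helper15.irr_inner,
            if_neg hcon, neg_zero]
      subst hψψ'
      refine ⟨0, ?_⟩
      have h0 := hΔorth ξ₀ hξ₀
      rcases hψ' with h | h
      · rw [h] at h0
        rw [h0]
        simp
      · rw [h, Cfsg.Agent.Helper75.classInner_neg_right, neg_eq_zero] at h0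
        rw [h0]
        simp
  -- (2) `Δ = q • Δ'`
  obtain ⟨a, ha⟩ := Cfsg.Agent.Helper4.genChar_eq_sum hgenΔ
  have haψ : ∀ ψ : IrrCharacter G, classInner Δ (ψ : G → ℂ) = (a ψ : ℂ) := by
    intro ψ
    have h1 : classInner (∑ ψ' : IrrCharacter G, (a ψ' : ℂ) • (ψ' : G → ℂ)) (ψ : G → ℂ)
        = (a ψ : ℂ) := by
      rw [Cfsg.Agent.Helper15.classInner_sum_left, Finset.sum_eq_single ψ]
      · rw [Cfsg.Agent.Helper15.classInner_smul_left, Cfsg.Agent.Helper15.irr_inner, if_pos rfl,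
          mul_one]
      · intro ψ' _ hne
        rw [Cfsg.Agent.Helper15.classInner_smul_left, Cfsg.Agent.Helper15.irr_inner, if_neg hne,
          mul_zero]
      · intro h
        exact absurd (Finset.mem_univ _) h
    rw [← ha] at h1
    exact h1
  have hak : ∀ ψ : IrrCharacter G, ∃ k : ℤ, a ψ = (q : ℤ) * k := by
    intro ψ
    obtain ⟨k, hk⟩ := hΔdiv ψ
    rw [haψ] at hk
    exact ⟨k, by exact_mod_cast hk⟩
  choose b hb using hak
  obtain ⟨Δ', hΔ'⟩ : ∃ Δ' : G → ℂ, Δ' = ∑ ψ : IrrCharacter G, (b ψ : ℂ) • (ψ : G → ℂ) :=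
    ⟨_, rfl⟩
  have hgenΔ' : IsGeneralizedCharacter G Δ' := by
    rw [hΔ']
    exact isGeneralizedCharacter_sum_int _ _ _ (fun i _ => ⟨b i, rfl⟩)
      (fun i _ => ⟨(i : G → ℂ), 0, Cfsg.Agent.Helper80.isCharacter_of_irr i.2,
        Cfsg.Agent.Helper79.isCharacter_zero, by simp⟩)
  have hΔΔ' : Δ = (q : ℤ) • Δ' := by
    rw [ha, hΔ', Finset.smul_sum]
    apply Finset.sum_congr rfl
    intro ψ _
    rw [hb ψ]
    ext g
    simp only [Pi.smul_apply, smul_eq_mul, zsmul_eq_mul]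
    push_cast
    ring
  obtain ⟨z', hz'⟩ := Cfsg.Agent.Helper14.ZS.genChar_inner_genChar_int hgenΔ' hgenΔ'
  have hz'0 : 0 ≤ z' := int_nonneg_of_classInner_self Δ' z' hz'
  have hzΔz' : zΔ = (q : ℤ) ^ 2 * z' := by
    have h1 : ((zΔ : ℤ) : ℂ) = (((q : ℤ) ^ 2 * z' : ℤ) : ℂ) := by
      rw [← hzΔ, hΔΔ', Cfsg.Agent.Helper14.Coh.classInner_zsmul_left,
        Cfsg.Agent.Helper14.ZS.classInner_zsmul_right, hz']
      push_cast
      ring
    exact_mod_cast h1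
  have hkey' : (d θ : ℤ) ^ 2 * (q : ℤ) ^ 2 * (1 - z')
      = y * (y * ∑ ξ ∈ T, (d ξ : ℤ) ^ 2 - 2 * m * (d θ : ℤ) ^ 2) := by
    rw [← hkey, hzΔz']
    ring
  have hΔ'orth : ∀ ξ ∈ T, classInner Δ' (τ₁ ξ) = 0 := by
    intro ξ hξ
    have h1 := hΔorth ξ hξ
    rw [hΔΔ', Cfsg.Agent.Helper14.Coh.classInner_zsmul_left] at h1
    rcases mul_eq_zero.mp h1 with h | h
    · exact absurd (by exact_mod_cast h) hqC
    · exact h
  -- (3) values at one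
  have hdθpos : 0 < d θ := hdpos θ hθI
  have hτ₁one : ∀ ξ ∈ T, (d θ : ℂ) * τ₁ ξ 1 = (d ξ : ℂ) * τ₁ θ 1 := by
    intro ξ hξ
    have h1 := hτ1 _ (Cfsg.Agent.Helper14.ZS.zspanOn_mono hsub (hγ ξ hξ))
    rw [hτ₁γ ξ hξ, Pi.sub_apply, Pi.smul_apply, Pi.smul_apply, zsmul_eq_mul, zsmul_eq_mul] at h1
    push_cast at h1
    linear_combination h1
  have hτ₁θ1 : τ₁ θ 1 ≠ 0 :=
    Cfsg.Agent.Helper14.ZS.genChar_norm_one_apply_one_ne_zero (hgen₁ θ hθ)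
      (by rw [hon θ hθ θ hθ, if_pos rfl])
  have hSpos : (0 : ℤ) < ∑ ξ ∈ T, (d ξ : ℤ) ^ 2 := by
    have h1 : (d θ : ℤ) ^ 2 ≤ ∑ ξ ∈ T, (d ξ : ℤ) ^ 2 :=
      Finset.single_le_sum (f := fun ξ => (d ξ : ℤ) ^ 2) (fun ξ _ => sq_nonneg _) hθ
    have h2 : (0 : ℤ) < (d θ : ℤ) ^ 2 := by positivity
    omega
  -- (4) `Δ' ≠ 0`
  have hdθ2 : (0 : ℤ) < (d θ : ℤ) ^ 2 := by positivity
  have hq2 : (0 : ℤ) < (q : ℤ) ^ 2 := by positivity
  have hmZ : (0 : ℤ) < (m : ℤ) := by exact_mod_cast hm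
  have hz'ne : z' ≠ 0 := by
    intro hz0
    rw [hz0] at hz'
    have hΔ'0 : Δ' = 0 := Cfsg.Agent.Helper14.ZS.classInner_self_eq_zero (by simpa using hz')
    have hτβP : τ β = P := by
      have h1 : Δ = 0 := by rw [hΔΔ', hΔ'0, smul_zero]
      rw [hΔ] at h1
      exact sub_eq_zero.mp h1
    have hP1 : P 1 = 0 := by
      rw [← hτβP]
      exact hτ1 β hβT
    have hsumint : (∑ ξ ∈ T, ((d θ : ℤ) * cz ξ) * (d ξ : ℤ))
        = y * ∑ ξ ∈ T, (d ξ : ℤ) ^ 2 - m * (d θ : ℤ) ^ 2 := by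
      rw [← Finset.add_sum_erase T _ hθ, hsumd, hczθ]
      have h2 : ∑ ξ ∈ T.erase θ, (d θ : ℤ) * cz ξ * (d ξ : ℤ)
          = y * ∑ ξ ∈ T.erase θ, (d ξ : ℤ) ^ 2 := by
        rw [Finset.mul_sum]
        apply Finset.sum_congr rfl
        intro ξ hξ
        rw [hrel ξ (Finset.mem_of_mem_erase hξ) (Finset.ne_of_mem_erase hξ), ← hy]
        ring
      rw [h2]
      ring
    have h3 : ((y * ∑ ξ ∈ T, (d ξ : ℤ) ^ 2 - m * (d θ : ℤ) ^ 2 : ℤ) : ℂ) * τ₁ θ 1 = 0 := by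
      rw [← hsumint]
      push_cast
      rw [Finset.sum_mul]
      have h4 : (d θ : ℂ) ^ 2 * P 1
          = ∑ ξ ∈ T, (d θ : ℂ) * (cz ξ : ℂ) * (d ξ : ℂ) * τ₁ θ 1 := by
        rw [hP, Finset.sum_apply, Finset.mul_sum]
        apply Finset.sum_congr rfl
        intro ξ hξ
        rw [Pi.smul_apply, zsmul_eq_mul]
        linear_combination (d θ : ℂ) * (cz ξ : ℂ) * hτ₁one ξ hξ
      rw [← h4, hP1, mul_zero]
    have h5 : y * ∑ ξ ∈ T, (d ξ : ℤ) ^ 2 - m * (d θ : ℤ) ^ 2 = 0 := by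
      rcases mul_eq_zero.mp h3 with h | h
      · exact_mod_cast h
      · exact absurd h hτ₁θ1
    have hypos : 0 < y := by
      by_contra hcon
      push Not at hcon
      have h7 : y * ∑ ξ ∈ T, (d ξ : ℤ) ^ 2 ≤ 0 := mul_nonpos_of_nonpos_of_nonneg hcon hSpos.le
      nlinarith [mul_pos hmZ hdθ2]
    rw [hz0] at hkey'
    have h6 : y * ∑ ξ ∈ T, (d ξ : ℤ) ^ 2 - 2 * m * (d θ : ℤ) ^ 2 = -(m * (d θ : ℤ) ^ 2) := by
      linarith
    rw [h6] at hkey'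
    nlinarith [mul_pos hdθ2 hq2, mul_pos hypos (mul_pos hmZ hdθ2)]
  -- (5) the cases
  have hz'1 : 1 ≤ z' := by omega
  have hnotpos : y * (y * ∑ ξ ∈ T, (d ξ : ℤ) ^ 2 - 2 * m * (d θ : ℤ) ^ 2) ≤ 0 := by
    rw [← hkey']
    exact mul_nonpos_of_nonneg_of_nonpos (mul_pos hdθ2 hq2).le (by omega)
  have hz'one_of : y * (y * ∑ ξ ∈ T, (d ξ : ℤ) ^ 2 - 2 * m * (d θ : ℤ) ^ 2) = 0 →
      classInner Δ' Δ' = 1 := by
    intro h0
    rw [h0] at hkey'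
    have h1 : (1 - z') = 0 := by
      rcases mul_eq_zero.mp hkey' with h | h
      · exact absurd h (mul_pos hdθ2 hq2).ne'
      · exact h
    have h2 : z' = 1 := by omega
    rw [hz', h2]
    simp
  have hτβ : τ β = (q : ℤ) • Δ' + P := by
    rw [← hΔΔ', hΔ]
    abel
  by_cases hy0 : y = 0
  · have hn1 := hz'one_of (by rw [hy0]; ring)
    have hczθ' : cz θ = -m := by omega
    have hczξ : ∀ ξ ∈ T, ξ ≠ θ → cz ξ = 0 := by
      intro ξ hξ hne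
      have h1 := hrel ξ hξ hne
      rw [← hy, hy0, zero_mul] at h1
      rcases mul_eq_zero.mp h1 with h | h
      · have h2 : (d θ : ℤ) ≠ 0 := by exact_mod_cast hdθpos.ne'
        exact absurd h h2
      · exact h
    have hPval : P = -((m : ℤ) • τ₁ θ) := by
      rw [hP, Finset.sum_eq_single θ]
      · rw [hczθ', neg_smul]
      · intro ξ hξ hne
        rw [hczξ ξ hξ hne, zero_smul]
      · intro h
        exact absurd hθ h
    obtain ⟨τ₂, h1, h2, _, _⟩ := coh_extend T χ hirr hχT d hd τ hτ τ₁ hτ₁ hτ₁τ θ hθ q m hq hqm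
      Δ' hgenΔ' hn1 hΔ'orth (by rw [← hβ, hτβ, hPval]; abel)
    exact ⟨τ₂, h1, h2⟩
  · have hypos : 0 < y := by
      by_contra hcon
      have hyneg : y < 0 := by omega
      have h1 : y * ∑ ξ ∈ T, (d ξ : ℤ) ^ 2 - 2 * m * (d θ : ℤ) ^ 2 < 0 := by
        have h2 : y * ∑ ξ ∈ T, (d ξ : ℤ) ^ 2 < 0 := mul_neg_of_neg_of_pos hyneg hSpos
        nlinarith [mul_pos hmZ hdθ2]
      have h3 := mul_pos_of_neg_of_neg hyneg h1
      omega
    have hle : y * ∑ ξ ∈ T, (d ξ : ℤ) ^ 2 - 2 * m * (d θ : ℤ) ^ 2 ≤ 0 := by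
      by_contra hcon
      push Not at hcon
      have h3 := mul_pos hypos hcon
      omega
    rcases hmass with hmass | ⟨hm1, θ', hθ', hθ'ne, hTeq, hdθ'⟩
    · exfalso
      have h1 : (2 * m * (d θ : ℤ) ^ 2 : ℤ) < ∑ ξ ∈ T, (d ξ : ℤ) ^ 2 := by exact_mod_cast hmass
      nlinarith
    · have hSval : ∑ ξ ∈ T, (d ξ : ℤ) ^ 2 = 2 * (d θ : ℤ) ^ 2 := by
        rw [hTeq, Finset.sum_pair (Ne.symm hθ'ne), hdθ']
        ring
      rw [hSval, hm1] at hle hz'one_of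
      have hy1 : y = 1 := by
        push_cast at hle
        nlinarith
      have hn1 := hz'one_of (by rw [hy1]; push_cast; ring)
      have hczθ' : cz θ = 0 := by
        rw [hm1] at hy
        push_cast at hy
        omega
      have hczθ'' : cz θ' = 1 := by
        have h1 := hrel θ' hθ' hθ'ne
        rw [← hy, hy1, hdθ', one_mul] at h1
        have h2 : (d θ : ℤ) ≠ 0 := by exact_mod_cast hdθpos.ne'
        have h3 : (d θ : ℤ) * (cz θ' - 1) = 0 := by linarith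
        rcases mul_eq_zero.mp h3 with h | h
        · exact absurd h h2
        · omega
      have hPval : P = τ₁ θ' := by
        rw [hP, hTeq, Finset.sum_pair (Ne.symm hθ'ne), hczθ', hczθ'', zero_smul, one_smul,
          zero_add]
      subst hTeq
      have hdeg : θ' 1 = θ 1 := by
        rw [hd θ' (Finset.mem_insert_of_mem hθ'), hθ1, hdθ']
      obtain ⟨τ₁', hτ₁'iso, hτ₁'τ, hτ₁'θ, hτ₁'θ'⟩ := coh_reflect θ θ' (hirrT θ hθ)
        (hirrT θ' hθ') hθ'ne hdeg τ τ₁ hτ₁ hτ₁τ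
      obtain ⟨τ₂, h1, h2, _, _⟩ := coh_extend {θ, θ'} χ hirr hχT d hd τ hτ τ₁' hτ₁'iso hτ₁'τ
        θ hθ q m hq hqm Δ' hgenΔ' hn1 (by
          intro ξ hξ
          rcases Finset.mem_insert.mp hξ with rfl | hξ'
          · rw [hτ₁'θ, Cfsg.Agent.Helper75.classInner_neg_right, hΔ'orth θ' hθ', neg_zero]
          · rw [Finset.mem_singleton] at hξ'
            subst hξ'
            rw [hτ₁'θ', Cfsg.Agent.Helper75.classInner_neg_right, hΔ'orth θ hθ, neg_zero])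
        (by
          rw [← hβ, hτβ, hPval, hτ₁'θ, hm1]
          simp)
      exact ⟨τ₂, h1, h2⟩

end Sib2

end Cfsg.Agent.Helper25
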