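import Mathlib
import Cfsg.Agent.Helper25.Sib2
import Cfsg.Agent.Helper4.GenChar

/-!
# Coherence by successive insertion (helper25)

* `isLinearIsometryOn_subset`: restriction of a linear isometry to a smaller set.
* `coh_chain`: starting from a coherent subset `S₀` containing two characters `θ ≠ θ'` of equal
  degree, every further character `χ` may be inserted provided either `d χ ∣ d θ` with a
  divisibility property of the multiplicities, or `d θ ∣ d χ` with enough mass in `S₀`.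
* `coh_equal_degree`: a set of at least two irreducible characters of equal degree is coherent.
-/

set_option autoImplicit false
set_option linter.style.haveILetI false
set_option linter.unusedVariables false
set_option linter.unusedSectionVars false
set_option maxHeartbeats 1000000

namespace Cfsg.Agent.Helper25

open Cfsg

section Sib3

variable {L : Type*} [Group L] [Fintype L] {G : Type*} [Group G] [Fintype G]

theorem isLinearIsometryOn_subset {E E' : Set (L → ℂ)} {τ : (L → ℂ) → (G → ℂ)}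
    (h : E' ⊆ E) (hτ : IsLinearIsometryOn E τ) : IsLinearIsometryOn E' τ :=
  ⟨fun α hα β hβ => hτ.1 α (h hα) β (h hβ), fun α hα n => hτ.2.1 α (h hα) n,
    fun α hα β hβ => hτ.2.2.1 α (h hα) β (h hβ), fun α hα => hτ.2.2.2 α (h hα)⟩

theorem isGeneralizedCharacter_of_irr {ψ : G → ℂ} (hψ : IsIrrCharacter G ψ) :
    IsGeneralizedCharacter G ψ :=
  ⟨ψ, 0, Cfsg.Agent.Helper80.isCharacter_of_irr hψ, Cfsg.Agent.Helper79.isCharacter_zero, by simp⟩

/-- Coherence by successive insertion. -/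
theorem coh_chain (S₀ S : Finset (L → ℂ)) (hS₀S : S₀ ⊆ S)
    (hirr : ∀ ξ ∈ S, IsIrrCharacter L ξ)
    (d : (L → ℂ) → ℕ) (hd : ∀ ξ ∈ S, ξ 1 = (d ξ : ℂ))
    (τ : (L → ℂ) → (G → ℂ))
    (hτ : IsLinearIsometryOn (zspanOn (↑S : Set (L → ℂ)) ({1}ᶜ : Set L)) τ)
    (hτ1 : ∀ α ∈ zspanOn (↑S : Set (L → ℂ)) ({1}ᶜ : Set L), τ α 1 = 0)
    (τ₀ : (L → ℂ) → (G → ℂ)) (hτ₀ : IsLinearIsometryOn (zspan (↑S₀ : Set (L → ℂ))) τ₀)
    (hτ₀τ : ∀ α ∈ zspanOn (↑S₀ : Set (L → ℂ)) ({1}ᶜ : Set L), τ₀ α = τ α)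
    (θ θ' : L → ℂ) (hθ : θ ∈ S₀) (hθ' : θ' ∈ S₀) (hne : θ' ≠ θ) (hdeg : d θ' = d θ)
    (hstep : ∀ χ ∈ S, χ ∉ S₀ →
      (∃ q : ℕ, 0 < q ∧ q * d χ = d θ ∧ ∀ ψ : G → ℂ, IsIrrCharacter G ψ →
        (∀ γ ∈ zspanOn (↑S₀ : Set (L → ℂ)) ({1}ᶜ : Set L), classInner (τ γ) ψ = 0) →
        ∃ k : ℤ, classInner (τ ((q : ℤ) • χ - θ)) ψ = (q : ℂ) * k) ∨
      (∃ m : ℕ, 0 < m ∧ d χ = m * d θ ∧ 2 * m * d θ ^ 2 < ∑ ξ ∈ S₀, d ξ ^ 2)) :
    ∃ τ₁ : (L → ℂ) → (G → ℂ), IsLinearIsometryOn (zspan (↑S : Set (L → ℂ))) τ₁ ∧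
      ∀ α ∈ zspanOn (↑S : Set (L → ℂ)) ({1}ᶜ : Set L), τ₁ α = τ α := by
  classical
  have hdpos : ∀ ξ ∈ S, 0 < d ξ := by
    intro ξ hξ
    have h1 := hd ξ hξ
    have h2 := Cfsg.Agent.Helper3.irr_apply_one_ne_zero (hirr ξ hξ)
    rw [h1] at h2
    have h3 : d ξ ≠ 0 := by
      intro h
      apply h2
      rw [h]
      simp
    omega
  have key : ∀ U : Finset (L → ℂ), U ⊆ S \ S₀ → ∃ τ₁ : (L → ℂ) → (G → ℂ),
      IsLinearIsometryOn (zspan (↑(S₀ ∪ U) : Set (L → ℂ))) τ₁ ∧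
      ∀ α ∈ zspanOn (↑(S₀ ∪ U) : Set (L → ℂ)) ({1}ᶜ : Set L), τ₁ α = τ α := by
    intro U
    induction U using Finset.induction_on with
    | empty =>
      intro _
      rw [Finset.union_empty]
      exact ⟨τ₀, hτ₀, hτ₀τ⟩
    | insert χ U hχU ih =>
      intro hsub
      obtain ⟨τ₁, hτ₁, hτ₁τ⟩ := ih (fun x hx => hsub (Finset.mem_insert_of_mem hx))
      have hχS := hsub (Finset.mem_insert_self χ U)
      rw [Finset.mem_sdiff] at hχS
      have hUS : U ⊆ S := fun x hx =>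
        (Finset.mem_sdiff.mp (hsub (Finset.mem_insert_of_mem hx))).1
      have hχT : χ ∉ S₀ ∪ U := by
        rw [Finset.mem_union]
        rintro (h | h)
        · exact hχS.2 h
        · exact hχU h
      rw [Finset.union_insert]
      have hTS : insert χ (S₀ ∪ U) ⊆ S := by
        intro x hx
        rcases Finset.mem_insert.mp hx with rfl | hx
        · exact hχS.1
        · rcases Finset.mem_union.mp hx with h | h
          · exact hS₀S h
          · exact hUS h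
      have hTS' : (↑(insert χ (S₀ ∪ U)) : Set (L → ℂ)) ⊆ (↑S : Set (L → ℂ)) :=
        Finset.coe_subset.mpr hTS
      have hτT : IsLinearIsometryOn
          (zspanOn (↑(insert χ (S₀ ∪ U)) : Set (L → ℂ)) ({1}ᶜ : Set L)) τ :=
        isLinearIsometryOn_subset (fun a ha => Cfsg.Agent.Helper14.ZS.zspanOn_mono hTS' ha) hτ
      have hτ1T : ∀ α ∈ zspanOn (↑(insert χ (S₀ ∪ U)) : Set (L → ℂ)) ({1}ᶜ : Set L),
          τ α 1 = 0 := fun α hα => hτ1 α (Cfsg.Agent.Helper14.ZS.zspanOn_mono hTS' hα)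
      have hirrT : ∀ ξ ∈ insert χ (S₀ ∪ U), IsIrrCharacter L ξ := fun ξ hξ => hirr ξ (hTS hξ)
      have hdT : ∀ ξ ∈ insert χ (S₀ ∪ U), ξ 1 = (d ξ : ℂ) := fun ξ hξ => hd ξ (hTS hξ)
      have hθT : θ ∈ S₀ ∪ U := Finset.mem_union_left _ hθ
      have hθ'T : θ' ∈ S₀ ∪ U := Finset.mem_union_left _ hθ'
      have hS₀T : (↑S₀ : Set (L → ℂ)) ⊆ (↑(S₀ ∪ U) : Set (L → ℂ)) :=
        Finset.coe_subset.mpr Finset.subset_union_left
      rcases hstep χ hχS.1 hχS.2 with ⟨q, hq, hqd, hdivq⟩ | ⟨m, hm, hdm, hmass⟩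
      · refine coh_insert (S₀ ∪ U) χ hirrT hχT d hdT τ hτT hτ1T τ₁ hτ₁ hτ₁τ θ hθT q 1 hq
          one_pos (by rw [one_mul]; exact hqd) ?_ ?_
        · intro ψ hψ horth
          obtain ⟨k, hk⟩ := hdivq ψ hψ
            (fun γ hγ => horth γ (Cfsg.Agent.Helper14.ZS.zspanOn_mono hS₀T hγ))
          exact ⟨k, by rw [Nat.cast_one, one_smul]; exact hk⟩
        · by_cases hT2 : S₀ ∪ U = {θ, θ'}
          · right
            exact ⟨rfl, θ', hθ'T, hne, hT2, hdeg⟩
          · left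
            obtain ⟨ξ₃, hξ₃, h3θ, h3θ'⟩ : ∃ ξ₃ ∈ S₀ ∪ U, ξ₃ ≠ θ ∧ ξ₃ ≠ θ' := by
              by_contra hcon
              push Not at hcon
              apply hT2
              ext x
              constructor
              · intro hx
                by_cases h : x = θ
                · simp [h]
                · simp [hcon x hx h]
              · intro hx
                rw [Finset.mem_insert, Finset.mem_singleton] at hx
                rcases hx with rfl | rfl
                · exact hθT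
                · exact hθ'T
            have hsub3 : ({ξ₃, θ, θ'} : Finset (L → ℂ)) ⊆ S₀ ∪ U := by
              intro x hx
              rw [Finset.mem_insert, Finset.mem_insert, Finset.mem_singleton] at hx
              rcases hx with rfl | rfl | rfl
              · exact hξ₃
              · exact hθT
              · exact hθ'T
            have h3pos : 0 < d ξ₃ := hdpos ξ₃ (hTS (Finset.mem_insert_of_mem hξ₃))
            have hsum3 : ∑ ξ ∈ ({ξ₃, θ, θ'} : Finset (L → ℂ)), d ξ ^ 2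
                = d ξ₃ ^ 2 + (d θ ^ 2 + d θ' ^ 2) := by
              rw [Finset.sum_insert (by
                rw [Finset.mem_insert, Finset.mem_singleton]
                rintro (h | h)
                · exact h3θ h
                · exact h3θ' h), Finset.sum_pair (Ne.symm hne)]
            have hle3 := Finset.sum_le_sum_of_subset (f := fun ξ => d ξ ^ 2) hsub3
            rw [hsum3, hdeg] at hle3
            have h3sq : 0 < d ξ₃ ^ 2 := by positivity
            omega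
      · have hβT : (1 : ℤ) • χ - (m : ℤ) • θ
            ∈ zspanOn (↑(insert χ (S₀ ∪ U)) : Set (L → ℂ)) ({1}ᶜ : Set L) := by
          refine ⟨Submodule.sub_mem _ (Submodule.smul_mem _ _
            (Submodule.subset_span (Finset.mem_coe.mpr (Finset.mem_insert_self _ _))))
            (Submodule.smul_mem _ _ (Submodule.subset_span
              (Finset.mem_coe.mpr (Finset.mem_insert_of_mem hθT)))), fun w hw => ?_⟩
          have hw1 : w = 1 := by simpa using hw
          subst hw1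
          rw [Pi.sub_apply, Pi.smul_apply, Pi.smul_apply, zsmul_eq_mul, zsmul_eq_mul,
            hd χ hχS.1, hd θ (hS₀S hθ), hdm]
          push_cast
          ring
        refine coh_insert (S₀ ∪ U) χ hirrT hχT d hdT τ hτT hτ1T τ₁ hτ₁ hτ₁τ θ hθT 1 m one_pos
          hm (by rw [one_mul]; exact hdm) ?_ ?_
        · intro ψ hψ _
          rw [Nat.cast_one]
          obtain ⟨k, hk⟩ := Cfsg.Agent.Helper14.ZS.genChar_inner_genChar_int (hτT.2.2.2 _ hβT)
            (isGeneralizedCharacter_of_irr hψ)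
          exact ⟨k, by rw [hk]; simp⟩
        · left
          exact lt_of_lt_of_le hmass
            (Finset.sum_le_sum_of_subset (f := fun ξ => d ξ ^ 2) Finset.subset_union_left)
  have h := key (S \ S₀) (subset_refl _)
  rw [Finset.union_sdiff_of_subset hS₀S] at h
  exact h

/-- A set of at least two irreducible characters of the same degree is coherent. -/
theorem coh_equal_degree (S : Finset (L → ℂ)) (hirr : ∀ ξ ∈ S, IsIrrCharacter L ξ)
    (d : ℕ) (hd : ∀ ξ ∈ S, ξ 1 = (d : ℂ))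
    (τ : (L → ℂ) → (G → ℂ))
    (hτ : IsLinearIsometryOn (zspanOn (↑S : Set (L → ℂ)) ({1}ᶜ : Set L)) τ)
    (hτ1 : ∀ α ∈ zspanOn (↑S : Set (L → ℂ)) ({1}ᶜ : Set L), τ α 1 = 0)
    (χ₁ χ₂ : L → ℂ) (h1 : χ₁ ∈ S) (h2 : χ₂ ∈ S) (hne : χ₁ ≠ χ₂) :
    ∃ τ₁ : (L → ℂ) → (G → ℂ), IsLinearIsometryOn (zspan (↑S : Set (L → ℂ))) τ₁ ∧
      ∀ α ∈ zspanOn (↑S : Set (L → ℂ)) ({1}ᶜ : Set L), τ₁ α = τ α := by
  classical
  have hχ₁ := hirr χ₁ h1
  have hχ₂ := hirr χ₂ h2
  have hd0 : (d : ℂ) ≠ 0 := by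
    rw [← hd χ₁ h1]
    exact Cfsg.Agent.Helper3.irr_apply_one_ne_zero hχ₁
  have h11 := Cfsg.Agent.Helper15.irr_inner_self hχ₁
  have h22 := Cfsg.Agent.Helper15.irr_inner_self hχ₂
  have h12 := Cfsg.Agent.Helper15.irr_inner_ne hχ₁ hχ₂ hne
  have h21 := Cfsg.Agent.Helper15.irr_inner_ne hχ₂ hχ₁ (Ne.symm hne)
  have hsp : ∀ ξ ∈ S, ξ ∈ zspan (↑S : Set (L → ℂ)) := fun ξ h =>
    Submodule.subset_span (Finset.mem_coe.mpr h)
  have hdiff : ∀ ξ ∈ S, ∀ ξ' ∈ S, ξ - ξ' ∈ zspanOn (↑S : Set (L → ℂ)) ({1}ᶜ : Set L) := by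
    intro ξ hξ ξ' hξ'
    refine ⟨Submodule.sub_mem _ (hsp ξ hξ) (hsp ξ' hξ'), fun w hw => ?_⟩
    have hw1 : w = 1 := by simpa using hw
    subst hw1
    rw [Pi.sub_apply, hd ξ hξ, hd ξ' hξ', sub_self]
  have hτ0 : τ 0 = 0 := by
    have h0 : (0 : L → ℂ) ∈ zspanOn (↑S : Set (L → ℂ)) ({1}ᶜ : Set L) :=
      ⟨Submodule.zero_mem _, fun _ _ => rfl⟩
    have h := hτ.1 0 h0 0 h0
    rw [add_zero] at h
    have h' : τ 0 + 0 = τ 0 + τ 0 := by rw [add_zero]; exact h
    exact (add_left_cancel h').symm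
  -- the base pair
  have hb := hdiff χ₁ h1 χ₂ h2
  have hnorm2 : classInner (τ (χ₁ - χ₂)) (τ (χ₁ - χ₂)) = 2 := by
    rw [hτ.2.2.1 _ hb _ hb]
    simp only [Cfsg.Agent.Helper3.classInner_sub_left, Cfsg.Agent.Helper75.classInner_sub_right,
      h11, h22, h12, h21]
    norm_num
  obtain ⟨a, b, hab, habeq⟩ := Cfsg.Agent.Helper4.genChar_norm_two (hτ.2.2.2 _ hb) hnorm2
    (hτ1 _ hb)
  have hbb : classInner (b : G → ℂ) (b : G → ℂ) = 1 := by
    rw [Cfsg.Agent.Helper15.irr_inner, if_pos rfl]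
  have hab0 : classInner (a : G → ℂ) (b : G → ℂ) = 0 := by
    rw [Cfsg.Agent.Helper15.irr_inner, if_neg hab]
  have haa : classInner (a : G → ℂ) (a : G → ℂ) = 1 := by
    rw [Cfsg.Agent.Helper15.irr_inner, if_pos rfl]
  have hmem2 : ∀ z ∈ zspan (↑({χ₂} : Finset (L → ℂ)) : Set (L → ℂ)), ∃ n : ℤ, z = n • χ₂ := by
    intro z hz
    unfold zspan at hz
    rw [Finset.coe_singleton] at hz
    obtain ⟨n, hn⟩ := Submodule.mem_span_singleton.mp hz
    exact ⟨n, hn.symm⟩
  have hsub2 : insert χ₁ ({χ₂} : Finset (L → ℂ)) ⊆ S := by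
    intro x hx
    rw [Finset.mem_insert, Finset.mem_singleton] at hx
    rcases hx with rfl | rfl
    · exact h1
    · exact h2
  have hsub2' : (↑(insert χ₁ ({χ₂} : Finset (L → ℂ))) : Set (L → ℂ)) ⊆ (↑S : Set (L → ℂ)) :=
    Finset.coe_subset.mpr hsub2
  obtain ⟨τ₀, hτ₀, hτ₀τ, -, -⟩ := coh_extend ({χ₂} : Finset (L → ℂ)) χ₁
    (fun ξ hξ => hirr ξ (hsub2 hξ)) (by rw [Finset.mem_singleton]; exact hne)
    (fun _ => d) (fun ξ hξ => hd ξ (hsub2 hξ)) τ
    (isLinearIsometryOn_subset (fun a ha => Cfsg.Agent.Helper14.ZS.zspanOn_mono hsub2' ha) hτ)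
    (fun z => classInner z χ₂ • (b : G → ℂ))
    (by
      refine ⟨?_, ?_, ?_, ?_⟩
      · intro x _ y _
        show classInner (x + y) χ₂ • (b : G → ℂ) = classInner x χ₂ • (b : G → ℂ)
          + classInner y χ₂ • (b : G → ℂ)
        rw [Cfsg.Agent.Helper75.classInner_add_left, add_smul]
      · intro x _ n
        show classInner (n • x) χ₂ • (b : G → ℂ) = n • (classInner x χ₂ • (b : G → ℂ))
        rw [Cfsg.Agent.Helper14.Coh.classInner_zsmul_left, mul_smul, Int.cast_smul_eq_zsmul]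
      · intro x hx y hy
        show classInner (classInner x χ₂ • (b : G → ℂ)) (classInner y χ₂ • (b : G → ℂ))
          = classInner x y
        obtain ⟨n, rfl⟩ := hmem2 x hx
        obtain ⟨n', rfl⟩ := hmem2 y hy
        simp only [Cfsg.Agent.Helper14.Coh.classInner_zsmul_left,
          Cfsg.Agent.Helper14.ZS.classInner_zsmul_right,
          Cfsg.Agent.Helper75.classInner_smul_left, Cfsg.Agent.Helper75.classInner_smul_right,
          h22, hbb]
        simp
      · intro x hx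
        show IsGeneralizedCharacter G (classInner x χ₂ • (b : G → ℂ))
        obtain ⟨n, rfl⟩ := hmem2 x hx
        rw [Cfsg.Agent.Helper14.Coh.classInner_zsmul_left, h22, mul_one, Int.cast_smul_eq_zsmul]
        exact Cfsg.Agent.Helper14.ZS.genChar_zsmul (isGeneralizedCharacter_of_irr b.2) n)
    (by
      intro α hα
      show classInner α χ₂ • (b : G → ℂ) = τ α
      obtain ⟨n, rfl⟩ := hmem2 α hα.1
      have h0 : (n • χ₂) 1 = 0 := hα.2 1 (by simp)
      rw [Pi.smul_apply, hd χ₂ h2, zsmul_eq_mul] at h0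
      have hn : n = 0 := by
        rcases mul_eq_zero.mp h0 with h | h
        · exact_mod_cast h
        · exact absurd h hd0
      rw [hn, zero_smul, hτ0, Cfsg.Agent.Helper75.classInner_zero_left, zero_smul])
    χ₂ (Finset.mem_singleton_self χ₂) 1 1 one_pos rfl (a : G → ℂ)
    (isGeneralizedCharacter_of_irr a.2) haa
    (by
      intro ξ hξ
      rw [Finset.mem_singleton] at hξ
      subst hξ
      show classInner (a : G → ℂ) (classInner ξ ξ • (b : G → ℂ)) = 0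
      rw [Cfsg.Agent.Helper75.classInner_smul_right, hab0, mul_zero])
    (by
      show τ (((1 : ℕ) : ℤ) • χ₁ - ((1 : ℕ) : ℤ) • χ₂)
        = ((1 : ℕ) : ℤ) • (a : G → ℂ) - ((1 : ℕ) : ℤ) • (classInner χ₂ χ₂ • (b : G → ℂ))
      rw [Nat.cast_one, one_smul, one_smul, one_smul, one_smul, h22, one_smul, habeq])
  refine coh_chain (insert χ₁ ({χ₂} : Finset (L → ℂ))) S hsub2 hirr (fun _ => d) hd τ hτ hτ1
    τ₀ hτ₀ hτ₀τ χ₁ χ₂ (Finset.mem_insert_self _ _)
    (Finset.mem_insert_of_mem (Finset.mem_singleton_self χ₂)) (Ne.symm hne) rfl ?_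
  intro χ hχ _
  left
  refine ⟨1, one_pos, by rw [one_mul], ?_⟩
  intro ψ hψ _
  have hmem : ((1 : ℕ) : ℤ) • χ - χ₁ ∈ zspanOn (↑S : Set (L → ℂ)) ({1}ᶜ : Set L) := by
    rw [Nat.cast_one, one_smul]
    exact hdiff χ hχ χ₁ h1
  obtain ⟨k, hk⟩ := Cfsg.Agent.Helper14.ZS.genChar_inner_genChar_int (hτ.2.2.2 _ hmem)
    (isGeneralizedCharacter_of_irr hψ)
  exact ⟨k, by rw [hk]; simp⟩

end Sib3

end Cfsg.Agent.Helper25
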