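import Mathlib
import Cfsg.Agent.Helper25.Sib3
import Cfsg.Agent.Helper25.Coh7
import Cfsg.Agent.Helper25.Coh8
import Cfsg.Agent.Helper80.CharKer
import Cfsg.Agent.Helper80.CharOrtho
import Cfsg.Agent.Helper79.Induced
import Cfsg.Agent.Helper75.Ito

/-!
# Frobenius-type normal subgroups: counting and the abelian case (helper25)

* `exists_irr_finset`: the irreducible characters with a property, as a finset, with the sum
  formula.
* `irr_sum_sq_nontrivial_on`: `∑_{χ : Z ≰ ker χ} χ(1)² + [L : Z] = |L|`.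
* `frob_irr_eq_induced`: the irreducible characters not trivial on a Frobenius-type normal subgroup
  `K` are induced from non-principal irreducible characters of `K`.
* `frob_abelian_exponent`: if `K` is abelian of order `[L : K] + 1` then `K` has exponent `p`.
* `coh_frob_abelian`: if `K` is abelian, the set of irreducible characters of `L` not trivial on
  `K` is a singleton (and `|K| = [L : K] + 1`) or coherent.
-/

set_option autoImplicit false
set_option linter.style.haveILetI false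
set_option linter.unusedVariables false
set_option linter.unusedSectionVars false
set_option maxHeartbeats 1000000

namespace Cfsg.Agent.Helper25

open Cfsg

section Sib5

variable {L : Type*} [Group L] [Fintype L]

theorem exists_irr_finset [Fintype (IrrCharacter L)] (Q : (L → ℂ) → Prop)
    [DecidablePred fun φ : IrrCharacter L => Q (φ : L → ℂ)] :
    ∃ F : Finset (L → ℂ), (↑F : Set (L → ℂ)) = {χ | IsIrrCharacter L χ ∧ Q χ} ∧
      (∀ χ, χ ∈ F ↔ IsIrrCharacter L χ ∧ Q χ) ∧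
      ∀ f : (L → ℂ) → ℕ, ∑ ξ ∈ F, f ξ
        = ∑ φ ∈ Finset.univ.filter (fun φ : IrrCharacter L => Q (φ : L → ℂ)), f (φ : L → ℂ) := by
  classical
  have hmem : ∀ χ, χ ∈ (Finset.univ.filter (fun φ : IrrCharacter L => Q (φ : L → ℂ))).map
      ⟨Subtype.val, Subtype.val_injective⟩ ↔ IsIrrCharacter L χ ∧ Q χ := by
    intro χ
    rw [Finset.mem_map]
    constructor
    · rintro ⟨φ, hφ, rfl⟩
      exact ⟨φ.2, (Finset.mem_filter.mp hφ).2⟩
    · rintro ⟨h1, h2⟩
      exact ⟨⟨χ, h1⟩, Finset.mem_filter.mpr ⟨Finset.mem_univ _, h2⟩, rfl⟩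
  refine ⟨(Finset.univ.filter (fun φ : IrrCharacter L => Q (φ : L → ℂ))).map
    ⟨Subtype.val, Subtype.val_injective⟩, ?_, hmem, ?_⟩
  · ext χ
    rw [Finset.mem_coe, hmem]
    rfl
  · intro f
    rw [Finset.sum_map]
    rfl

theorem irr_sum_sq_nontrivial_on [Fintype (IrrCharacter L)] (Z : Subgroup L) [Z.Normal]
    [DecidablePred fun φ : IrrCharacter L => ∃ z ∈ Z, (φ : L → ℂ) z ≠ (φ : L → ℂ) 1] :
    ∑ φ ∈ Finset.univ.filter (fun φ : IrrCharacter L =>
        ∃ z ∈ Z, (φ : L → ℂ) z ≠ (φ : L → ℂ) 1), charDegree (φ : L → ℂ) ^ 2 + Z.index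
      = Fintype.card L := by
  classical
  have h1 := Cfsg.Agent.Helper80.irr_sum_sq_of_le_ker (G := L) Z
  have h2 := Cfsg.Agent.Helper80.irr_sum_charDegree_sq (G := L)
  have h3 := Finset.sum_filter_add_sum_filter_not (Finset.univ : Finset (IrrCharacter L))
    (fun φ : IrrCharacter L => ∀ n ∈ Z, (φ : L → ℂ) n = (φ : L → ℂ) 1)
    (fun φ => charDegree (φ : L → ℂ) ^ 2)
  have h4 : Finset.univ.filter (fun φ : IrrCharacter L =>
      ¬ ∀ n ∈ Z, (φ : L → ℂ) n = (φ : L → ℂ) 1)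
      = Finset.univ.filter (fun φ : IrrCharacter L =>
        ∃ z ∈ Z, (φ : L → ℂ) z ≠ (φ : L → ℂ) 1) := by
    ext φ
    simp only [Finset.mem_filter, Finset.mem_univ, true_and]
    push Not
    rfl
  rw [h4] at h3
  rw [← h2, ← h3]
  have h5 : ∑ φ ∈ Finset.univ.filter (fun φ : IrrCharacter L =>
      ∀ n ∈ Z, (φ : L → ℂ) n = (φ : L → ℂ) 1), charDegree (φ : L → ℂ) ^ 2 = Z.index := by
    rw [← h1]
    apply Finset.sum_congr _ (fun _ _ => rfl)
    ext φ
    simp only [Finset.mem_filter, Finset.mem_univ, true_and]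
  rw [h5]
  ring

/-- The irreducible characters of `L` not trivial on a Frobenius-type normal subgroup `K` are
induced from non-principal irreducible characters of `K`. -/
theorem frob_irr_mem_induced (K : Subgroup L) [hK : K.Normal]
    (hC : ∀ n ∈ K, n ≠ 1 → Subgroup.centralizer ({n} : Set L) ≤ K)
    {χ : L → ℂ} (hχ : IsIrrCharacter L χ) (hχK : ∃ x ∈ K, χ x ≠ χ 1) :
    ∃ θ : K → ℂ, IsIrrCharacter K θ ∧ θ ≠ (fun _ => 1) ∧ χ = indFun K θ := by
  have hirr : ∀ χ ∈ inducedIrrAbove K ⊥ \ inducedIrrAbove K K, IsIrrCharacter L χ := by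
    rintro χ ⟨⟨θ, hθ, hne, -, rfl⟩, -⟩
    exact isIrrCharacter_indFun_of_frob K hC hθ hne
  have h := sdiff_inducedIrrAbove_eq_irr K K le_rfl hirr
  have hmem : χ ∈ inducedIrrAbove K ⊥ \ inducedIrrAbove K K := by
    rw [h]
    exact ⟨hχ, hχK⟩
  obtain ⟨θ, hθ, hne, -, rfl⟩ := hmem.1
  exact ⟨θ, hθ, hne, rfl⟩

theorem frob_irr_apply_eq_zero (K : Subgroup L) [hK : K.Normal]
    (hC : ∀ n ∈ K, n ≠ 1 → Subgroup.centralizer ({n} : Set L) ≤ K)
    {χ : L → ℂ} (hχ : IsIrrCharacter L χ) (hχK : ∃ x ∈ K, χ x ≠ χ 1) {x : L} (hx : x ∉ K) :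
    χ x = 0 := by
  obtain ⟨θ, hθ, hne, rfl⟩ := frob_irr_mem_induced K hC hχ hχK
  exact inducedIrrAbove_apply_eq_zero K ⊥ ⟨θ, hθ, hne, fun a ha => by
    rw [Subgroup.mem_bot] at ha
    have : a = 1 := Subtype.ext ha
    rw [this], rfl⟩ hx

/-- If `K` is an abelian Frobenius-type normal subgroup of order `[L : K] + 1` then all its
elements have order dividing `p`, for each prime divisor `p` of `|K|`. -/
theorem frob_abelian_exponent (K : Subgroup L) [hK : K.Normal]
    (hC : ∀ n ∈ K, n ≠ 1 → Subgroup.centralizer ({n} : Set L) ≤ K)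
    (hcard : Nat.card K = K.index + 1) (p : ℕ) (hp : p.Prime) (hpK : p ∣ Nat.card K) :
    ∀ a ∈ K, a ^ p = 1 := by
  classical
  haveI : Fact p.Prime := ⟨hp⟩
  obtain ⟨⟨x₀, hx₀K⟩, hx₀⟩ := exists_prime_orderOf_dvd_card' p hpK
  have hx₀' : orderOf x₀ = p := by
    rw [← hx₀]
    exact (Subgroup.orderOf_mk x₀ hx₀K).symm
  have hx₀1 : x₀ ≠ 1 := by
    intro h
    rw [h, orderOf_one] at hx₀'
    exact hp.one_lt.ne hx₀'
  have hx₀p : x₀ ^ p = 1 := by
    rw [← hx₀']
    exact pow_orderOf_eq_one x₀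
  obtain ⟨K', hK'⟩ : ∃ K' : Finset L, K' = Finset.univ.filter (fun a : L => a ∈ K) := ⟨_, rfl⟩
  have hK'card : K'.card = Nat.card K := by
    rw [hK']
    exact (Nat.subtype_card _ (fun x => by simp)).symm
  obtain ⟨I, hI⟩ : ∃ I : Finset L, I = Finset.univ.image (fun n : L => n * x₀ * n⁻¹) :=
    ⟨_, rfl⟩
  have hIsub : I ⊆ K'.erase 1 := by
    intro a ha
    rw [hI, Finset.mem_image] at ha
    obtain ⟨n, -, rfl⟩ := ha
    rw [Finset.mem_erase, hK', Finset.mem_filter]
    refine ⟨fun h => hx₀1 ?_, Finset.mem_univ _, hK.conj_mem _ hx₀K n⟩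
    have h2 : x₀ = n⁻¹ * (n * x₀ * n⁻¹) * n := by group
    rw [h2, h]
    group
  have h1K' : (1 : L) ∈ K' := by
    rw [hK', Finset.mem_filter]
    exact ⟨Finset.mem_univ _, K.one_mem⟩
  have herase : (K'.erase 1).card = K.index := by
    rw [Finset.card_erase_of_mem h1K', hK'card, hcard]
    omega
  have hfib : ∀ a ∈ (Finset.univ : Finset L).image (fun n : L => n * x₀ * n⁻¹),
      ((Finset.univ : Finset L).filter (fun n : L => n * x₀ * n⁻¹ = a)).card ≤ Nat.card K := by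
    intro a ha
    rw [Finset.mem_image] at ha
    obtain ⟨n₀, -, rfl⟩ := ha
    rw [← hK'card]
    apply Finset.card_le_card_of_injOn (fun n => n₀⁻¹ * n)
    · intro n hn
      have hn' : n * x₀ * n⁻¹ = n₀ * x₀ * n₀⁻¹ := (Finset.mem_filter.mp hn).2
      show n₀⁻¹ * n ∈ K'
      rw [hK', Finset.mem_filter]
      refine ⟨Finset.mem_univ _, hC x₀ hx₀K hx₀1 ?_⟩
      rw [Subgroup.mem_centralizer_iff]
      intro y hy
      rw [Set.mem_singleton_iff] at hy
      subst hy
      calc y * (n₀⁻¹ * n) = n₀⁻¹ * (n₀ * y * n₀⁻¹) * n := by group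
        _ = n₀⁻¹ * (n * y * n⁻¹) * n := by rw [hn']
        _ = n₀⁻¹ * n * y := by group
    · intro a _ b _ hab
      exact mul_left_cancel hab
  have hcardL : Fintype.card L = K.index * Nat.card K := by
    rw [← Nat.card_eq_fintype_card, Subgroup.index_mul_card]
  have hle := Finset.card_le_mul_card_image (Finset.univ : Finset L) (Nat.card K) hfib
  rw [Finset.card_univ, hcardL, ← hI] at hle
  have hKpos : 0 < Nat.card K := Nat.card_pos
  have hle' : K.index ≤ I.card := by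
    have h3 : K.index * Nat.card K ≤ I.card * Nat.card K := by
      rw [mul_comm I.card]
      exact hle
    exact Nat.le_of_mul_le_mul_right h3 hKpos
  have hIeq : I = K'.erase 1 := Finset.eq_of_subset_of_card_le hIsub (by rw [herase]; exact hle')
  intro a ha
  by_cases ha1 : a = 1
  · rw [ha1, one_pow]
  · have hmem : a ∈ I := by
      rw [hIeq, Finset.mem_erase, hK', Finset.mem_filter]
      exact ⟨ha1, Finset.mem_univ _, ha⟩
    rw [hI, Finset.mem_image] at hmem
    obtain ⟨n, -, rfl⟩ := hmem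
    rw [conj_pow, hx₀p]
    group

/-- If the Frobenius-type normal subgroup `K` is abelian, the set of irreducible characters of `L`
not trivial on `K` is a singleton with `|K| = [L : K] + 1`, or coherent. -/
theorem coh_frob_abelian {G : Type*} [Group G] [Fintype G] (K : Subgroup L) [hK : K.Normal]
    (hC : ∀ n ∈ K, n ≠ 1 → Subgroup.centralizer ({n} : Set L) ≤ K)
    (hK1 : K ≠ ⊥) (hab : ∀ a b : K, a * b = b * a) (τ : (L → ℂ) → (G → ℂ))
    (hτ : IsLinearIsometryOn
      (zspanOn {χ : L → ℂ | IsIrrCharacter L χ ∧ ∃ x ∈ K, χ x ≠ χ 1} ({1}ᶜ : Set L)) τ)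
    (hτ1 : ∀ α ∈ zspanOn {χ : L → ℂ | IsIrrCharacter L χ ∧ ∃ x ∈ K, χ x ≠ χ 1} ({1}ᶜ : Set L),
      τ α 1 = 0) :
    (Nat.card {χ : L → ℂ // IsIrrCharacter L χ ∧ ∃ x ∈ K, χ x ≠ χ 1} = 1 ∧
      Nat.card K = K.index + 1) ∨
    IsCoherent {χ : L → ℂ | IsIrrCharacter L χ ∧ ∃ x ∈ K, χ x ≠ χ 1} ({1}ᶜ : Set L) τ := by
  classical
  letI : Fintype (IrrCharacter L) := Fintype.ofFinite _
  obtain ⟨F, hF, hFmem, hFsum⟩ := exists_irr_finset (L := L) (fun χ => ∃ x ∈ K, χ x ≠ χ 1)
  have hirr : ∀ ξ ∈ F, IsIrrCharacter L ξ := fun ξ hξ => ((hFmem ξ).mp hξ).1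
  have hdeg : ∀ ξ ∈ F, ξ 1 = (K.index : ℂ) := by
    intro ξ hξ
    obtain ⟨h1, h2⟩ := (hFmem ξ).mp hξ
    obtain ⟨θ, hθ, -, rfl⟩ := frob_irr_mem_induced K hC h1 h2
    rw [Cfsg.Agent.Helper79.indFun_apply_one, Cfsg.Agent.Helper75.irr_one_eq_one_of_comm hab hθ,
      mul_one]
  have hdeg' : ∀ ξ ∈ F, charDegree ξ = K.index := by
    intro ξ hξ
    have h1 := Cfsg.Agent.Helper79.isCharacter_one_eq_charDegree
      (Cfsg.Agent.Helper80.isCharacter_of_irr (hirr ξ hξ))
    rw [hdeg ξ hξ] at h1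
    exact_mod_cast h1.symm
  have hsum := irr_sum_sq_nontrivial_on (L := L) K
  rw [← hFsum (fun ξ => charDegree ξ ^ 2), Finset.sum_congr rfl
    (fun ξ hξ => by rw [hdeg' ξ hξ]), Finset.sum_const, smul_eq_mul] at hsum
  have hcardL : Fintype.card L = K.index * Nat.card K := by
    rw [← Nat.card_eq_fintype_card, Subgroup.index_mul_card]
  have hepos : 0 < K.index := Nat.pos_of_ne_zero Subgroup.index_ne_zero_of_finite
  have hcnt : F.card * K.index + 1 = Nat.card K := by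
    rw [hcardL] at hsum
    have h3 : K.index * (F.card * K.index + 1) = K.index * Nat.card K := by
      rw [← hsum]
      ring
    exact Nat.eq_of_mul_eq_mul_left hepos h3
  rw [← hF] at hτ hτ1 ⊢
  have hcardS : Nat.card {χ : L → ℂ // IsIrrCharacter L χ ∧ ∃ x ∈ K, χ x ≠ χ 1} = F.card :=
    Nat.subtype_card F hFmem
  rcases Nat.lt_or_ge F.card 2 with hlt | hge
  · left
    have hF1 : F.card = 1 := by
      have h0 : F.card ≠ 0 := by
        intro h0
        rw [h0] at hcnt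
        apply hK1
        have h1 : Nat.card K = 1 := by omega
        exact Subgroup.card_eq_one.mp h1
      omega
    refine ⟨by rw [hcardS, hF1], ?_⟩
    rw [hF1] at hcnt
    omega
  · right
    obtain ⟨χ₁, h1, χ₂, h2, hne⟩ := Finset.one_lt_card.mp (by omega : 1 < F.card)
    refine ⟨⟨χ₁ - χ₂, ⟨Submodule.sub_mem _ (Submodule.subset_span (Finset.mem_coe.mpr h1))
      (Submodule.subset_span (Finset.mem_coe.mpr h2)), fun w hw => ?_⟩, sub_ne_zero.mpr hne⟩,
      coh_equal_degree F hirr K.index hdeg τ hτ hτ1 χ₁ χ₂ h1 h2 hne⟩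
    have hw1 : w = 1 := by simpa using hw
    subst hw1
    rw [Pi.sub_apply, hdeg χ₁ h1, hdeg χ₂ h2, sub_self]

end Sib5

end Cfsg.Agent.Helper25
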