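import Mathlib
import Cfsg.Agent.Helper25.Sib5
import Cfsg.Agent.Helper25.Dade

/-!
# Frobenius groups: structure lemmas (helper25)

* `frob_centralizer_le_of_fpf`: if `W₁` normalises `H` and acts on it without non-trivial fixed
  points, then the centraliser in `H ⊔ W₁` of a non-identity element of `H` lies in `H`.
* `frob_commutator_fixed`: for a Frobenius-type normal subgroup `K` of `L` and a normal subgroup
  `A ≤ K` of `L`, an element `x` with `[x, k] ∈ A` for some `k ∈ K ∖ A` lies in `K`.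
* `ti_frob_centralizer_le`, `ti_frob_sylow_max`: a TI-subgroup with Frobenius normaliser contains
  the centralisers of its non-identity elements; if it is a `p`-group, it is a maximal `p`-subgroup.
* `frob_inducedIrrAbove_bot_eq`: `inducedIrrAbove K ⊥` is the set of irreducible characters not
  trivial on `K`.
-/

set_option autoImplicit false
set_option linter.style.haveILetI false
set_option linter.unusedVariables false
set_option linter.unusedSectionVars false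
set_option maxHeartbeats 1000000

namespace Cfsg.Agent.Helper25

open Cfsg

theorem frob_centralizer_le_of_fpf {G : Type*} [Group G] (H W₁ : Subgroup G) [Finite H]
    (hnorm : ∀ w ∈ W₁, ∀ h ∈ H, w * h * w⁻¹ ∈ H)
    (hfpf : ∀ w ∈ W₁, w ≠ 1 → ∀ h ∈ H, w * h = h * w → h = 1)
    {k : G} (hk : k ∈ H) (hk1 : k ≠ 1) {x : G} (hx : x ∈ H ⊔ W₁) (hxk : x * k = k * x) :
    x ∈ H := by
  obtain ⟨h, hh, w, hw, rfl⟩ := exists_mul_of_mem_sup_of_normalizes hnorm hx
  by_cases hw1 : w = 1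
  · rw [hw1, mul_one]
    exact hh
  exfalso
  have hinj : Function.Injective (fun u : H => (⟨(u : G)⁻¹ * (w * u * w⁻¹),
      H.mul_mem (H.inv_mem u.2) (hnorm w hw u u.2)⟩ : H)) := by
    intro u v huv
    have h1 : (u : G)⁻¹ * (w * u * w⁻¹) = (v : G)⁻¹ * (w * v * w⁻¹) := congrArg Subtype.val huv
    have h2 : w * ((v : G) * (u : G)⁻¹) = ((v : G) * (u : G)⁻¹) * w := by
      calc w * ((v : G) * (u : G)⁻¹)
          = (v : G) * ((v : G)⁻¹ * (w * v * w⁻¹)) * w * (u : G)⁻¹ := by group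
        _ = (v : G) * ((u : G)⁻¹ * (w * u * w⁻¹)) * w * (u : G)⁻¹ := by rw [h1]
        _ = (v : G) * (u : G)⁻¹ * w := by group
    have h3 := hfpf w hw hw1 _ (H.mul_mem v.2 (H.inv_mem u.2)) h2
    rw [mul_inv_eq_one] at h3
    exact Subtype.ext h3.symm
  obtain ⟨u, hu⟩ := Finite.surjective_of_injective hinj ⟨h, hh⟩
  have hu' : (u : G)⁻¹ * (w * u * w⁻¹) = h := congrArg Subtype.val hu
  have hxe : h * w = (u : G)⁻¹ * w * u := by
    rw [← hu']
    group
  rw [hxe] at hxk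
  have h4 : w * ((u : G) * k * (u : G)⁻¹) = ((u : G) * k * (u : G)⁻¹) * w := by
    calc w * ((u : G) * k * (u : G)⁻¹)
        = (u : G) * ((u : G)⁻¹ * w * u * k) * (u : G)⁻¹ := by group
      _ = (u : G) * (k * ((u : G)⁻¹ * w * u)) * (u : G)⁻¹ := by rw [hxk]
      _ = (u : G) * k * (u : G)⁻¹ * w := by group
  have h5 := hfpf w hw hw1 _ (H.mul_mem (H.mul_mem u.2 hk) (H.inv_mem u.2)) h4
  apply hk1
  have h6 : k = (u : G)⁻¹ * ((u : G) * k * (u : G)⁻¹) * u := by group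
  rw [h6, h5]
  group

theorem frob_commutator_fixed {L : Type*} [Group L] [Finite L] (K : Subgroup L) [hK : K.Normal]
    (hC : ∀ n ∈ K, n ≠ 1 → Subgroup.centralizer ({n} : Set L) ≤ K)
    (A : Subgroup L) [hA : A.Normal] (hAK : A ≤ K) :
    ∀ k ∈ K, k ∉ A → ∀ x : L, x * k * x⁻¹ * k⁻¹ ∈ A → x ∈ K := by
  intro k hk hkA x hx
  by_contra hxK
  have hinjK : ∀ u ∈ K, ∀ v ∈ K, u⁻¹ * (x * u * x⁻¹) = v⁻¹ * (x * v * x⁻¹) → u = v := by
    intro u hu v hv h1
    have h2 : (v * u⁻¹) * x = x * (v * u⁻¹) := by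
      calc (v * u⁻¹) * x = v * (u⁻¹ * (x * u * x⁻¹)) * x * u⁻¹ := by group
        _ = v * (v⁻¹ * (x * v * x⁻¹)) * x * u⁻¹ := by rw [h1]
        _ = x * (v * u⁻¹) := by group
    by_contra hne
    have h3 : v * u⁻¹ ≠ 1 := by
      intro h
      rw [mul_inv_eq_one] at h
      exact hne h.symm
    apply hxK
    apply hC (v * u⁻¹) (K.mul_mem hv (K.inv_mem hu)) h3
    rw [Subgroup.mem_centralizer_iff]
    intro y hy
    rw [Set.mem_singleton_iff] at hy
    subst hy
    exact h2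
  have hinj : Function.Injective (fun u : A => (⟨(u : L)⁻¹ * (x * u * x⁻¹),
      A.mul_mem (A.inv_mem u.2) (hA.conj_mem u u.2 x)⟩ : A)) := by
    intro u v huv
    have h1 : (u : L)⁻¹ * (x * u * x⁻¹) = (v : L)⁻¹ * (x * v * x⁻¹) := congrArg Subtype.val huv
    exact Subtype.ext (hinjK u (hAK u.2) v (hAK v.2) h1)
  have hd : k * (x * k⁻¹ * x⁻¹) ∈ A := by
    have h1 : k * (x * k⁻¹ * x⁻¹) = (x * k * x⁻¹ * k⁻¹)⁻¹ := by group
    rw [h1]
    exact A.inv_mem hx
  obtain ⟨u, hu⟩ := Finite.surjective_of_injective hinj ⟨k * (x * k⁻¹ * x⁻¹), hd⟩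
  have hu' : (u : L)⁻¹ * (x * u * x⁻¹) = k * (x * k⁻¹ * x⁻¹) := congrArg Subtype.val hu
  have h2 := hinjK u (hAK u.2) k⁻¹ (K.inv_mem hk) (by rw [hu', inv_inv])
  apply hkA
  have h3 : k = (u : L)⁻¹ := by rw [h2, inv_inv]
  rw [h3]
  exact A.inv_mem u.2

theorem ti_frob_centralizer_le {G : Type*} [Group G] (H : Subgroup G)
    (hTI : IsTISubset (H : Set G))
    (hCL : ∀ k ∈ H, k ≠ 1 → ∀ x ∈ Subgroup.normalizer (H : Set G), x * k = k * x → x ∈ H) :
    ∀ k ∈ H, k ≠ 1 → Subgroup.centralizer ({k} : Set G) ≤ H := by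
  intro k hk hk1 g hg
  have hgk : k * g = g * k := Subgroup.mem_centralizer_iff.mp hg k rfl
  have hgN : g ∈ Subgroup.normalizer (H : Set G) := by
    by_contra hgN
    apply hk1
    apply hTI g hgN k hk
    have h1 : g * k * g⁻¹ = k := by
      rw [← hgk]
      group
    rw [h1]
    exact hk
  exact hCL k hk hk1 g hgN hgk.symm

theorem ti_frob_sylow_max {G : Type*} [Group G] [Finite G] (H : Subgroup G) (hH1 : H ≠ ⊥)
    (hCG : ∀ k ∈ H, k ≠ 1 → Subgroup.centralizer ({k} : Set G) ≤ H) (p : ℕ) [Fact p.Prime]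
    {Q : Subgroup G} (hQ : IsPGroup p Q) (hHQ : H ≤ Q) : Q = H := by
  apply le_antisymm _ hHQ
  obtain ⟨h₀, hh₀, hh₀1⟩ : ∃ h₀ ∈ H, h₀ ≠ 1 := by
    by_contra hcon
    push Not at hcon
    exact hH1 ((Subgroup.eq_bot_iff_forall _).mpr hcon)
  haveI : Nontrivial Q := ⟨⟨⟨h₀, hHQ hh₀⟩, 1, fun h => hh₀1 (congrArg Subtype.val h)⟩⟩
  haveI := IsPGroup.center_nontrivial hQ
  obtain ⟨c, hc1⟩ := exists_ne (1 : Subgroup.center Q)
  have hcG1 : ((c : Q) : G) ≠ 1 := by
    intro h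
    apply hc1
    apply Subtype.ext
    apply Subtype.ext
    exact h
  have hcH : ((c : Q) : G) ∈ H := by
    apply hCG h₀ hh₀ hh₀1
    rw [Subgroup.mem_centralizer_iff]
    intro y hy
    rw [Set.mem_singleton_iff] at hy
    subst hy
    have h1 := Subgroup.mem_center_iff.mp c.2 ⟨y, hHQ hh₀⟩
    have h2 := congrArg Subtype.val h1
    exact h2
  intro x hx
  apply hCG _ hcH hcG1
  rw [Subgroup.mem_centralizer_iff]
  intro y hy
  rw [Set.mem_singleton_iff] at hy
  subst hy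
  have h1 := Subgroup.mem_center_iff.mp c.2 ⟨x, hx⟩
  have h2 := congrArg Subtype.val h1
  exact h2.symm

theorem frob_inducedIrrAbove_bot_eq {L : Type*} [Group L] [Fintype L] (K : Subgroup L)
    [hK : K.Normal] (hC : ∀ n ∈ K, n ≠ 1 → Subgroup.centralizer ({n} : Set L) ≤ K) :
    inducedIrrAbove K ⊥ = {χ : L → ℂ | IsIrrCharacter L χ ∧ ∃ x ∈ K, χ x ≠ χ 1} := by
  classical
  ext χ
  constructor
  · rintro ⟨θ, hθ, hne, -, rfl⟩
    refine ⟨isIrrCharacter_indFun_of_frob K hC hθ hne, ?_⟩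
    by_contra hcon
    push Not at hcon
    have h1 := (indFun_trivial_on_iff K K le_rfl
      (Cfsg.Agent.Helper80.isCharacter_of_irr hθ)).mp hcon
    have h2 : classInner θ (fun _ => (1 : ℂ)) = θ 1 := by
      unfold classInner
      rw [Finset.sum_congr rfl (fun a _ => by rw [h1 a a.2, map_one, mul_one]),
        Finset.sum_const, Finset.card_univ, nsmul_eq_mul, ← Nat.card_eq_fintype_card,
        ← mul_assoc, inv_mul_cancel₀ (by exact_mod_cast Nat.card_pos.ne'), one_mul]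
    have h3 := Cfsg.Agent.Helper15.irr_inner_ne hθ Cfsg.Agent.Helper79.isIrrCharacter_one hne
    rw [h2] at h3
    exact Cfsg.Agent.Helper3.irr_apply_one_ne_zero hθ h3
  · rintro ⟨hχ, hχK⟩
    obtain ⟨θ, hθ, hne, rfl⟩ := frob_irr_mem_induced K hC hχ hχK
    refine ⟨θ, hθ, hne, fun a ha => ?_, rfl⟩
    rw [Subgroup.mem_bot] at ha
    have h1 : a = 1 := Subtype.ext ha
    rw [h1]

end Cfsg.Agent.Helper25
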