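import Mathlib
import Cfsg.Agent.Helper25.Sib7
import Cfsg.Agent.Helper25.Coh5
import Cfsg.Agent.S1492
import Cfsg.Agent.Helper75.AbelianQuot

/-!
# Coherence for Frobenius-type normal subgroups without coherence systems (helper25)

* `coh_chain_mass`: insertion of characters whose degrees are multiples of a fixed degree, with
  enough mass in the starting set.
* `coh_frob_of_bound`: version of `coherent_inducedIrrAbove_of_bound` for a Frobenius-type normal
  subgroup, with no coherence system and no assumption on the order of `L`.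
* `coh_frob_step`: the corresponding version of Peterfalvi (6.4).
* `coh_frob_base`: the set of characters induced from non-principal linear characters with a given
  kernel is coherent if it has at least two members.
-/

set_option autoImplicit false
set_option linter.style.haveILetI false
set_option linter.unusedVariables false
set_option linter.unusedSectionVars false
set_option maxHeartbeats 1000000

namespace Cfsg.Agent.Helper25

open Cfsg
open scoped commutatorElement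

section Sib8

variable {L : Type*} [Group L] [Fintype L] {G : Type*} [Group G] [Fintype G]

/-- Coherence by successive insertion of characters whose degrees are multiples of `d θ`. -/
theorem coh_chain_mass (S₀ S : Finset (L → ℂ)) (hS₀S : S₀ ⊆ S)
    (hirr : ∀ ξ ∈ S, IsIrrCharacter L ξ)
    (d : (L → ℂ) → ℕ) (hd : ∀ ξ ∈ S, ξ 1 = (d ξ : ℂ))
    (τ : (L → ℂ) → (G → ℂ))
    (hτ : IsLinearIsometryOn (zspanOn (↑S : Set (L → ℂ)) ({1}ᶜ : Set L)) τ)
    (hτ1 : ∀ α ∈ zspanOn (↑S : Set (L → ℂ)) ({1}ᶜ : Set L), τ α 1 = 0)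
    (τ₀ : (L → ℂ) → (G → ℂ)) (hτ₀ : IsLinearIsometryOn (zspan (↑S₀ : Set (L → ℂ))) τ₀)
    (hτ₀τ : ∀ α ∈ zspanOn (↑S₀ : Set (L → ℂ)) ({1}ᶜ : Set L), τ₀ α = τ α)
    (θ : L → ℂ) (hθ : θ ∈ S₀)
    (hstep : ∀ χ ∈ S, χ ∉ S₀ →
      ∃ m : ℕ, 0 < m ∧ d χ = m * d θ ∧ 2 * m * d θ ^ 2 < ∑ ξ ∈ S₀, d ξ ^ 2) :
    ∃ τ₁ : (L → ℂ) → (G → ℂ), IsLinearIsometryOn (zspan (↑S : Set (L → ℂ))) τ₁ ∧
      ∀ α ∈ zspanOn (↑S : Set (L → ℂ)) ({1}ᶜ : Set L), τ₁ α = τ α := by
  classical
  have key : ∀ U : Finset (L → ℂ), U ⊆ S \ S₀ → ∃ τ₁ : (L → ℂ) → (G → ℂ),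
      IsLinearIsometryOn (zspan (↑(S₀ ∪ U) : Set (L → ℂ))) τ₁ ∧
      ∀ α ∈ zspanOn (↑(S₀ ∪ U) : Set (L → ℂ)) ({1}ᶜ : Set L), τ₁ α = τ α := by
    intro U
    induction U using Finset.induction_on with
    | empty =>
      intro _
      rw [Finset.union_empty]
      exact ⟨τ₀, hτ₀, hτ₀τ⟩
    | insert χ U hχU ih =>
      intro hsub
      obtain ⟨τ₁, hτ₁, hτ₁τ⟩ := ih (fun x hx => hsub (Finset.mem_insert_of_mem hx))
      have hχS := hsub (Finset.mem_insert_self χ U)
      rw [Finset.mem_sdiff] at hχS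
      have hUS : U ⊆ S := fun x hx =>
        (Finset.mem_sdiff.mp (hsub (Finset.mem_insert_of_mem hx))).1
      have hχT : χ ∉ S₀ ∪ U := by
        rw [Finset.mem_union]
        rintro (h | h)
        · exact hχS.2 h
        · exact hχU h
      rw [Finset.union_insert]
      have hTS : insert χ (S₀ ∪ U) ⊆ S := by
        intro x hx
        rcases Finset.mem_insert.mp hx with rfl | hx
        · exact hχS.1
        · rcases Finset.mem_union.mp hx with h | h
          · exact hS₀S h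
          · exact hUS h
      have hTS' : (↑(insert χ (S₀ ∪ U)) : Set (L → ℂ)) ⊆ (↑S : Set (L → ℂ)) :=
        Finset.coe_subset.mpr hTS
      have hτT : IsLinearIsometryOn
          (zspanOn (↑(insert χ (S₀ ∪ U)) : Set (L → ℂ)) ({1}ᶜ : Set L)) τ :=
        isLinearIsometryOn_subset (fun a ha => Cfsg.Agent.Helper14.ZS.zspanOn_mono hTS' ha) hτ
      have hτ1T : ∀ α ∈ zspanOn (↑(insert χ (S₀ ∪ U)) : Set (L → ℂ)) ({1}ᶜ : Set L),
          τ α 1 = 0 := fun α hα => hτ1 α (Cfsg.Agent.Helper14.ZS.zspanOn_mono hTS' hα)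
      have hirrT : ∀ ξ ∈ insert χ (S₀ ∪ U), IsIrrCharacter L ξ := fun ξ hξ => hirr ξ (hTS hξ)
      have hdT : ∀ ξ ∈ insert χ (S₀ ∪ U), ξ 1 = (d ξ : ℂ) := fun ξ hξ => hd ξ (hTS hξ)
      have hθT : θ ∈ S₀ ∪ U := Finset.mem_union_left _ hθ
      obtain ⟨m, hm, hdm, hmass⟩ := hstep χ hχS.1 hχS.2
      have hβT : (1 : ℤ) • χ - (m : ℤ) • θ
          ∈ zspanOn (↑(insert χ (S₀ ∪ U)) : Set (L → ℂ)) ({1}ᶜ : Set L) := by
        refine ⟨Submodule.sub_mem _ (Submodule.smul_mem _ _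
          (Submodule.subset_span (Finset.mem_coe.mpr (Finset.mem_insert_self _ _))))
          (Submodule.smul_mem _ _ (Submodule.subset_span
            (Finset.mem_coe.mpr (Finset.mem_insert_of_mem hθT)))), fun w hw => ?_⟩
        have hw1 : w = 1 := by simpa using hw
        subst hw1
        rw [Pi.sub_apply, Pi.smul_apply, Pi.smul_apply, zsmul_eq_mul, zsmul_eq_mul,
          hd χ hχS.1, hd θ (hS₀S hθ), hdm]
        push_cast
        ring
      refine coh_insert (S₀ ∪ U) χ hirrT hχT d hdT τ hτT hτ1T τ₁ hτ₁ hτ₁τ θ hθT 1 m one_pos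
        hm (by rw [one_mul]; exact hdm) ?_ ?_
      · intro ψ hψ _
        rw [Nat.cast_one]
        obtain ⟨k, hk⟩ := Cfsg.Agent.Helper14.ZS.genChar_inner_genChar_int (hτT.2.2.2 _ hβT)
          (isGeneralizedCharacter_of_irr hψ)
        exact ⟨k, by rw [hk]; simp⟩
      · left
        exact lt_of_lt_of_le hmass
          (Finset.sum_le_sum_of_subset (f := fun ξ => d ξ ^ 2) Finset.subset_union_left)
  have h := key (S \ S₀) (subset_refl _)
  rw [Finset.union_sdiff_of_subset hS₀S] at h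
  exact h

theorem inducedIrrAbove_anti (K : Subgroup L) {A B : Subgroup L} (hBA : B ≤ A) :
    inducedIrrAbove K A ⊆ inducedIrrAbove K B := by
  rintro φ ⟨θ, hθ, hne, hker, rfl⟩
  exact ⟨θ, hθ, hne, fun a ha => hker a (hBA ha), rfl⟩

theorem finite_isIrrCharacter : {χ : L → ℂ | IsIrrCharacter L χ}.Finite := by
  have h : {χ : L → ℂ | IsIrrCharacter L χ} = Set.range (fun φ : IrrCharacter L => (φ : L → ℂ)) := by
    ext χ
    constructor
    · intro hχ
      exact ⟨⟨χ, hχ⟩, rfl⟩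
    · rintro ⟨φ, rfl⟩
      exact φ.2
  rw [h]
  exact Set.finite_range _

/-- Version of `coherent_inducedIrrAbove_of_bound` for a Frobenius-type normal subgroup, with no
coherence system. -/
theorem coh_frob_of_bound (K : Subgroup L) [hK : K.Normal]
    (hC : ∀ n ∈ K, n ≠ 1 → Subgroup.centralizer ({n} : Set L) ≤ K)
    (hsolv : Group.IsSolvable K) (τ : (L → ℂ) → (G → ℂ))
    (hτ : IsLinearIsometryOn (zspanOn (inducedIrrAbove K ⊥) ({1}ᶜ : Set L)) τ)
    (hτ1 : ∀ α ∈ zspanOn (inducedIrrAbove K ⊥) ({1}ᶜ : Set L), τ α 1 = 0)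
    (A B : Subgroup L) [A.Normal] [B.Normal] (hBA : B ≤ A) (hAK : A < K)
    (hA : IsCoherent (inducedIrrAbove K A) {1}ᶜ τ)
    (hbound : ∀ θ : K → ℂ, IsIrrCharacter K θ → (∀ a : K, (a : L) ∈ B → θ a = θ 1) →
      ∀ t : ℕ, θ 1 = (t : ℂ) → 2 * K.index * t + 1 < A.relIndex K) :
    IsCoherent (inducedIrrAbove K B) {1}ᶜ τ := by
  classical
  have hirrS : ∀ X : Subgroup L, ∀ χ ∈ inducedIrrAbove K X, IsIrrCharacter L χ := by
    rintro X χ ⟨θ, hθ, hne, -, rfl⟩
    exact isIrrCharacter_indFun_of_frob K hC hθ hne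
  have hfinS : ∀ X : Subgroup L, (inducedIrrAbove K X).Finite := fun X =>
    finite_isIrrCharacter.subset (fun χ hχ => hirrS X χ hχ)
  obtain ⟨SA, hSA⟩ : ∃ SA : Finset (L → ℂ), (↑SA : Set (L → ℂ)) = inducedIrrAbove K A :=
    ⟨(hfinS A).toFinset, Set.Finite.coe_toFinset _⟩
  obtain ⟨SB, hSB⟩ : ∃ SB : Finset (L → ℂ), (↑SB : Set (L → ℂ)) = inducedIrrAbove K B :=
    ⟨(hfinS B).toFinset, Set.Finite.coe_toFinset _⟩
  have hSAmem : ∀ ξ, ξ ∈ SA ↔ ξ ∈ inducedIrrAbove K A := fun ξ => by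
    rw [← hSA, Finset.mem_coe]
  have hSBmem : ∀ ξ, ξ ∈ SB ↔ ξ ∈ inducedIrrAbove K B := fun ξ => by
    rw [← hSB, Finset.mem_coe]
  have hSAB : SA ⊆ SB := fun ξ hξ =>
    (hSBmem ξ).mpr (inducedIrrAbove_anti K hBA ((hSAmem ξ).mp hξ))
  have hBbot : inducedIrrAbove K B ⊆ inducedIrrAbove K ⊥ := inducedIrrAbove_subset_bot K B
  have hirrB : ∀ ξ ∈ SB, IsIrrCharacter L ξ := fun ξ hξ => hirrS B ξ ((hSBmem ξ).mp hξ)
  have hd : ∀ ξ ∈ SB, ξ 1 = (charDegree ξ : ℂ) := fun ξ hξ =>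
    Cfsg.Agent.Helper79.isCharacter_one_eq_charDegree
      (Cfsg.Agent.Helper80.isCharacter_of_irr (hirrB ξ hξ))
  haveI : (A.subgroupOf K).Normal := inferInstance
  have hsumA := sum_inducedIrrAbove_ge K A charDegree (fun _ => 1) SA hSA
    (fun ξ hξ => Cfsg.Agent.Helper80.isCharacter_of_irr (hirrB ξ (hSAB hξ)))
    (fun ξ hξ => hd ξ (hSAB hξ))
    (fun ξ hξ => by
      rw [Cfsg.Agent.Helper15.irr_inner_self (hirrB ξ (hSAB hξ))]
      simp)
    (fun ξ _ => one_pos)
  have hsumA' : K.index * (A.relIndex K - 1) ≤ ∑ ξ ∈ SA, charDegree ξ ^ 2 := by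
    have hpos : 1 ≤ A.relIndex K := by
      have h0 : A.relIndex K ≠ 0 := by
        rw [Subgroup.relIndex]
        exact Subgroup.index_ne_zero_of_finite
      omega
    have h1 : ((K.index * (A.relIndex K - 1) : ℕ) : ℝ) ≤ ((∑ ξ ∈ SA, charDegree ξ ^ 2 : ℕ) : ℝ) := by
      push_cast [Nat.cast_sub hpos]
      refine le_trans hsumA (le_of_eq ?_)
      apply Finset.sum_congr rfl
      intro ξ _
      simp
    exact_mod_cast h1
  have hAtop : A.subgroupOf K ≠ ⊤ := by
    intro h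
    rw [Subgroup.subgroupOf_eq_top] at h
    exact (not_le_of_gt hAK) h
  obtain ⟨lam, hlam, hlam1, hlamdeg, hlamker⟩ :=
    exists_linear_nonprincipal hsolv (A.subgroupOf K) hAtop
  have hφA : indFun K lam ∈ inducedIrrAbove K A :=
    ⟨lam, hlam, hlam1, fun a ha => hlamker a (Subgroup.mem_subgroupOf.mpr ha), rfl⟩
  have hφSA : indFun K lam ∈ SA := (hSAmem _).mpr hφA
  have hdφ : charDegree (indFun K lam) = K.index := by
    have h1 := hd _ (hSAB hφSA)
    rw [Cfsg.Agent.Helper79.indFun_apply_one, hlamdeg, mul_one] at h1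
    exact_mod_cast h1.symm
  obtain ⟨⟨α₀, hα₀, hα₀ne⟩, τ₀, hτ₀, hτ₀τ⟩ := hA
  rw [← hSA] at hα₀ hτ₀ hτ₀τ
  rw [← hSB]
  have hSBbot : (↑SB : Set (L → ℂ)) ⊆ inducedIrrAbove K ⊥ := by
    rw [hSB]
    exact hBbot
  obtain ⟨τ₁, hτ₁, hτ₁τ⟩ := coh_chain_mass SA SB hSAB hirrB charDegree hd τ
    (isLinearIsometryOn_subset (fun a ha => Cfsg.Agent.Helper14.ZS.zspanOn_mono hSBbot ha) hτ)
    (fun α hα => hτ1 α (Cfsg.Agent.Helper14.ZS.zspanOn_mono hSBbot hα))
    τ₀ hτ₀ hτ₀τ (indFun K lam) hφSA (by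
      intro χ hχ hχA
      obtain ⟨θ, hθ, hθ1, hθker, hχθ⟩ := (hSBmem χ).mp hχ
      obtain ⟨t, htpos, ht⟩ := Cfsg.Agent.Helper3.irr_apply_one_eq_nat hθ
      have hdχ : charDegree χ = t * K.index := by
        have h1 := hd χ hχ
        have h2 : χ 1 = (K.index : ℂ) * t := by
          rw [hχθ, Cfsg.Agent.Helper79.indFun_apply_one, ht]
        rw [h2] at h1
        have h3 : ((K.index * t : ℕ) : ℂ) = (charDegree χ : ℂ) := by
          push_cast
          exact h1
        have h4 : K.index * t = charDegree χ := by exact_mod_cast h3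
        rw [← h4, mul_comm]
      have hb := hbound θ hθ hθker t ht
      refine ⟨t, htpos, by rw [hdχ, hdφ], ?_⟩
      rw [hdφ]
      refine lt_of_lt_of_le ?_ hsumA'
      have h5 : 2 * K.index * t + 1 ≤ A.relIndex K - 1 := by omega
      have hepos : 0 < K.index := Nat.pos_of_ne_zero Subgroup.index_ne_zero_of_finite
      calc 2 * t * K.index ^ 2 = K.index * (2 * K.index * t) := by ring
        _ < K.index * (2 * K.index * t + 1) := by
            apply Nat.mul_lt_mul_of_pos_left (by omega) hepos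
        _ ≤ K.index * (A.relIndex K - 1) := Nat.mul_le_mul_left _ h5)
  exact ⟨⟨α₀, Cfsg.Agent.Helper14.ZS.zspanOn_mono (Finset.coe_subset.mpr hSAB) hα₀, hα₀ne⟩,
    τ₁, hτ₁, hτ₁τ⟩

/-- Version of Peterfalvi (6.4) for a Frobenius-type normal subgroup, with no coherence system. -/
theorem coh_frob_step (K : Subgroup L) [hK : K.Normal]
    (hC : ∀ n ∈ K, n ≠ 1 → Subgroup.centralizer ({n} : Set L) ≤ K)
    (hsolv : Group.IsSolvable K) (τ : (L → ℂ) → (G → ℂ))
    (hτ : IsLinearIsometryOn (zspanOn (inducedIrrAbove K ⊥) ({1}ᶜ : Set L)) τ)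
    (hτ1 : ∀ α ∈ zspanOn (inducedIrrAbove K ⊥) ({1}ᶜ : Set L), τ α 1 = 0)
    (A B C D : Subgroup L) [A.Normal] [B.Normal] [C.Normal] [D.Normal] (hBA : B ≤ A)
    (hAK : A < K) (hBD : B ≤ D) (hDC : D ≤ C) (hCK : C ≤ K)
    (hcent : ∀ x ∈ D, ∀ y ∈ C, x * y * x⁻¹ * y⁻¹ ∈ B)
    (hA : IsCoherent (inducedIrrAbove K A) {1}ᶜ τ)
    (hlt : 4 * C.index ^ 2 * D.relIndex C < (A.relIndex K - 1) ^ 2) :
    IsCoherent (inducedIrrAbove K B) {1}ᶜ τ := by
  classical
  refine coh_frob_of_bound K hC hsolv τ hτ hτ1 A B hBA hAK hA ?_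
  intro θ hθ hθker t ht
  have hBn : (B : Subgroup L).Normal := inferInstance
  have h1 := Cfsg.Agent.S1492.result θ hθ (B.subgroupOf K) (C.subgroupOf K) (D.subgroupOf K)
    (fun x hx => Subgroup.mem_subgroupOf.mpr (hBD (Subgroup.mem_subgroupOf.mp hx)))
    (fun x hx => Subgroup.mem_subgroupOf.mpr (hDC (Subgroup.mem_subgroupOf.mp hx)))
    (fun c _ b hb => Subgroup.mem_subgroupOf.mpr (by
      have := hBn.conj_mem _ (Subgroup.mem_subgroupOf.mp hb) (c : L)
      simpa using this))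
    (fun d hd c hc => Subgroup.mem_subgroupOf.mpr (by
      have := hcent _ (Subgroup.mem_subgroupOf.mp hd) _ (Subgroup.mem_subgroupOf.mp hc)
      simpa using this))
    (fun b hb => hθker b (Subgroup.mem_subgroupOf.mp hb))
  rw [ht, Complex.norm_natCast] at h1
  have hcC : Nat.card (C.subgroupOf K) = Nat.card C :=
    Nat.card_congr (Subgroup.subgroupOfEquivOfLe hCK).toEquiv
  have hcD : Nat.card (D.subgroupOf K) = Nat.card D :=
    Nat.card_congr (Subgroup.subgroupOfEquivOfLe (hDC.trans hCK)).toEquiv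
  rw [hcC, hcD] at h1
  have h2 : t ^ 2 * Nat.card C * Nat.card D ≤ Nat.card K ^ 2 := by exact_mod_cast h1
  have hKC : Nat.card K = Nat.card C * C.relIndex K := by
    have := Subgroup.relIndex_mul_relIndex (⊥ : Subgroup L) C K bot_le hCK
    rw [Subgroup.relIndex_bot_left, Subgroup.relIndex_bot_left] at this
    exact this.symm
  have hCD : Nat.card C = Nat.card D * D.relIndex C := by
    have := Subgroup.relIndex_mul_relIndex (⊥ : Subgroup L) D C bot_le hDC
    rw [Subgroup.relIndex_bot_left, Subgroup.relIndex_bot_left] at this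
    exact this.symm
  have hCidx : C.index = C.relIndex K * K.index := (Subgroup.relIndex_mul_index hCK).symm
  have hCpos : 0 < Nat.card C := Nat.card_pos
  have hDpos : 0 < Nat.card D := Nat.card_pos
  have h3 : t ^ 2 ≤ C.relIndex K ^ 2 * D.relIndex C := by
    have h4 : t ^ 2 * (Nat.card C * Nat.card D) ≤
        (C.relIndex K ^ 2 * D.relIndex C) * (Nat.card C * Nat.card D) := by
      calc t ^ 2 * (Nat.card C * Nat.card D) = t ^ 2 * Nat.card C * Nat.card D := by ring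
        _ ≤ Nat.card K ^ 2 := h2
        _ = (Nat.card C * C.relIndex K) * (Nat.card C * C.relIndex K) := by rw [hKC]; ring
        _ = (Nat.card C * C.relIndex K) * ((Nat.card D * D.relIndex C) * C.relIndex K) := by
            rw [← hCD]
        _ = (C.relIndex K ^ 2 * D.relIndex C) * (Nat.card C * Nat.card D) := by ring
    exact Nat.le_of_mul_le_mul_right h4 (Nat.mul_pos hCpos hDpos)
  have h5 : (2 * K.index * t) ^ 2 < (A.relIndex K - 1) ^ 2 := by
    calc (2 * K.index * t) ^ 2 = 4 * K.index ^ 2 * t ^ 2 := by ring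
      _ ≤ 4 * K.index ^ 2 * (C.relIndex K ^ 2 * D.relIndex C) := Nat.mul_le_mul_left _ h3
      _ = 4 * C.index ^ 2 * D.relIndex C := by rw [hCidx]; ring
      _ < (A.relIndex K - 1) ^ 2 := hlt
  have h6 : 2 * K.index * t < A.relIndex K - 1 := lt_of_pow_lt_pow_left₀ 2 (Nat.zero_le _) h5
  generalize 2 * K.index * t = m at h6 ⊢
  omega

/-- The set of characters induced from the non-principal linear characters of `K` trivial on
`H₁ ≥ K'` is coherent, provided `[K : H₁] > [L : K] + 1`. -/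
theorem coh_frob_base (K : Subgroup L) [hK : K.Normal]
    (hC : ∀ n ∈ K, n ≠ 1 → Subgroup.centralizer ({n} : Set L) ≤ K)
    (τ : (L → ℂ) → (G → ℂ))
    (hτ : IsLinearIsometryOn (zspanOn (inducedIrrAbove K ⊥) ({1}ᶜ : Set L)) τ)
    (hτ1 : ∀ α ∈ zspanOn (inducedIrrAbove K ⊥) ({1}ᶜ : Set L), τ α 1 = 0)
    (H₁ : Subgroup L) [H₁.Normal] (hab : ⁅K, K⁆ ≤ H₁)
    (hbig : K.index + 1 < H₁.relIndex K) :
    IsCoherent (inducedIrrAbove K H₁) {1}ᶜ τ := by
  classical
  have hirrS : ∀ χ ∈ inducedIrrAbove K H₁, IsIrrCharacter L χ := by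
    rintro χ ⟨θ, hθ, hne, -, rfl⟩
    exact isIrrCharacter_indFun_of_frob K hC hθ hne
  have hfinS : (inducedIrrAbove K H₁).Finite :=
    finite_isIrrCharacter.subset (fun χ hχ => hirrS χ hχ)
  obtain ⟨SA, hSA⟩ : ∃ SA : Finset (L → ℂ), (↑SA : Set (L → ℂ)) = inducedIrrAbove K H₁ :=
    ⟨hfinS.toFinset, Set.Finite.coe_toFinset _⟩
  have hSAmem : ∀ ξ, ξ ∈ SA ↔ ξ ∈ inducedIrrAbove K H₁ := fun ξ => by
    rw [← hSA, Finset.mem_coe]
  have hirr : ∀ ξ ∈ SA, IsIrrCharacter L ξ := fun ξ hξ => hirrS ξ ((hSAmem ξ).mp hξ)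
  have hdeg : ∀ ξ ∈ SA, ξ 1 = (K.index : ℂ) := by
    intro ξ hξ
    obtain ⟨θ, hθ, -, hker, rfl⟩ := (hSAmem ξ).mp hξ
    have h1 : θ 1 = 1 := by
      apply Cfsg.Agent.Helper75.irr_one_eq_one_of_comm_mod_ker hθ
      intro x y
      apply hker
      apply hab
      have h2 : ((x * y * x⁻¹ * y⁻¹ : K) : L) = ⁅(x : L), (y : L)⁆ := by
        rw [commutatorElement_def]
        rfl
      rw [h2]
      exact Subgroup.commutator_mem_commutator x.2 y.2
    rw [Cfsg.Agent.Helper79.indFun_apply_one, h1, mul_one]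
  have hd : ∀ ξ ∈ SA, ξ 1 = (charDegree ξ : ℂ) := fun ξ hξ =>
    Cfsg.Agent.Helper79.isCharacter_one_eq_charDegree
      (Cfsg.Agent.Helper80.isCharacter_of_irr (hirr ξ hξ))
  have hdeg' : ∀ ξ ∈ SA, charDegree ξ = K.index := by
    intro ξ hξ
    have h1 := hd ξ hξ
    rw [hdeg ξ hξ] at h1
    exact_mod_cast h1.symm
  haveI : (H₁.subgroupOf K).Normal := inferInstance
  have hsumA := sum_inducedIrrAbove_ge K H₁ charDegree (fun _ => 1) SA hSA
    (fun ξ hξ => Cfsg.Agent.Helper80.isCharacter_of_irr (hirr ξ hξ))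
    (fun ξ hξ => hd ξ hξ)
    (fun ξ hξ => by
      rw [Cfsg.Agent.Helper15.irr_inner_self (hirr ξ hξ)]
      simp)
    (fun ξ _ => one_pos)
  have hepos : 0 < K.index := Nat.pos_of_ne_zero Subgroup.index_ne_zero_of_finite
  have hcard : H₁.relIndex K - 1 ≤ SA.card * K.index := by
    have h1 : ((K.index * (H₁.relIndex K - 1) : ℕ) : ℝ)
        ≤ ((K.index * (SA.card * K.index) : ℕ) : ℝ) := by
      have hpos : 1 ≤ H₁.relIndex K := by omega
      push_cast [Nat.cast_sub hpos]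
      refine le_trans hsumA (le_of_eq ?_)
      rw [Finset.sum_congr rfl (fun ξ hξ => by rw [hdeg' ξ hξ]), Finset.sum_const]
      simp
      ring
    have h2 : K.index * (H₁.relIndex K - 1) ≤ K.index * (SA.card * K.index) := by
      exact_mod_cast h1
    exact Nat.le_of_mul_le_mul_left h2 hepos
  have hcard2 : 1 < SA.card := by
    by_contra hcon
    have h3 : SA.card * K.index ≤ 1 * K.index := Nat.mul_le_mul_right _ (by omega)
    omega
  obtain ⟨χ₁, h1, χ₂, h2, hne⟩ := Finset.one_lt_card.mp hcard2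
  rw [← hSA]
  have hSAbot : (↑SA : Set (L → ℂ)) ⊆ inducedIrrAbove K ⊥ := by
    rw [hSA]
    exact inducedIrrAbove_subset_bot K H₁
  refine ⟨⟨χ₁ - χ₂, ⟨Submodule.sub_mem _ (Submodule.subset_span (Finset.mem_coe.mpr h1))
    (Submodule.subset_span (Finset.mem_coe.mpr h2)), fun w hw => ?_⟩, sub_ne_zero.mpr hne⟩,
    coh_equal_degree SA hirr K.index hdeg τ
      (isLinearIsometryOn_subset (fun a ha => Cfsg.Agent.Helper14.ZS.zspanOn_mono hSAbot ha) hτ)
      (fun α hα => hτ1 α (Cfsg.Agent.Helper14.ZS.zspanOn_mono hSAbot hα)) χ₁ χ₂ h1 h2 hne⟩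
  have hw1 : w = 1 := by simpa using hw
  subst hw1
  rw [Pi.sub_apply, hdeg χ₁ h1, hdeg χ₂ h2, sub_self]

/-- Version of Peterfalvi (6.7) for a Frobenius-type normal subgroup, with an auxiliary normal
subgroup `E` central modulo `M`, and with no coherence system. -/
theorem coh_frob_chain (K : Subgroup L) [hK : K.Normal]
    (hC : ∀ n ∈ K, n ≠ 1 → Subgroup.centralizer ({n} : Set L) ≤ K)
    (hsolv : Group.IsSolvable K) (τ : (L → ℂ) → (G → ℂ))
    (hτ : IsLinearIsometryOn (zspanOn (inducedIrrAbove K ⊥) ({1}ᶜ : Set L)) τ)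
    (hτ1 : ∀ α ∈ zspanOn (inducedIrrAbove K ⊥) ({1}ᶜ : Set L), τ α 1 = 0)
    (M H₁ E : Subgroup L) [M.Normal] [H₁.Normal] [E.Normal] (hMH₁ : M ≤ H₁) (hH₁K : H₁ < K)
    (hEK : E ≤ K) (hEc : ∀ x ∈ E, ∀ y ∈ K, x * y * x⁻¹ * y⁻¹ ∈ M)
    [(M.subgroupOf K).Normal] (hnil : Group.IsNilpotent (↥K ⧸ M.subgroupOf K))
    (hcoh : IsCoherent (inducedIrrAbove K H₁) {1}ᶜ τ)
    (hnum : ∀ X : Subgroup L, X.Normal → M ≤ X → X ≤ H₁ →
      4 * K.index ^ 2 * (X ⊔ E).relIndex K < (X.relIndex K - 1) ^ 2) :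
    IsCoherent (inducedIrrAbove K M) {1}ᶜ τ := by
  classical
  obtain ⟨n, hn⟩ := Subgroup.nilpotent_iff_lowerCentralSeries.mp hnil
  have key : ∀ k i : ℕ, i + k = n → ∀ X : Subgroup L, X.Normal → M ≤ X → X ≤ H₁ →
      (∀ x (hx : x ∈ X) (hxH : x ∈ K),
        (QuotientGroup.mk' (M.subgroupOf K) (⟨x, hxH⟩ : K)) ∈
          (⊤ : Subgroup (↥K ⧸ M.subgroupOf K)).lowerCentralSeries i) →
      IsCoherent (inducedIrrAbove K X) {1}ᶜ τ →
      IsCoherent (inducedIrrAbove K M) {1}ᶜ τ := by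
    intro k
    induction k with
    | zero =>
      intro i hi X hXn hMX hXH₁ hXi hXcoh
      have hin : i = n := by omega
      subst hin
      have hXM : X = M := by
        apply le_antisymm _ hMX
        intro x hx
        have hxH : x ∈ K := hH₁K.le (hXH₁ hx)
        have h1 := hXi x hx hxH
        rw [hn, Subgroup.mem_bot, QuotientGroup.mk'_apply, QuotientGroup.eq_one_iff] at h1
        exact Subgroup.mem_subgroupOf.mp h1
      rw [← hXM]
      exact hXcoh
    | succ k ih =>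
      intro i hi X hXn hMX hXH₁ hXi hXcoh
      haveI := hXn
      set Y : Subgroup L := ⁅K, X⁆ ⊔ M with hY
      haveI hYn : Y.Normal := by
        rw [hY]
        infer_instance
      have hXH : X ≤ K := hXH₁.trans hH₁K.le
      have hcomm : ⁅K, X⁆ ≤ X := Subgroup.commutator_le_right K X
      have hYX : Y ≤ X := sup_le hcomm hMX
      apply ih (i + 1) (by omega) Y hYn le_sup_right (hYX.trans hXH₁)
      · intro y hy hyH
        have hZ : Y ≤ (((⊤ : Subgroup (↥K ⧸ M.subgroupOf K)).lowerCentralSeries (i + 1)).comap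
            (QuotientGroup.mk' (M.subgroupOf K))).map K.subtype := by
          rw [hY]
          apply sup_le
          · rw [Subgroup.commutator_le]
            intro g₁ hg₁ g₂ hg₂
            rw [Subgroup.mem_map]
            refine ⟨⁅(⟨g₁, hg₁⟩ : K), (⟨g₂, hXH hg₂⟩ : K)⁆, ?_, ?_⟩
            · rw [Subgroup.mem_comap, map_commutatorElement, Subgroup.lowerCentralSeries_succ,
                Subgroup.commutator_comm]
              exact Subgroup.commutator_mem_commutator (Subgroup.mem_top _)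
                (hXi g₂ hg₂ (hXH hg₂))
            · rw [map_commutatorElement]
              rfl
          · intro m hm
            rw [Subgroup.mem_map]
            refine ⟨⟨m, hH₁K.le (hMH₁ hm)⟩, ?_, rfl⟩
            rw [Subgroup.mem_comap]
            have h1 : (QuotientGroup.mk' (M.subgroupOf K)) ⟨m, hH₁K.le (hMH₁ hm)⟩ = 1 := by
              rw [QuotientGroup.mk'_apply, QuotientGroup.eq_one_iff]
              exact Subgroup.mem_subgroupOf.mpr hm
            rw [h1]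
            exact Subgroup.one_mem _
        obtain ⟨z, hz, hzy⟩ := Subgroup.mem_map.mp (hZ hy)
        have h2 : z = ⟨y, hyH⟩ := Subtype.ext hzy
        rw [← h2]
        exact hz
      · have hXE : X ⊔ E ≤ K := sup_le hXH hEK
        have hnum' := hnum X hXn hMX hXH₁
        have hidx : (K : Subgroup L).index = K.index := rfl
        refine coh_frob_step K hC hsolv τ hτ hτ1 X Y K (X ⊔ E) hYX
          (lt_of_le_of_lt hXH₁ hH₁K) (hYX.trans le_sup_left) hXE le_rfl ?_ hXcoh hnum'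
        intro x hx y hy
        obtain ⟨x₁, hx₁, e₁, he₁, rfl⟩ := Subgroup.mem_sup_of_normal_right.mp hx
        have h1 : ⁅x₁, y⁆ ∈ ⁅X, K⁆ := Subgroup.commutator_mem_commutator hx₁ hy
        rw [Subgroup.commutator_comm, commutatorElement_def] at h1
        have h2 : x₁ * y * x₁⁻¹ * y⁻¹ ∈ Y := Subgroup.mem_sup_left h1
        have h3 : e₁ * y * e₁⁻¹ * y⁻¹ ∈ Y := Subgroup.mem_sup_right (hEc e₁ he₁ y hy)
        have h4 : x₁ * e₁ * y * (x₁ * e₁)⁻¹ * y⁻¹
            = x₁ * (e₁ * y * e₁⁻¹ * y⁻¹) * x₁⁻¹ * (x₁ * y * x₁⁻¹ * y⁻¹) := by group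
        rw [h4]
        exact Y.mul_mem (hYn.conj_mem _ h3 x₁) h2
  exact key n 0 (by omega) H₁ inferInstance hMH₁ le_rfl
    (fun x hx hxH => by rw [Subgroup.lowerCentralSeries_zero]; exact Subgroup.mem_top _) hcoh

end Sib8

end Cfsg.Agent.Helper25
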