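import Mathlib
import Cfsg.Agent.Helper25.Sib7
import Cfsg.Agent.Helper25.Coh6

/-!
# Group theory for Frobenius kernels (helper25)

* `frob_relIndex_dvd`: `[L : K]` divides `[Y : X] - 1` for normal subgroups `X ≤ Y ≤ K` of `L`.
* `frob_num_one`, `frob_num_two`: the numerical inequalities of Peterfalvi (6.4).
* `commute_of_coprime_of_nilpotent`: elements of coprime orders commute in a nilpotent group.
* `frob_sup_commutator_ne`: `N K' ≠ K` for a proper normal subgroup `N` of the solvable `K`.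
-/

set_option autoImplicit false
set_option linter.style.haveILetI false
set_option linter.unusedVariables false
set_option linter.unusedSectionVars false
set_option maxHeartbeats 1000000

namespace Cfsg.Agent.Helper25

open Cfsg
open scoped commutatorElement

section Sib9

variable {L : Type*} [Group L] [Fintype L]

/-- For a Frobenius-type normal subgroup `K` of `L` and normal subgroups `X ≤ Y ≤ K` of `L`,
the index `[L : K]` divides `[Y : X] - 1`. -/
theorem frob_relIndex_dvd (K : Subgroup L) [hK : K.Normal]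
    (hC : ∀ n ∈ K, n ≠ 1 → Subgroup.centralizer ({n} : Set L) ≤ K)
    (X Y : Subgroup L) [hXn : X.Normal] [hYn : Y.Normal] (hXY : X ≤ Y) (hYK : Y ≤ K) :
    K.index ∣ X.relIndex Y - 1 := by
  classical
  set π := QuotientGroup.mk' X with hπ
  set Nb : Subgroup (L ⧸ X) := Y.map π with hNb
  haveI hNbn : Nb.Normal := Subgroup.Normal.map hYn π (QuotientGroup.mk'_surjective X)
  letI act : MulAction L Nb :=
    { smul := fun x q => ⟨π x * q.1 * (π x)⁻¹, hNbn.conj_mem q.1 q.2 (π x)⟩
      one_smul := fun q => Subtype.ext (by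
        show π 1 * q.1 * (π 1)⁻¹ = q.1
        simp)
      mul_smul := fun x y q => Subtype.ext (by
        show π (x * y) * q.1 * (π (x * y))⁻¹ = π x * (π y * q.1 * (π y)⁻¹) * (π x)⁻¹
        rw [map_mul]; group) }
  have hsmul : ∀ (x : L) (q : Nb), ((x • q : Nb) : L ⧸ X) = π x * q.1 * (π x)⁻¹ :=
    fun x q => rfl
  have hstab1 : MulAction.stabilizer L (1 : Nb) = ⊤ := by
    ext x
    simp [MulAction.mem_stabilizer_iff, Subtype.ext_iff, hsmul]
  have hstab : ∀ q : Nb, q ≠ 1 → MulAction.stabilizer L q ≤ K := by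
    intro q hq x hx
    obtain ⟨n, hn, hnq⟩ := Subgroup.mem_map.mp q.2
    have hnH : n ∉ X := by
      intro h
      apply hq
      apply Subtype.ext
      rw [← hnq]
      exact (QuotientGroup.eq_one_iff n).mpr h
    rw [MulAction.mem_stabilizer_iff, Subtype.ext_iff, hsmul, ← hnq] at hx
    have key : π x * π n * (π x)⁻¹ = π n ↔ x * n * x⁻¹ * n⁻¹ ∈ X := by
      rw [← (QuotientGroup.eq_one_iff (N := X) (x * n * x⁻¹ * n⁻¹))]
      show _ ↔ π (x * n * x⁻¹ * n⁻¹) = 1
      rw [map_mul, map_mul, map_mul, map_inv, map_inv, mul_inv_eq_one]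
    exact frob_commutator_fixed K hC X (hXY.trans hYK) n (hYK hn) hnH x (key.mp hx)
  have hcard := Nat.card_congr (MulAction.selfEquivSigmaOrbitsQuotientStabilizer L Nb)
  haveI : Fintype (Quotient (MulAction.orbitRel L Nb)) := Fintype.ofFinite _
  rw [Nat.card_sigma] at hcard
  set ω₀ : Quotient (MulAction.orbitRel L Nb) := Quotient.mk'' (1 : Nb) with hω₀
  have hout0 : ω₀.out = 1 := by
    have h1 : ω₀.out ∈ MulAction.orbit L (1 : Nb) :=
      Quotient.mk_out (s := MulAction.orbitRel L Nb) (1 : Nb)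
    obtain ⟨x, hx⟩ := h1
    rw [← hx]
    apply Subtype.ext
    show π x * ((1 : Nb) : L ⧸ X) * (π x)⁻¹ = _
    simp
  have hout : ∀ ω : Quotient (MulAction.orbitRel L Nb), ω ≠ ω₀ → ω.out ≠ 1 := by
    intro ω hω h
    apply hω
    rw [← Quotient.out_eq ω, h]
  have hterm0 : Nat.card (L ⧸ MulAction.stabilizer L ω₀.out) = 1 := by
    rw [hout0, hstab1]
    exact Subgroup.index_top
  have hterm : ∀ ω : Quotient (MulAction.orbitRel L Nb), ω ≠ ω₀ →
      K.index ∣ Nat.card (L ⧸ MulAction.stabilizer L ω.out) := by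
    intro ω hω
    exact Subgroup.index_dvd_of_le (hstab _ (hout ω hω))
  have hNbcard : Nat.card Nb = X.relIndex Y := by
    have h1 := Subgroup.relIndex_comap (H := (⊥ : Subgroup (L ⧸ X))) π Y
    rw [Subgroup.relIndex_bot_left, MonoidHom.comap_bot, QuotientGroup.ker_mk'] at h1
    exact h1.symm
  rw [hNbcard, ← Finset.add_sum_erase Finset.univ _ (Finset.mem_univ ω₀), hterm0] at hcard
  rw [hcard, Nat.add_sub_cancel_left]
  exact Finset.dvd_sum (fun ω hω => hterm ω (Finset.ne_of_mem_erase hω))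

theorem frob_num_one (e w : ℕ) (hw : 4 * e ^ 2 + 2 ≤ w) : 4 * e ^ 2 * w < (w - 1) ^ 2 := by
  obtain ⟨v, rfl⟩ : ∃ v, w = v + 1 := ⟨w - 1, by omega⟩
  rw [Nat.add_sub_cancel]
  nlinarith

theorem frob_num_two (e w z : ℕ) (he : 1 ≤ e) (hw : e + 1 ≤ w) (hz : e + 1 ≤ z) :
    4 * e ^ 2 * w < (w * z - 1) ^ 2 := by
  have h1 : e * (w + 1) ≤ w * z - 1 := by
    have h2 : w * (e + 1) ≤ w * z := Nat.mul_le_mul_left w hz
    have h3 : e * (w + 1) + 1 ≤ w * (e + 1) := by nlinarith
    omega
  have h4 : 4 * e ^ 2 * w < (e * (w + 1)) ^ 2 := by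
    have h5 : (e * (w + 1)) ^ 2 = e ^ 2 * (w + 1) ^ 2 := by ring
    rw [h5]
    have h6 : 4 * w < (w + 1) ^ 2 := by nlinarith
    have h7 : 0 < e ^ 2 := by positivity
    nlinarith
  exact lt_of_lt_of_le h4 (Nat.pow_le_pow_left h1 2)

theorem frob_ge_of_dvd (e w : ℕ) (hw0 : w ≠ 0) (hw1 : w ≠ 1) (h : e ∣ w - 1) : e + 1 ≤ w := by
  have h1 : e ≤ w - 1 := Nat.le_of_dvd (by omega) h
  omega

end Sib9

/-- Elements of coprime orders commute in a finite nilpotent group. -/
theorem commute_of_coprime_of_nilpotent (K : Type*) [Group K] [hn : Group.IsNilpotent K] :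
    Finite K → ∀ a k : K, Nat.Coprime (orderOf a) (orderOf k) → a * k = k * a := by
  refine Group.nilpotent_center_quotient_ind
    (P := fun G _ _ => Finite G → ∀ a k : G, Nat.Coprime (orderOf a) (orderOf k) →
      a * k = k * a) K ?_ ?_
  · intro G _ _ _ a k _
    exact Subsingleton.elim _ _
  · intro G _ _ ih hfin a k hcop
    have h1 := ih inferInstance (QuotientGroup.mk' (Subgroup.center G) a)
      (QuotientGroup.mk' (Subgroup.center G) k)
      (Nat.Coprime.coprime_dvd_left (orderOf_map_dvd _ a)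
        (Nat.Coprime.coprime_dvd_right (orderOf_map_dvd _ k) hcop))
    have hz : a * k * a⁻¹ * k⁻¹ ∈ Subgroup.center G := by
      rw [← QuotientGroup.eq_one_iff, ← QuotientGroup.mk'_apply, map_mul, map_mul, map_mul,
        map_inv, map_inv, h1]
      group
    have hzc : ∀ g : G, g * (a * k * a⁻¹ * k⁻¹) = (a * k * a⁻¹ * k⁻¹) * g :=
      fun g => Subgroup.mem_center_iff.mp hz g
    have e1 : a * k * a⁻¹ = (a * k * a⁻¹ * k⁻¹) * k := by group
    have hpow1 : (a * k * a⁻¹ * k⁻¹) ^ orderOf k = 1 := by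
      have h2 : (a * k * a⁻¹) ^ orderOf k = 1 := by
        rw [conj_pow, pow_orderOf_eq_one]
        group
      rw [e1, Commute.mul_pow (hzc k).symm, pow_orderOf_eq_one, mul_one] at h2
      exact h2
    have e2 : k * a⁻¹ * k⁻¹ = a⁻¹ * (a * k * a⁻¹ * k⁻¹) := by group
    have hpow2 : (a * k * a⁻¹ * k⁻¹) ^ orderOf a = 1 := by
      have h2 : (k * a⁻¹ * k⁻¹) ^ orderOf a = 1 := by
        rw [conj_pow, inv_pow, pow_orderOf_eq_one]
        group
      rw [e2, Commute.mul_pow (hzc a⁻¹), inv_pow, pow_orderOf_eq_one, inv_one, one_mul] at h2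
      exact h2
    have h3 : orderOf (a * k * a⁻¹ * k⁻¹) ∣ 1 := by
      have := Nat.dvd_gcd (orderOf_dvd_of_pow_eq_one hpow2) (orderOf_dvd_of_pow_eq_one hpow1)
      rwa [Nat.Coprime.gcd_eq_one hcop] at this
    have h4 : a * k * a⁻¹ * k⁻¹ = 1 := orderOf_eq_one_iff.mp (Nat.dvd_one.mp h3)
    calc a * k = (a * k * a⁻¹ * k⁻¹) * k * a := by group
      _ = k * a := by rw [h4, one_mul]

/-- In a finite nilpotent group, a Sylow `p`-subgroup has a characteristic complement, which
centralises it. -/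
theorem exists_char_complement_of_nilpotent (P : Type*) [Group P] [Finite P]
    [hn : Group.IsNilpotent P] (p : ℕ) [Fact p.Prime] (A : Sylow p P) :
    ∃ B : Subgroup P, B.Characteristic ∧ (A : Subgroup P) ⊓ B = ⊥ ∧ (A : Subgroup P) ⊔ B = ⊤ ∧
      Nat.card (A : Subgroup P) * Nat.card B = Nat.card P ∧
      ∀ a ∈ (A : Subgroup P), ∀ b ∈ B, a * b = b * a := by
  have hp : p.Prime := Fact.out
  haveI hAn : (A : Subgroup P).Normal := inferInstance
  obtain ⟨B, hB⟩ := Subgroup.exists_right_complement'_of_coprime (N := (A : Subgroup P))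
    (Sylow.card_coprime_index A)
  have hcard : Nat.card (A : Subgroup P) * Nat.card B = Nat.card P := hB.card_mul_card
  have hdisj : (A : Subgroup P) ⊓ B = ⊥ := hB.disjoint.eq_bot
  have hsup : (A : Subgroup P) ⊔ B = ⊤ := hB.sup_eq_top
  have hBp : ∀ b ∈ B, ¬ p ∣ orderOf b := by
    intro b hb hdvd
    have h1 : orderOf b ∣ Nat.card B := by
      have h := orderOf_dvd_natCard (⟨b, hb⟩ : B)
      rwa [Subgroup.orderOf_mk] at h
    have h2 : (A : Subgroup P).index = Nat.card B := hB.symm.index_eq_card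
    exact A.not_dvd_index (h2 ▸ hdvd.trans h1)
  have hApow : ∀ a ∈ (A : Subgroup P), ∃ j, orderOf a = p ^ j := by
    intro a ha
    obtain ⟨k, hk⟩ := A.isPGroup' ⟨a, ha⟩
    have h1 : a ^ p ^ k = 1 := congrArg Subtype.val hk
    obtain ⟨j, -, hj⟩ := (Nat.dvd_prime_pow hp).mp (orderOf_dvd_of_pow_eq_one h1)
    exact ⟨j, hj⟩
  have hcomm : ∀ a ∈ (A : Subgroup P), ∀ b ∈ B, a * b = b * a := by
    intro a ha b hb
    apply commute_of_coprime_of_nilpotent P inferInstance a b
    obtain ⟨k, hk⟩ := hApow a ha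
    rw [hk]
    exact Nat.Coprime.pow_left k ((Nat.Prime.coprime_iff_not_dvd hp).mpr (hBp b hb))
  have hBchar : ∀ k : P, ¬ p ∣ orderOf k → k ∈ B := by
    intro k hk
    have hk' : k ∈ (A : Subgroup P) ⊔ B := hsup ▸ Subgroup.mem_top k
    obtain ⟨a, ha, b, hb, rfl⟩ := Subgroup.mem_sup_of_normal_left.mp hk'
    have hab : Commute a b := hcomm a ha b hb
    have h1 : a ^ orderOf (a * b) * b ^ orderOf (a * b) = 1 := by
      rw [← hab.mul_pow, pow_orderOf_eq_one]
    have h2 : a ^ orderOf (a * b) ∈ (A : Subgroup P) ⊓ B := by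
      refine ⟨pow_mem ha _, ?_⟩
      have h3 : a ^ orderOf (a * b) = (b ^ orderOf (a * b))⁻¹ := eq_inv_of_mul_eq_one_left h1
      rw [h3]
      exact B.inv_mem (pow_mem hb _)
    rw [hdisj, Subgroup.mem_bot] at h2
    have h3 : orderOf a ∣ orderOf (a * b) := orderOf_dvd_of_pow_eq_one h2
    obtain ⟨j, hj⟩ := hApow a ha
    have hj0 : j = 0 := by
      by_contra h
      exact hk ((dvd_pow_self p h).trans (hj ▸ h3))
    rw [hj0, pow_zero, orderOf_eq_one_iff] at hj
    rw [hj, one_mul]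
    exact hb
  refine ⟨B, ?_, hdisj, hsup, hcard, hcomm⟩
  rw [Subgroup.characteristic_iff_comap_le]
  intro φ k hk
  apply hBchar
  have h1 := hBp (φ k) hk
  rwa [MulEquiv.orderOf_eq] at h1

section Sib9b

variable {L : Type*} [Group L] [Fintype L]

/-- A nilpotent normal subgroup of non-prime-power order is the product of two non-trivial normal
subgroups of `L` centralising each other, the first having a non-trivial centre. -/
theorem exists_frob_decomp (K : Subgroup L) [hK : K.Normal] (hnil : Group.IsNilpotent K)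
    (hK1 : K ≠ ⊥) (hnpp : ¬ ∃ p m : ℕ, p.Prime ∧ Nat.card K = p ^ m) :
    ∃ A B : Subgroup L, A.Normal ∧ B.Normal ∧ A ≤ K ∧ B ≤ K ∧ A ⊓ B = ⊥ ∧ A ⊔ B = K ∧
      A ≠ ⊥ ∧ B ≠ ⊥ ∧ (∀ a ∈ A, ∀ b ∈ B, a * b = b * a) ∧
      ∃ c ∈ A, c ≠ 1 ∧ ∀ a ∈ A, c * a = a * c := by
  classical
  haveI := hnil
  have hcard1 : Nat.card K ≠ 1 := fun h => hK1 (Subgroup.card_eq_one.mp h)
  obtain ⟨p, hp, hpdvd⟩ := Nat.exists_prime_and_dvd hcard1
  haveI : Fact p.Prime := ⟨hp⟩
  obtain ⟨P⟩ : Nonempty (Sylow p K) := inferInstance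
  haveI hPn : (P : Subgroup K).Normal := inferInstance
  haveI hPc : (P : Subgroup K).Characteristic := Sylow.characteristic_of_normal P hPn
  obtain ⟨B₀, hBchar, hdisj, hsup, hcard, hcomm⟩ := exists_char_complement_of_nilpotent K p P
  haveI := hBchar
  have hPne : (P : Subgroup K) ≠ ⊥ := P.ne_bot_of_dvd_card hpdvd
  refine ⟨(P : Subgroup K).map K.subtype, B₀.map K.subtype,
    ConjAct.normal_of_characteristic_of_normal, ConjAct.normal_of_characteristic_of_normal,
    Subgroup.map_subtype_le _, Subgroup.map_subtype_le _, ?_, ?_, ?_, ?_, ?_, ?_⟩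
  · rw [← Subgroup.map_inf _ _ K.subtype K.subtype_injective, hdisj, Subgroup.map_bot]
  · rw [← Subgroup.map_sup, hsup, ← MonoidHom.range_eq_map, Subgroup.range_subtype]
  · intro h
    exact hPne ((Subgroup.map_eq_bot_iff_of_injective _ K.subtype_injective).mp h)
  · intro h
    have h1 : B₀ = ⊥ := (Subgroup.map_eq_bot_iff_of_injective _ K.subtype_injective).mp h
    apply hnpp
    obtain ⟨n, hn⟩ := IsPGroup.iff_card.mp P.isPGroup'
    refine ⟨p, n, hp, ?_⟩
    rw [← hcard, h1, Subgroup.card_bot, mul_one, hn]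
  · intro a ha b hb
    obtain ⟨a', ha', rfl⟩ := Subgroup.mem_map.mp ha
    obtain ⟨b', hb', rfl⟩ := Subgroup.mem_map.mp hb
    have h1 := hcomm a' ha' b' hb'
    have h2 := congrArg Subtype.val h1
    exact h2
  · haveI : Nontrivial (P : Subgroup K) := (Subgroup.nontrivial_iff_ne_bot _).mpr hPne
    haveI := IsPGroup.center_nontrivial P.isPGroup'
    obtain ⟨c, hc1⟩ := exists_ne (1 : Subgroup.center (P : Subgroup K))
    refine ⟨(((c : (P : Subgroup K)) : K) : L), Subgroup.mem_map.mpr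
      ⟨((c : (P : Subgroup K)) : K), (c : (P : Subgroup K)).2, rfl⟩, ?_, ?_⟩
    · intro h
      apply hc1
      apply Subtype.ext
      apply Subtype.ext
      apply Subtype.ext
      exact h
    · intro a ha
      obtain ⟨a', ha', rfl⟩ := Subgroup.mem_map.mp ha
      have h1 := Subgroup.mem_center_iff.mp c.2 ⟨a', ha'⟩
      have h2 := congrArg (fun z : (P : Subgroup K) => (((z : K)) : L)) h1
      exact h2.symm

theorem frob_sup_commutator_ne (K : Subgroup L) [hK : K.Normal] (hsolv : Group.IsSolvable K)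
    (N : Subgroup L) [hN : N.Normal] (hNK : N ≤ K) (hne : N ≠ K) : N ⊔ ⁅K, K⁆ ≠ K := by
  intro h
  have hcommK : (⁅K, K⁆ : Subgroup L).subgroupOf K = commutator ↥K := by
    rw [← Subgroup.map_subtype_commutator, Subgroup.subgroupOf,
      Subgroup.comap_map_eq_self_of_injective K.subtype_injective]
  have h1 := sup_commutator_ne_top hsolv (N.subgroupOf K) (by
    rw [Ne, Subgroup.subgroupOf_eq_top]
    intro h2
    exact hne (le_antisymm hNK h2))
  apply h1
  rw [← hcommK, ← Subgroup.subgroupOf_sup hNK (Subgroup.commutator_le_left K K), h,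
    Subgroup.subgroupOf_self]

end Sib9b

end Cfsg.Agent.Helper25
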