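import Mathlib
import Cfsg.Agent.Helper25.Sib8
import Cfsg.Agent.Helper25.Sib9

/-!
# Coherence for Frobenius groups with nilpotent kernel (helper25)

* `frob_commutator_lt`: `⁅K, K⁆ < K` for a non-trivial solvable normal subgroup.
* `frob_relIndex_ge`: for normal subgroups `X < Y ≤ K` of `L` with `K` of Frobenius type,
  `[Y : X] ≥ [L : K] + 1`.
* `coh_frob_npp`: coherence when the nilpotent kernel `K` is not of prime power order.
* `coh_frob_pp`: coherence when `K` is a non-abelian `p`-group with `[K : K'] ≥ 4 e ^ 2 + 2`.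
* `coh_frob_nilpotent`: the resulting trichotomy.
-/

set_option autoImplicit false
set_option linter.style.haveILetI false
set_option linter.unusedVariables false
set_option linter.unusedSectionVars false
set_option maxHeartbeats 1000000

namespace Cfsg.Agent.Helper25

open Cfsg
open scoped commutatorElement

section Sib10

variable {L : Type*} [Group L] [Fintype L] {G : Type*} [Group G] [Fintype G]

theorem frob_commutator_lt (K : Subgroup L) [hK : K.Normal] (hsolv : Group.IsSolvable K)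
    (hK1 : K ≠ ⊥) : (⁅K, K⁆ : Subgroup L) < K := by
  refine lt_of_le_of_ne (Subgroup.commutator_le_left K K) ?_
  have h := frob_sup_commutator_ne K hsolv ⊥ bot_le (Ne.symm hK1)
  rwa [bot_sup_eq] at h

theorem frob_relIndex_ge (K : Subgroup L) [hK : K.Normal]
    (hC : ∀ n ∈ K, n ≠ 1 → Subgroup.centralizer ({n} : Set L) ≤ K)
    (X Y : Subgroup L) [hXn : X.Normal] [hYn : Y.Normal] (hXY : X ≤ Y) (hYK : Y ≤ K)
    (hne : ¬ Y ≤ X) : K.index + 1 ≤ X.relIndex Y := by
  apply frob_ge_of_dvd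
  · show (X.subgroupOf Y).index ≠ 0
    exact Subgroup.index_ne_zero_of_finite
  · intro h
    exact hne (Subgroup.relIndex_eq_one.mp h)
  · exact frob_relIndex_dvd K hC X Y hXY hYK

/-- Coherence for a Frobenius-type nilpotent normal subgroup whose order is not a prime power. -/
theorem coh_frob_npp (K : Subgroup L) [hK : K.Normal]
    (hC : ∀ n ∈ K, n ≠ 1 → Subgroup.centralizer ({n} : Set L) ≤ K)
    (hK1 : K ≠ ⊥) (hnil : Group.IsNilpotent K) (τ : (L → ℂ) → (G → ℂ))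
    (hτ : IsLinearIsometryOn (zspanOn (inducedIrrAbove K ⊥) ({1}ᶜ : Set L)) τ)
    (hτ1 : ∀ α ∈ zspanOn (inducedIrrAbove K ⊥) ({1}ᶜ : Set L), τ α 1 = 0)
    (hnpp : ¬ ∃ p m : ℕ, p.Prime ∧ Nat.card K = p ^ m) :
    IsCoherent (inducedIrrAbove K ⊥) {1}ᶜ τ := by
  classical
  haveI := hnil
  have hsolv : Group.IsSolvable K := inferInstance
  obtain ⟨A, B, hAn, hBn, hAK, hBK, hAB, hsup, hA1, hB1, hcomm, c, hcA, hc1, hcc⟩ :=
    exists_frob_decomp K hnil hK1 hnpp
  haveI := hAn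
  haveI := hBn
  have he : 1 ≤ K.index := Nat.one_le_iff_ne_zero.mpr Subgroup.index_ne_zero_of_finite
  have hAneK : A ≠ K := by
    intro h
    apply hB1
    rw [← hAB, h]
    exact (inf_eq_right.mpr hBK).symm
  have hBneK : B ≠ K := by
    intro h
    apply hA1
    rw [← hAB, h]
    exact (inf_eq_left.mpr hAK).symm
  have hAK' : A ⊔ ⁅K, K⁆ ≠ K := frob_sup_commutator_ne K hsolv A hAK hAneK
  have hBK' : B ⊔ ⁅K, K⁆ ≠ K := frob_sup_commutator_ne K hsolv B hBK hBneK
  have hK'K : (⁅K, K⁆ : Subgroup L) ≤ K := Subgroup.commutator_le_left K K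
  have hAnle : ¬ A ≤ ⁅K, K⁆ := by
    intro h
    apply hBK'
    apply le_antisymm (sup_le hBK hK'K)
    calc K = A ⊔ B := hsup.symm
      _ ≤ B ⊔ ⁅K, K⁆ := sup_le (h.trans le_sup_right) le_sup_left
  have hBnle : ¬ B ≤ ⁅K, K⁆ := by
    intro h
    apply hAK'
    apply le_antisymm (sup_le hAK hK'K)
    calc K = A ⊔ B := hsup.symm
      _ ≤ A ⊔ ⁅K, K⁆ := sup_le le_sup_left (h.trans le_sup_right)
  -- the base
  have hbig : K.index + 1 < (⁅K, K⁆ : Subgroup L).relIndex K := by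
    have h1 : K.index + 1 ≤ (⁅K, K⁆ : Subgroup L).relIndex (A ⊔ ⁅K, K⁆) :=
      frob_relIndex_ge K hC _ _ le_sup_right (sup_le hAK hK'K)
        (fun h => hAnle (le_sup_left.trans h))
    have h2 : K.index + 1 ≤ (A ⊔ ⁅K, K⁆).relIndex K :=
      frob_relIndex_ge K hC _ _ (sup_le hAK hK'K) le_rfl
        (fun h => hAK' (le_antisymm (sup_le hAK hK'K) h))
    have h3 := Subgroup.relIndex_mul_relIndex (⁅K, K⁆ : Subgroup L) (A ⊔ ⁅K, K⁆) K le_sup_right
      (sup_le hAK hK'K)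
    rw [← h3]
    nlinarith
  have hbase : IsCoherent (inducedIrrAbove K ⁅K, K⁆) {1}ᶜ τ :=
    coh_frob_base K hC τ hτ hτ1 ⁅K, K⁆ le_rfl hbig
  have hK'lt : (⁅K, K⁆ : Subgroup L) < K := frob_commutator_lt K hsolv hK1
  -- phase 1
  have hB'K' : (⁅B, B⁆ : Subgroup L) ≤ ⁅K, K⁆ := Subgroup.commutator_mono hBK hBK
  have hph1 : IsCoherent (inducedIrrAbove K ⁅B, B⁆) {1}ᶜ τ := by
    refine coh_frob_chain K hC hsolv τ hτ hτ1 ⁅B, B⁆ ⁅K, K⁆ B hB'K' hK'lt hBK ?_ inferInstance
      hbase ?_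
    · intro x hx y hy
      have hy' : y ∈ A ⊔ B := by
        rw [hsup]
        exact hy
      obtain ⟨a, ha, b, hb, rfl⟩ := Subgroup.mem_sup_of_normal_right.mp hy'
      have hxa : x * a = a * x := (hcomm a ha x hx).symm
      have h1 : x * (a * b) * x⁻¹ * (a * b)⁻¹ = a * (x * b * x⁻¹ * b⁻¹) * a⁻¹ := by
        calc x * (a * b) * x⁻¹ * (a * b)⁻¹ = (x * a) * b * x⁻¹ * b⁻¹ * a⁻¹ := by group
          _ = (a * x) * b * x⁻¹ * b⁻¹ * a⁻¹ := by rw [hxa]
          _ = a * (x * b * x⁻¹ * b⁻¹) * a⁻¹ := by group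
      rw [h1]
      have h2 : x * b * x⁻¹ * b⁻¹ ∈ (⁅B, B⁆ : Subgroup L) := by
        have h := Subgroup.commutator_mem_commutator hx hb
        rwa [commutatorElement_def] at h
      exact (inferInstance : (⁅B, B⁆ : Subgroup L).Normal).conj_mem _ h2 a
    · intro X hXn hMX hXK'
      haveI := hXn
      have hXK : X ≤ K := hXK'.trans hK'K
      have hw : K.index + 1 ≤ (X ⊔ B).relIndex K :=
        frob_relIndex_ge K hC _ _ (sup_le hXK hBK) le_rfl
          (fun h => hBK' (le_antisymm (sup_le hBK hK'K)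
            (h.trans (sup_le (hXK'.trans le_sup_right) le_sup_left))))
      have hz : K.index + 1 ≤ X.relIndex (X ⊔ B) :=
        frob_relIndex_ge K hC _ _ le_sup_left (sup_le hXK hBK)
          (fun h => hBnle ((le_sup_right.trans h).trans hXK'))
      have h3 := Subgroup.relIndex_mul_relIndex X (X ⊔ B) K le_sup_left (sup_le hXK hBK)
      rw [← h3, mul_comm (X.relIndex (X ⊔ B))]
      exact frob_num_two _ _ _ he hw hz
  -- phase 2
  set E : Subgroup L := Subgroup.centralizer (K : Set L) ⊓ A with hE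
  haveI hEn : E.Normal := by
    rw [hE]
    infer_instance
  have hcE : c ∈ E := by
    refine ⟨Subgroup.mem_centralizer_iff.mpr ?_, hcA⟩
    intro y hy
    have hy' : y ∈ A ⊔ B := by
      rw [hsup]
      exact hy
    obtain ⟨a, ha, b, hb, rfl⟩ := Subgroup.mem_sup_of_normal_right.mp hy'
    have h1 : c * a = a * c := hcc a ha
    have h2 : c * b = b * c := hcomm c hcA b hb
    calc a * b * c = a * (b * c) := by group
      _ = a * (c * b) := by rw [h2]
      _ = (a * c) * b := by group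
      _ = (c * a) * b := by rw [h1]
      _ = c * (a * b) := by group
  have hEA : E ≤ A := inf_le_right
  have hB'B : (⁅B, B⁆ : Subgroup L) ≤ B := Subgroup.commutator_le_left B B
  have hB'lt : (⁅B, B⁆ : Subgroup L) < K := lt_of_le_of_lt hB'B (lt_of_le_of_ne hBK hBneK)
  refine coh_frob_chain K hC hsolv τ hτ hτ1 ⊥ ⁅B, B⁆ E bot_le hB'lt (hEA.trans hAK) ?_
    inferInstance hph1 ?_
  · intro x hx y hy
    have h1 : y * x = x * y := (Subgroup.mem_centralizer_iff.mp hx.1) y hy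
    rw [Subgroup.mem_bot, ← h1]
    group
  · intro X hXn hMX hXB'
    haveI := hXn
    have hXK : X ≤ K := hXB'.trans hB'lt.le
    have hEK : E ≤ K := hEA.trans hAK
    have hw : K.index + 1 ≤ (X ⊔ E).relIndex K :=
      frob_relIndex_ge K hC _ _ (sup_le hXK hEK) le_rfl
        (fun h => hAK' (le_antisymm (sup_le hAK hK'K)
          (h.trans (sup_le ((hXB'.trans hB'K').trans le_sup_right) (hEA.trans le_sup_left)))))
    have hz : K.index + 1 ≤ X.relIndex (X ⊔ E) :=
      frob_relIndex_ge K hC _ _ le_sup_left (sup_le hXK hEK) (fun h => by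
        have h1 : c ∈ A ⊓ B := ⟨hcA, hB'B (hXB' (h (Subgroup.mem_sup_right hcE)))⟩
        rw [hAB, Subgroup.mem_bot] at h1
        exact hc1 h1)
    have h3 := Subgroup.relIndex_mul_relIndex X (X ⊔ E) K le_sup_left (sup_le hXK hEK)
    rw [← h3, mul_comm (X.relIndex (X ⊔ E))]
    exact frob_num_two _ _ _ he hw hz

/-- Coherence for a Frobenius-type nilpotent normal subgroup with large abelianisation. -/
theorem coh_frob_pp (K : Subgroup L) [hK : K.Normal]
    (hC : ∀ n ∈ K, n ≠ 1 → Subgroup.centralizer ({n} : Set L) ≤ K)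
    (hK1 : K ≠ ⊥) (hnil : Group.IsNilpotent K) (τ : (L → ℂ) → (G → ℂ))
    (hτ : IsLinearIsometryOn (zspanOn (inducedIrrAbove K ⊥) ({1}ᶜ : Set L)) τ)
    (hτ1 : ∀ α ∈ zspanOn (inducedIrrAbove K ⊥) ({1}ᶜ : Set L), τ α 1 = 0)
    (hbig : 4 * K.index ^ 2 + 2 ≤ (⁅K, K⁆ : Subgroup L).relIndex K) :
    IsCoherent (inducedIrrAbove K ⊥) {1}ᶜ τ := by
  classical
  haveI := hnil
  have hsolv : Group.IsSolvable K := inferInstance
  have he : 1 ≤ K.index := Nat.one_le_iff_ne_zero.mpr Subgroup.index_ne_zero_of_finite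
  have hK'K : (⁅K, K⁆ : Subgroup L) ≤ K := Subgroup.commutator_le_left K K
  have hbig' : K.index + 1 < (⁅K, K⁆ : Subgroup L).relIndex K := by nlinarith
  have hbase : IsCoherent (inducedIrrAbove K ⁅K, K⁆) {1}ᶜ τ :=
    coh_frob_base K hC τ hτ hτ1 ⁅K, K⁆ le_rfl hbig'
  have hK'lt : (⁅K, K⁆ : Subgroup L) < K := frob_commutator_lt K hsolv hK1
  refine coh_frob_chain K hC hsolv τ hτ hτ1 ⊥ ⁅K, K⁆ ⊥ bot_le hK'lt bot_le ?_ inferInstance
    hbase ?_
  · intro x hx y hy
    rw [Subgroup.mem_bot] at hx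
    rw [Subgroup.mem_bot, hx]
    group
  · intro X hXn hMX hXK'
    haveI := hXn
    rw [sup_bot_eq]
    apply frob_num_one
    have h1 : (⁅K, K⁆ : Subgroup L).relIndex K ∣ X.relIndex K :=
      Subgroup.relIndex_dvd_of_le_left K hXK'
    have h2 : X.relIndex K ≠ 0 := by
      show (X.subgroupOf K).index ≠ 0
      exact Subgroup.index_ne_zero_of_finite
    exact hbig.trans (Nat.le_of_dvd (Nat.pos_of_ne_zero h2) h1)

/-- Coherence for Frobenius groups with nilpotent kernel `K`: the set of irreducible characters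
not trivial on `K` is coherent, unless `|K| = e + 1` (`K` abelian, and there is just one such
character) or `K` is a non-abelian `p`-group with `[K : K'] ≤ 4 e ^ 2 + 1`. -/
theorem coh_frob_nilpotent (K : Subgroup L) [hK : K.Normal]
    (hC : ∀ n ∈ K, n ≠ 1 → Subgroup.centralizer ({n} : Set L) ≤ K)
    (hK1 : K ≠ ⊥) (hnil : Group.IsNilpotent K) (τ : (L → ℂ) → (G → ℂ))
    (hτ : IsLinearIsometryOn (zspanOn (inducedIrrAbove K ⊥) ({1}ᶜ : Set L)) τ)
    (hτ1 : ∀ α ∈ zspanOn (inducedIrrAbove K ⊥) ({1}ᶜ : Set L), τ α 1 = 0) :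
    IsCoherent (inducedIrrAbove K ⊥) {1}ᶜ τ ∨
    (Nat.card {χ : L → ℂ // IsIrrCharacter L χ ∧ ∃ x ∈ K, χ x ≠ χ 1} = 1 ∧
      Nat.card K = K.index + 1 ∧ ∀ a b : K, a * b = b * a) ∨
    (∃ p m : ℕ, p.Prime ∧ Nat.card K = p ^ m ∧ (¬ ∀ a b : K, a * b = b * a) ∧
      (⁅K, K⁆ : Subgroup L).relIndex K ≤ 4 * K.index ^ 2 + 1) := by
  classical
  by_cases hpp : ∃ p m : ℕ, p.Prime ∧ Nat.card K = p ^ m
  · by_cases hab : ∀ a b : K, a * b = b * a
    · have hset := frob_inducedIrrAbove_bot_eq K hC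
      rw [hset] at hτ hτ1 ⊢
      rcases coh_frob_abelian K hC hK1 hab τ hτ hτ1 with h | h
      · exact Or.inr (Or.inl ⟨h.1, h.2, hab⟩)
      · exact Or.inl h
    · by_cases hbig : 4 * K.index ^ 2 + 2 ≤ (⁅K, K⁆ : Subgroup L).relIndex K
      · exact Or.inl (coh_frob_pp K hC hK1 hnil τ hτ hτ1 hbig)
      · obtain ⟨p, m, hp, hm⟩ := hpp
        exact Or.inr (Or.inr ⟨p, m, hp, hm, hab, by omega⟩)
  · exact Or.inl (coh_frob_npp K hC hK1 hnil τ hτ hτ1 hpp)

end Sib10

end Cfsg.Agent.Helper25
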