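import Mathlib
import Cfsg.Agent.Helper25.Sib9
import Cfsg.Agent.S0033

/-!
# Frobenius kernels are nilpotent (helper25)

* `frob_kernel_nilpotent`: a proper non-trivial normal subgroup `K` of a finite group `L`
  containing the centralisers of its non-identity elements is nilpotent (by Thompson's theorem
  `Cfsg.Agent.S0033.result`, applied to conjugation by an element of prime order outside `K`).
-/

set_option autoImplicit false
set_option linter.style.haveILetI false
set_option linter.unusedVariables false
set_option linter.unusedSectionVars false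
set_option maxHeartbeats 1000000

namespace Cfsg.Agent.Helper25

open Cfsg

theorem frob_kernel_nilpotent {L : Type*} [Group L] [Fintype L] (K : Subgroup L) [hK : K.Normal]
    (hC : ∀ n ∈ K, n ≠ 1 → Subgroup.centralizer ({n} : Set L) ≤ K)
    (hK1 : K ≠ ⊥) (hKtop : K ≠ ⊤) : Group.IsNilpotent K := by
  classical
  have hidx1 : K.index ≠ 1 := fun h => hKtop (Subgroup.index_eq_one.mp h)
  obtain ⟨q, hq, hqdvd⟩ := Nat.exists_prime_and_dvd hidx1
  haveI : Fact q.Prime := ⟨hq⟩
  have hqL : q ∣ Nat.card L := hqdvd.trans (Subgroup.index_dvd_card K)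
  obtain ⟨x, hx⟩ := exists_prime_orderOf_dvd_card' q hqL
  have hxK : x ∉ K := by
    intro hxK
    have h1 : q ∣ Nat.card K := by
      have h := orderOf_dvd_natCard (⟨x, hxK⟩ : K)
      rwa [Subgroup.orderOf_mk, hx] at h
    have h2 : K.index ∣ (⊥ : Subgroup L).relIndex K - 1 := frob_relIndex_dvd K hC ⊥ K bot_le le_rfl
    rw [Subgroup.relIndex_bot_left] at h2
    have h3 : q ∣ Nat.card K - 1 := hqdvd.trans h2
    have h4 : 0 < Nat.card K := Nat.card_pos
    have h5 : q ∣ 1 := by
      have h6 : q ∣ Nat.card K - (Nat.card K - 1) := Nat.dvd_sub h1 h3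
      have h7 : Nat.card K - (Nat.card K - 1) = 1 := by omega
      rwa [h7] at h6
    exact hq.one_lt.ne' (Nat.dvd_one.mp h5)
  set φ : K ≃* K := MulAut.conjNormal x with hφ
  have hφapp : ∀ k : K, ((φ k : K) : L) = x * k * x⁻¹ := fun k => rfl
  have hfpf : MonoidHom.FixedPointFree (φ : K →* K) := by
    intro k hk
    by_contra hk1
    have h1 : ((φ k : K) : L) = (k : L) := congrArg Subtype.val hk
    rw [hφapp] at h1
    have h2 : x ∈ Subgroup.centralizer ({(k : L)} : Set L) := by
      rw [Subgroup.mem_centralizer_iff]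
      intro y hy
      rw [Set.mem_singleton_iff] at hy
      subst hy
      calc (k : L) * x = (x * k * x⁻¹) * x := by rw [h1]
        _ = x * k := by group
    exact hxK (hC k k.2 (fun h => hk1 (Subtype.ext h)) h2)
  have hpow : φ ^ q = 1 := by
    rw [hφ, ← map_pow, ← hx, pow_orderOf_eq_one, map_one]
  have hord : orderOf φ = q := by
    have h1 : orderOf φ ∣ q := orderOf_dvd_of_pow_eq_one hpow
    rcases (Nat.dvd_prime hq).mp h1 with h | h
    · exfalso
      rw [orderOf_eq_one_iff] at h
      apply hK1
      rw [Subgroup.eq_bot_iff_forall]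
      intro k hk
      have h2 := hfpf ⟨k, hk⟩ (by rw [h]; rfl)
      exact congrArg Subtype.val h2
    · exact h
  exact Cfsg.Agent.S0033.result φ hfpf q hq hord

end Cfsg.Agent.Helper25
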