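import Mathlib

/-!
# Two small lemmas for the coherence theorem for nilpotent TI-subgroups (helper25)

* `relIndex_commutator_subgroupOf`: the index of the derived subgroup of `K`, computed inside a
  subgroup `N ≥ K` or inside `K` itself.
* `two_pow_lt_of_le`: a power of two which is at most `4 e ^ 2 + 1`, `e ≠ 1` odd, is less than
  `4 e ^ 2`.
-/

set_option autoImplicit false
set_option linter.style.haveILetI false
set_option linter.unusedVariables false

namespace Cfsg.Agent.Helper25

theorem relIndex_commutator_subgroupOf {G : Type*} [Group G] (K N : Subgroup G) (hle : K ≤ N) :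
    (⁅K.subgroupOf N, K.subgroupOf N⁆ : Subgroup N).relIndex (K.subgroupOf N) =
      (⁅K, K⁆.subgroupOf K).index := by
  have h1 : (K.subgroupOf N).map N.subtype = K := Subgroup.map_subgroupOf_eq_of_le hle
  have h2 : (⁅K.subgroupOf N, K.subgroupOf N⁆ : Subgroup N).map N.subtype = ⁅K, K⁆ := by
    rw [Subgroup.map_commutator, h1]
  have h3 := Subgroup.relIndex_map_map_of_injective (f := N.subtype)
    (⁅K.subgroupOf N, K.subgroupOf N⁆ : Subgroup N) (K.subgroupOf N) N.subtype_injective
  rw [h2, h1] at h3
  exact h3.symm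

theorem two_pow_lt_of_le (e d j : ℕ) (hd : d = 2 ^ j) (he : Odd e) (he1 : e ≠ 1)
    (hle : d ≤ 4 * e ^ 2 + 1) : d < 4 * e ^ 2 := by
  by_contra hcon
  have hcases : d = 4 * e ^ 2 ∨ d = 4 * e ^ 2 + 1 := by omega
  rcases hcases with h | h
  · have hdvd : e ^ 2 ∣ 2 ^ j := by
      rw [← hd, h]
      exact Dvd.intro_left 4 rfl
    have hcop : Nat.Coprime (e ^ 2) (2 ^ j) :=
      Nat.Coprime.pow 2 j (Nat.coprime_two_left.mpr he).symm
    have h1 : e ^ 2 = 1 := Nat.Coprime.eq_one_of_dvd hcop hdvd
    have h2 : e = 1 := by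
      rcases Nat.pow_eq_one.mp h1 with h3 | h3
      · exact h3
      · omega
    exact he1 h2
  · rcases Nat.eq_zero_or_pos j with hj | hj
    · rw [hj, pow_zero] at hd
      have h1 : e ^ 2 = 0 := by omega
      have h2 : e = 0 := by
        rcases Nat.eq_zero_or_pos e with h3 | h3
        · exact h3
        · have := Nat.pow_pos (n := 2) h3
          omega
      rw [h2] at he
      exact absurd he (by decide)
    · obtain ⟨k, hk⟩ : 2 ∣ 2 ^ j := dvd_pow_self 2 hj.ne'
      omega

end Cfsg.Agent.Helper25
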