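import Mathlib
import Cfsg.Agent.Helper25.Sib1
import Cfsg.Agent.Helper25.Coh8
import Cfsg.Agent.Helper75.InnerLin
import Cfsg.Agent.Helper80.CharOrtho
import Cfsg.Agent.Helper3.IndFun

/-!
# Divisibility of multiplicities for a TI Sylow subgroup (helper25)

`ti_sylow_mult_dvd`: Let `P` be a TI Sylow `p`-subgroup of `G` with normaliser `N` of odd order,
and `Z ≤ Z(P)` normal in `N`.  Let `ψ` be an irreducible character of `G` orthogonal to the
functions induced from the integer combinations, vanishing at `1`, of the irreducible characters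
of `N` not trivial on `Z`.  If `θ` is such a character and `χ` is an irreducible character of `N`
of degree divisible by `[N : P]` with `q · χ(1) = θ(1)`, then `q` divides
`⟨Ind (q χ - θ), ψ⟩`.
-/

set_option autoImplicit false
set_option linter.style.haveILetI false
set_option linter.unusedVariables false
set_option linter.unusedSectionVars false
set_option maxHeartbeats 1000000

namespace Cfsg.Agent.Helper25

open Cfsg

theorem ti_sylow_mult_dvd {G : Type*} [Group G] [Fintype G] (p : ℕ) [Fact p.Prime]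
    (P : Sylow p G) (hTI : IsTISubset ((P : Subgroup G) : Set G))
    (N : Subgroup G) [Fintype N] (hN : N = Subgroup.normalizer ((P : Subgroup G) : Set G))
    (hodd : Odd (Nat.card N))
    (Z : Subgroup G) (hZP : Z ≤ P)
    (hZn : ∀ x ∈ N, ∀ z ∈ Z, x * z * x⁻¹ ∈ Z)
    (hZc : ∀ z ∈ Z, ∀ y ∈ (P : Subgroup G), z * y = y * z)
    (ψ : G → ℂ) (hψ : IsIrrCharacter G ψ)
    (θ : N → ℂ) (hθ : IsIrrCharacter N θ) (hθZ : ∃ z : N, (z : G) ∈ Z ∧ θ z ≠ θ 1)
    (horth : ∀ γ ∈ zspanOn {φ : N → ℂ | IsIrrCharacter N φ ∧ ∃ z : N, (z : G) ∈ Z ∧ φ z ≠ φ 1}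
      ({1}ᶜ : Set N), classInner (indFun N γ) ψ = 0)
    (χ : N → ℂ) (hχ : IsIrrCharacter N χ) (dθ dχ q : ℕ) (hθ1 : θ 1 = dθ) (hχ1 : χ 1 = dχ)
    (he : ((P : Subgroup G).subgroupOf N).index ∣ dχ) (hq : q * dχ = dθ) :
    ∃ k : ℤ, classInner (indFun N ((q : ℤ) • χ - θ)) ψ = (q : ℂ) * k := by
  classical
  letI : Fintype (IrrCharacter N) := Fintype.ofFinite _
  have hPN : (P : Subgroup G) ≤ N := by
    rw [hN]
    exact Subgroup.le_normalizer
  have hψc : IsCharacter G ψ := Cfsg.Agent.Helper80.isCharacter_of_irr hψ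
  have hψcl : IsClassFunction G ψ := Cfsg.Agent.Helper79.isCharacter_isClassFunction hψc
  obtain ⟨Ψ, hΨ⟩ : ∃ Ψ : N → ℂ, Ψ = fun h : N => ψ h := ⟨_, rfl⟩
  have hΨc : IsCharacter N Ψ := by
    rw [hΨ]
    exact Cfsg.Agent.Helper79.isCharacter_restrict hψc N
  obtain ⟨mult, hmult⟩ := Cfsg.Agent.Helper75.exists_nat_mult hΨc
  have hfrob : ∀ α : N → ℂ, classInner (indFun N α) ψ = classInner α Ψ := by
    intro α
    rw [hΨ]
    exact Cfsg.Agent.Helper3.frobenius_reciprocity N α ψ hψcl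
  have hmult' : ∀ φ : IrrCharacter N, classInner (φ : N → ℂ) Ψ = mult φ := by
    intro φ
    rw [Cfsg.Agent.Helper75.classInner_conj_symm, hmult]
    simp
  have hrel : ∀ φ : IrrCharacter N,
      (∃ z : N, (z : G) ∈ Z ∧ (φ : N → ℂ) z ≠ (φ : N → ℂ) 1) →
      (dθ : ℂ) * mult φ = (φ : N → ℂ) 1 * mult ⟨θ, hθ⟩ := by
    intro φ hφZ
    obtain ⟨dφ, hdφ⟩ : ∃ dφ : ℕ, (φ : N → ℂ) 1 = dφ := ⟨_, Cfsg.Agent.Helper80.irr_one_eq φ⟩
    have hγ : (dθ : ℤ) • (φ : N → ℂ) - (dφ : ℤ) • θ ∈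
        zspanOn {φ : N → ℂ | IsIrrCharacter N φ ∧ ∃ z : N, (z : G) ∈ Z ∧ φ z ≠ φ 1}
          ({1}ᶜ : Set N) := by
      refine ⟨Submodule.sub_mem _ (Submodule.smul_mem _ _ (Submodule.subset_span ⟨φ.2, hφZ⟩))
        (Submodule.smul_mem _ _ (Submodule.subset_span ⟨hθ, hθZ⟩)), fun w hw => ?_⟩
      have hw1 : w = 1 := by simpa using hw
      subst hw1
      rw [Pi.sub_apply, Pi.smul_apply, Pi.smul_apply, zsmul_eq_mul, zsmul_eq_mul, hdφ, hθ1]
      push_cast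
      ring
    have h0 := horth _ hγ
    rw [hfrob, Cfsg.Agent.Helper75.classInner_sub_left,
      Cfsg.Agent.Helper14.Coh.classInner_zsmul_left,
      Cfsg.Agent.Helper14.Coh.classInner_zsmul_left, hmult' φ] at h0
    have h1 := hmult' ⟨θ, hθ⟩
    rw [hdφ]
    push_cast at h0
    linear_combination h0 + (dφ : ℂ) * h1
  have hdec : Ψ = ∑ φ : IrrCharacter N, (mult φ : ℂ) • (φ : N → ℂ) := by
    have h := Cfsg.Agent.Helper75.character_eq_sum_irr hΨc
    simp only [hmult] at h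
    exact h
  have hkey : ∀ z : N, (z : G) ∈ Z → z ≠ 1 →
      (dθ : ℂ) * (Ψ 1 - Ψ z) = (mult ⟨θ, hθ⟩ : ℂ) * (Fintype.card N : ℂ) := by
    intro z hz hz1
    have h1 : (dθ : ℂ) * (Ψ 1 - Ψ z) = ∑ φ : IrrCharacter N,
        (dθ : ℂ) * mult φ * ((φ : N → ℂ) 1 - (φ : N → ℂ) z) := by
      have h1a : Ψ 1 = ∑ φ : IrrCharacter N, (mult φ : ℂ) * (φ : N → ℂ) 1 := by
        conv_lhs => rw [hdec]
        rw [Finset.sum_apply]
        rfl
      have h1b : Ψ z = ∑ φ : IrrCharacter N, (mult φ : ℂ) * (φ : N → ℂ) z := by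
        conv_lhs => rw [hdec]
        rw [Finset.sum_apply]
        rfl
      rw [h1a, h1b, ← Finset.sum_sub_distrib, Finset.mul_sum]
      apply Finset.sum_congr rfl
      intro φ _
      ring
    have h2 : ∀ φ : IrrCharacter N,
        (dθ : ℂ) * mult φ * ((φ : N → ℂ) 1 - (φ : N → ℂ) z) = (mult ⟨θ, hθ⟩ : ℂ) *
          ((φ : N → ℂ) 1 * (φ : N → ℂ) 1 - (φ : N → ℂ) 1 * (φ : N → ℂ) z) := by
      intro φ
      by_cases hφZ : ∃ z : N, (z : G) ∈ Z ∧ (φ : N → ℂ) z ≠ (φ : N → ℂ) 1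
      · rw [hrel φ hφZ]
        ring
      · push Not at hφZ
        rw [hφZ z hz]
        ring
    rw [h1, Finset.sum_congr rfl (fun φ _ => h2 φ), ← Finset.mul_sum, Finset.sum_sub_distrib,
      Cfsg.Agent.Helper80.irr_sum_degree_sq, Cfsg.Agent.Helper80.irr_sum_degree_mul_of_ne_one hz1,
      sub_zero]
  have hdθ0 : (dθ : ℂ) ≠ 0 := by
    rw [← hθ1]
    exact Cfsg.Agent.Helper3.irr_apply_one_ne_zero hθ
  obtain ⟨z₀, hz₀Z, hz₀ne⟩ := hθZ
  have hz₀1 : z₀ ≠ 1 := fun h => hz₀ne (by rw [h])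
  have hZN : ∀ z ∈ Z, z ∈ N := fun z hz => hPN (hZP hz)
  have hval : ∀ z ∈ Z, z ≠ 1 →
      (dθ : ℂ) * (ψ 1 - ψ z) = (mult ⟨θ, hθ⟩ : ℂ) * (Fintype.card N : ℂ) := by
    intro z hz hz1
    have h := hkey ⟨z, hZN z hz⟩ hz (fun h => hz1 (congrArg Subtype.val h))
    rw [hΨ] at h
    exact h
  have hconst : ∀ z ∈ Z, ∀ z' ∈ Z, z ≠ 1 → z' ≠ 1 → ψ z = ψ z' := by
    intro z hz z' hz' hz1 hz'1
    have h1 := hval z hz hz1
    have h2 := hval z' hz' hz'1
    have h3 : (dθ : ℂ) * (ψ z - ψ z') = 0 := by linear_combination h2 - h1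
    rcases mul_eq_zero.mp h3 with h | h
    · exact absurd h hdθ0
    · exact sub_eq_zero.mp h
  have hcardN : Fintype.card N
      = ((P : Subgroup G).subgroupOf N).index * Nat.card (P : Subgroup G) := by
    rw [← Nat.card_eq_fintype_card, ← Subgroup.index_mul_card ((P : Subgroup G).subgroupOf N),
      Nat.card_congr (Subgroup.subgroupOfEquivOfLe hPN).toEquiv]
  have he0 : (((P : Subgroup G).subgroupOf N).index : ℤ) ≠ 0 := by
    have h : ((P : Subgroup G).subgroupOf N).index ≠ 0 := Subgroup.index_ne_zero_of_finite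
    exact_mod_cast h
  have h1 := hval (z₀ : G) hz₀Z (fun h => hz₀1 (Subtype.ext h))
  subst hN
  obtain ⟨n, dd, hn, hdd, hdvd⟩ := ti_sylow_degree_congr p P hTI hodd Z hZP hZn hZc ψ hψ hconst
    (z₀ : G) hz₀Z (fun h => hz₀1 (Subtype.ext h))
  obtain ⟨k', hk'⟩ := hdvd
  rw [hn, hdd, hcardN] at h1
  obtain ⟨a, ha⟩ := he
  have hmultθ : (mult ⟨θ, hθ⟩ : ℤ) = q * (a * k') := by
    have hP0 : (Nat.card (P : Subgroup G) : ℤ) ≠ 0 := by exact_mod_cast Nat.card_pos.ne'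
    have h3 : (dθ : ℤ) * (dd - n) = (mult ⟨θ, hθ⟩ : ℤ) *
        ((((P : Subgroup G).subgroupOf
          (Subgroup.normalizer ((P : Subgroup G) : Set G))).index : ℤ) *
          (Nat.card (P : Subgroup G) : ℤ)) := by
      have h2 : (((dθ : ℤ) * (dd - n) : ℤ) : ℂ) = (((mult ⟨θ, hθ⟩ : ℤ) *
          ((((P : Subgroup G).subgroupOf
            (Subgroup.normalizer ((P : Subgroup G) : Set G))).index : ℤ) *
            (Nat.card (P : Subgroup G) : ℤ)) : ℤ) : ℂ) := by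
        push_cast
        push_cast at h1
        rw [h1]
      exact_mod_cast h2
    rw [hk', ← hq, ha] at h3
    push_cast at h3
    have h4 : ((((P : Subgroup G).subgroupOf
          (Subgroup.normalizer ((P : Subgroup G) : Set G))).index : ℤ) *
          (Nat.card (P : Subgroup G) : ℤ)) * ((q : ℤ) * (a * k'))
        = ((((P : Subgroup G).subgroupOf
          (Subgroup.normalizer ((P : Subgroup G) : Set G))).index : ℤ) *
          (Nat.card (P : Subgroup G) : ℤ)) * (mult ⟨θ, hθ⟩ : ℤ) := by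
      linarith
    exact (mul_left_cancel₀ (mul_ne_zero he0 hP0) h4).symm
  refine ⟨(mult ⟨χ, hχ⟩ : ℤ) - a * k', ?_⟩
  rw [hfrob, Cfsg.Agent.Helper75.classInner_sub_left,
    Cfsg.Agent.Helper14.Coh.classInner_zsmul_left]
  have e1 := hmult' ⟨χ, hχ⟩
  have e2 := hmult' ⟨θ, hθ⟩
  have e3 : (((mult ⟨θ, hθ⟩ : ℕ) : ℤ) : ℂ) = (((q : ℤ) * (a * k') : ℤ) : ℂ) := by rw [hmultθ]
  push_cast at e3 ⊢
  linear_combination (q : ℂ) * e1 - e2 - e3

end Cfsg.Agent.Helper25
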