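import Mathlib
import Cfsg.Agent.Helper25.Sib5
import Cfsg.Agent.Helper79.Codegree
import Cfsg.Agent.Helper4.IndNormal

/-!
# Sibley's coherence theorem, abstract form for a `p`-group kernel (helper25)

`coh_frob_pgroup`: Let `K` be a Frobenius-type normal `p`-subgroup of the group `L` of odd order,
`Z ≤ K` normal in `L` of order at least three.  Suppose that the set of irreducible characters of
`L` not trivial on `Z` is coherent for `τ`, and that the multiplicities of the irreducible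
characters of `G` satisfy the divisibility property `hdiv`.  Then the set of irreducible
characters of `L` not trivial on `K` is coherent.
-/

set_option autoImplicit false
set_option linter.style.haveILetI false
set_option linter.unusedVariables false
set_option linter.unusedSectionVars false
set_option maxHeartbeats 1000000

namespace Cfsg.Agent.Helper25

open Cfsg

section Sib6

variable {L : Type*} [Group L] [Fintype L]

theorem coh_frob_pgroup {G : Type*} [Group G] [Fintype G] (K : Subgroup L) [hK : K.Normal]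
    (hC : ∀ n ∈ K, n ≠ 1 → Subgroup.centralizer ({n} : Set L) ≤ K)
    (hodd : Odd (Nat.card L))
    (p n : ℕ) (hp : p.Prime) (hKcard : Nat.card K = p ^ n)
    (Z : Subgroup L) [hZ : Z.Normal] (hZK : Z ≤ K) (hZ3 : 3 ≤ Nat.card Z)
    (τ : (L → ℂ) → (G → ℂ))
    (hτ : IsLinearIsometryOn
      (zspanOn {χ : L → ℂ | IsIrrCharacter L χ ∧ ∃ x ∈ K, χ x ≠ χ 1} ({1}ᶜ : Set L)) τ)
    (hτ1 : ∀ α ∈ zspanOn {χ : L → ℂ | IsIrrCharacter L χ ∧ ∃ x ∈ K, χ x ≠ χ 1} ({1}ᶜ : Set L),
      τ α 1 = 0)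
    (hcoh : IsCoherent {χ : L → ℂ | IsIrrCharacter L χ ∧ ∃ z ∈ Z, χ z ≠ χ 1} ({1}ᶜ : Set L) τ)
    (hdiv : ∀ ψ : G → ℂ, IsIrrCharacter G ψ → ∀ θ : L → ℂ, IsIrrCharacter L θ →
      (∃ z ∈ Z, θ z ≠ θ 1) →
      (∀ γ ∈ zspanOn {χ : L → ℂ | IsIrrCharacter L χ ∧ ∃ z ∈ Z, χ z ≠ χ 1} ({1}ᶜ : Set L),
        classInner (τ γ) ψ = 0) →
      ∀ χ : L → ℂ, IsIrrCharacter L χ → ∀ dθ dχ q : ℕ, θ 1 = dθ → χ 1 = dχ → K.index ∣ dχ →
        q * dχ = dθ → ∃ k : ℤ, classInner (τ ((q : ℤ) • χ - θ)) ψ = (q : ℂ) * k) :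
    IsCoherent {χ : L → ℂ | IsIrrCharacter L χ ∧ ∃ x ∈ K, χ x ≠ χ 1} ({1}ᶜ : Set L) τ := by
  classical
  letI : Fintype (IrrCharacter L) := Fintype.ofFinite _
  obtain ⟨F, hF, hFmem, hFsum⟩ := exists_irr_finset (L := L) (fun χ => ∃ x ∈ K, χ x ≠ χ 1)
  obtain ⟨F₀, hF₀, hF₀mem, hF₀sum⟩ := exists_irr_finset (L := L) (fun χ => ∃ z ∈ Z, χ z ≠ χ 1)
  have hsub : F₀ ⊆ F := by
    intro ξ hξ
    obtain ⟨h1, z, hz, h2⟩ := (hF₀mem ξ).mp hξ
    exact (hFmem ξ).mpr ⟨h1, z, hZK hz, h2⟩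
  have hirr : ∀ ξ ∈ F, IsIrrCharacter L ξ := fun ξ hξ => ((hFmem ξ).mp hξ).1
  have hd : ∀ ξ ∈ F, ξ 1 = (charDegree ξ : ℂ) := fun ξ hξ =>
    Cfsg.Agent.Helper79.isCharacter_one_eq_charDegree
      (Cfsg.Agent.Helper80.isCharacter_of_irr (hirr ξ hξ))
  have hepos : 0 < K.index := Nat.pos_of_ne_zero Subgroup.index_ne_zero_of_finite
  have hdegF : ∀ ξ ∈ F, ∃ j : ℕ, charDegree ξ = K.index * p ^ j := by
    intro ξ hξ
    obtain ⟨h1, h2⟩ := (hFmem ξ).mp hξ
    obtain ⟨θ, hθ, -, rfl⟩ := frob_irr_mem_induced K hC h1 h2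
    have h3 := Cfsg.Agent.Helper79.isIrrCharacter_charDegree_dvd_card hθ
    rw [hKcard] at h3
    obtain ⟨j, -, hj⟩ := (Nat.dvd_prime_pow hp).mp h3
    refine ⟨j, ?_⟩
    have h4 := hd _ hξ
    rw [Cfsg.Agent.Helper79.indFun_apply_one, Cfsg.Agent.Helper79.isCharacter_one_eq_charDegree
      (Cfsg.Agent.Helper80.isCharacter_of_irr hθ), hj] at h4
    exact_mod_cast h4.symm
  obtain ⟨⟨α₀, hα₀, hα₀ne⟩, τ₀, hτ₀, hτ₀τ⟩ := hcoh
  rw [← hF₀] at hα₀ hτ₀ hτ₀τ hdiv
  rw [← hF] at hτ hτ1 ⊢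
  have hF₀ne : F₀.Nonempty := by
    by_contra hne
    rw [Finset.not_nonempty_iff_eq_empty] at hne
    apply hα₀ne
    have h1 := hα₀.1
    unfold zspan at h1
    rw [hne, Finset.coe_empty, Submodule.span_empty] at h1
    exact (Submodule.mem_bot ℤ).mp h1
  obtain ⟨θ, hθ⟩ := hF₀ne
  obtain ⟨hθirr, zθ, hzθ, hθz⟩ := (hF₀mem θ).mp hθ
  have hθ'irr : IsIrrCharacter L (conjFun θ) := isIrrCharacter_conjFun_of_irr hθirr
  have hθ' : conjFun θ ∈ F₀ := by
    refine (hF₀mem _).mpr ⟨hθ'irr, zθ, hzθ, ?_⟩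
    intro h
    apply hθz
    unfold conjFun at h
    exact (starRingEnd ℂ).injective h
  have hne : conjFun θ ≠ θ := by
    intro h
    have h1 : θ = fun _ => 1 := by
      apply Cfsg.Agent.Helper4.irr_eq_one_of_real_of_odd hodd hθirr
      intro g
      exact congrFun h g
    apply hθz
    rw [h1]
  have hdeg : charDegree (conjFun θ) = charDegree θ := by
    have h1 := hd _ (hsub hθ')
    have h2 := hd _ (hsub hθ)
    rw [conjFun_one_of_isCharacter (Cfsg.Agent.Helper80.isCharacter_of_irr hθirr), h2] at h1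
    exact_mod_cast h1.symm
  obtain ⟨i, hi⟩ := hdegF θ (hsub hθ)
  have hsumZ := irr_sum_sq_nontrivial_on (L := L) Z
  rw [← hF₀sum (fun ξ => charDegree ξ ^ 2)] at hsumZ
  have hcardL : Fintype.card L = Z.index * Nat.card Z := by
    rw [← Nat.card_eq_fintype_card, Subgroup.index_mul_card]
  have hZpos : 0 < Z.index := Nat.pos_of_ne_zero Subgroup.index_ne_zero_of_finite
  have hmass0 : 2 * Z.index ≤ ∑ ξ ∈ F₀, charDegree ξ ^ 2 := by
    have h1 : 3 * Z.index ≤ Fintype.card L := by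
      rw [hcardL, mul_comm]
      exact Nat.mul_le_mul_left _ hZ3
    omega
  have hp2 : 2 ≤ p := hp.two_le
  obtain ⟨τ₁, hτ₁, hτ₁τ⟩ := coh_chain F₀ F hsub hirr charDegree hd τ hτ hτ1 τ₀ hτ₀ hτ₀τ θ
    (conjFun θ) hθ hθ' hne hdeg (by
      intro χ hχ hχ0
      obtain ⟨hχirr, hχK⟩ := (hFmem χ).mp hχ
      have hχZ : ∀ z ∈ Z, χ z = χ 1 := by
        intro z hz
        by_contra hcon
        exact hχ0 ((hF₀mem χ).mpr ⟨hχirr, z, hz, hcon⟩)
      obtain ⟨j, hj⟩ := hdegF χ hχ
      rcases Nat.lt_or_ge i j with hij | hji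
      · right
        refine ⟨p ^ (j - i), pow_pos hp.pos _, ?_, ?_⟩
        · rw [hj, hi, mul_comm (p ^ (j - i)), mul_assoc, ← pow_add]
          congr 2
          omega
        · have h1 := Cfsg.Agent.Helper80.irr_sum_sq_of_le_ker (G := L) Z
          have h2 : charDegree χ ^ 2 ≤ Z.index := by
            rw [← h1]
            refine Finset.single_le_sum
              (f := fun φ : IrrCharacter L => charDegree (φ : L → ℂ) ^ 2)
              (a := (⟨χ, hχirr⟩ : IrrCharacter L)) (fun _ _ => Nat.zero_le _) ?_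
            simp only [Finset.mem_filter, Finset.mem_univ, true_and]
            exact hχZ
          have hm1 : 1 < p ^ (j - i) := Nat.one_lt_pow (by omega) (by omega)
          have hχm : charDegree χ = p ^ (j - i) * charDegree θ := by
            rw [hj, hi, mul_comm (p ^ (j - i)), mul_assoc, ← pow_add]
            congr 2
            omega
          have hθpos : 0 < charDegree θ := by
            rw [hi]
            exact Nat.mul_pos hepos (pow_pos hp.pos _)
          have h3 : 2 * p ^ (j - i) * charDegree θ ^ 2 < 2 * charDegree χ ^ 2 := by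
            rw [hχm]
            have h4 : p ^ (j - i) * charDegree θ ^ 2 < (p ^ (j - i) * charDegree θ) ^ 2 := by
              have h5 : (p ^ (j - i) * charDegree θ) ^ 2
                  = p ^ (j - i) * (p ^ (j - i) * charDegree θ ^ 2) := by ring
              rw [h5]
              have h6 : 0 < p ^ (j - i) * charDegree θ ^ 2 :=
                Nat.mul_pos (by omega) (pow_pos hθpos 2)
              nlinarith
            rw [mul_assoc]
            omega
          omega
      · left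
        refine ⟨p ^ (i - j), pow_pos hp.pos _, ?_, ?_⟩
        · rw [hj, hi, mul_comm (p ^ (i - j)), mul_assoc, ← pow_add]
          congr 2
          omega
        · intro ψ hψ horth
          exact hdiv ψ hψ θ hθirr ⟨zθ, hzθ, hθz⟩ horth χ hχirr (charDegree θ) (charDegree χ)
            (p ^ (i - j)) (hd θ (hsub hθ)) (hd χ hχ) (by rw [hj]; exact Dvd.intro _ rfl) (by
              rw [hj, hi, mul_comm (p ^ (i - j)), mul_assoc, ← pow_add]
              congr 2
              omega))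
  exact ⟨⟨α₀, Cfsg.Agent.Helper14.ZS.zspanOn_mono (Finset.coe_subset.mpr hsub) hα₀, hα₀ne⟩,
    τ₁, hτ₁, hτ₁τ⟩

end Sib6

end Cfsg.Agent.Helper25
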